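import Cfsg.Agent.S0440
import Cfsg.Agent.S1631
import Cfsg.Agent.Lib.ThreeTrans.Uniq.Extend

/-!
# Identification with the transvection classes of `Sp(2m,2)` and `PSU(n,2)`

A map of a 3-transposition class onto the points of the polar space which carries commuting to
orthogonality carries conjugation to conjugation: in either model the only members commuting with all
members that commute with two non-commuting `a`, `b` are `a`, `b` and `a * b * a`.
-/

set_option autoImplicit false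
set_option linter.unusedSectionVars false

namespace CfsgLib.ThreeTrans.PolarTwins.Models

open Cfsg CfsgLib.ThreeTrans

/-- A bijection respecting commuting respects conjugation, if the target has no further members on
the span of two non-commuting ones. -/
theorem map_braid {G₁ G₂ : Type*} [Group G₁] [Group G₂] {D₁ : Set G₁} {D₂ : Set G₂}
    (h₁ : IsThreeTranspositionGroup D₁) (h₂ : IsThreeTranspositionGroup D₂) {f : G₁ → G₂}
    (hf : Set.BijOn f D₁ D₂) (hc : ∀ a ∈ D₁, ∀ b ∈ D₁, (Commute a b ↔ Commute (f a) (f b)))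
    (hsat : ∀ a ∈ D₂, ∀ b ∈ D₂, ∀ c ∈ D₂, ¬ Commute a b →
      (∀ x ∈ D₂, Commute x a → Commute x b → Commute x c) → c = a ∨ c = b ∨ c = a * b * a) :
    ∀ a ∈ D₁, ∀ b ∈ D₁, f (a * b * a) = f a * f b * f a := by
  intro a ha b hb
  by_cases h : Commute a b
  · have h' := (hc a ha b hb).1 h
    rw [h.eq, mul_assoc, mul_self h₁.1 ha, mul_one, h'.eq, mul_assoc, mul_self h₂.1 (hf.mapsTo ha),
      mul_one]
  · have hm : a * b * a ∈ D₁ := conj_mem_left (conjClosed_of_group h₁) ha hb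
    have hne1 : a * b * a ≠ a := fun e => by
      have e' : a * b * a = 1 * a := e.trans (one_mul a).symm
      exact h ((mul_eq_one_iff_eq' h₁.1 hb).1 (mul_right_cancel e') ▸ Commute.refl b)
    have hne2 : a * b * a ≠ b := fun e => h (by
      have := congrArg (· * a) e
      show a * b = b * a
      simpa [mul_assoc, mul_self h₁.1 ha] using this)
    refine ((hsat _ (hf.mapsTo ha) _ (hf.mapsTo hb) _ (hf.mapsTo hm) (fun k => h ((hc a ha b hb).2 k))
      fun x hx hxa hxb => ?_).resolve_left fun e => hne1 (hf.injOn hm ha e)).resolve_left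
      fun e => hne2 (hf.injOn hm hb e)
    obtain ⟨y, hy, rfl⟩ := hf.surjOn hx
    exact (hc y hy _ hm).1 ((((hc y hy a ha).2 hxa).mul_right ((hc y hy b hb).2 hxb)).mul_right
      ((hc y hy a ha).2 hxa))

/-! ### The symplectic group -/

section Sp

open CfsgLib.Sp

variable {m : ℕ}

local notation "V" => (Fin m ⊕ Fin m → ZMod 2)
local notation "ω" => sympForm m (ZMod 2)

theorem sp_tmat_injective {v w : V} (hv : v ≠ 0) (h : tmat v (1 : ZMod 2) = tmat w 1) : v = w := by
  obtain ⟨x, hx⟩ := exists_pair_one hv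
  have h1 := congrArg (fun A : Matrix.symplecticGroup (Fin m) (ZMod 2) => Matrix.mulVec A.1 x) h
  simp only [tmat, sympTransvection_mulVec, one_mul, add_right_inj] at h1
  rw [sympForm_flip, hx, CharTwo.neg_eq, one_smul] at h1
  rcases Cfsg.Agent.S0440.zmod_two_cases (ω x w) with h2 | h2 <;> rw [h2] at h1
  · exact absurd (h1.trans (zero_smul _ _)) hv
  · exact h1.trans (one_smul _ _)

theorem sp_commute_iff {v w : V} (hv : v ≠ 0) (hw : w ≠ 0) :
    Commute (tmat v (1 : ZMod 2)) (tmat w 1) ↔ ω v w = 0 := by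
  have h := Cfsg.Agent.S0440.conj_cases v w
  have key : Commute (tmat v (1 : ZMod 2)) (tmat w 1) ↔
      tmat (w + ω w v • v) (1 : ZMod 2) = tmat w 1 := by
    rw [← h, mul_inv_eq_iff_eq_mul]
    rfl
  rw [key]
  have hflip : ω w v = ω v w := by rw [sympForm_flip, CharTwo.neg_eq]
  refine ⟨fun e => ?_, fun e => by rw [hflip, e, zero_smul, add_zero]⟩
  have := (sp_tmat_injective hw e.symm).symm
  rw [add_eq_left, smul_eq_zero] at this
  exact hflip ▸ this.resolve_right hv

theorem sp_saturated {v w u : V} (hu : u ≠ 0) (hvw : ω v w = 1)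
    (h : ∀ x : V, x ≠ 0 → ω x v = 0 → ω x w = 0 → ω x u = 0) : u = v ∨ u = w ∨ u = v + w := by
  have hwv : ω w v = 1 := by rw [sympForm_flip, CharTwo.neg_eq, hvw]
  have e : u = ω u w • v + ω u v • w := by
    rw [← sub_eq_zero]
    refine sympBilin_separatingLeft _ fun y => ?_
    simp only [map_sub, map_add, map_smul, LinearMap.sub_apply, LinearMap.add_apply,
      LinearMap.smul_apply, smul_eq_mul, sympBilin_apply]
    set x := y - (ω y w • v + ω y v • w) with hx
    have hp : ∀ z, ω x z = ω y z - (ω y w * ω v z + ω y v * ω w z) := fun z => by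
      simp only [hx, ← sympBilin_apply, map_sub, map_add, map_smul, LinearMap.sub_apply,
        LinearMap.add_apply, LinearMap.smul_apply, smul_eq_mul]
    have hxu : ω x u = 0 := by
      by_cases h0 : x = 0
      · rw [h0, ← sympBilin_apply, map_zero, LinearMap.zero_apply]
      refine h x h0 ?_ ?_ <;> rw [hp]
      · rw [sympForm_self, hwv, mul_zero, zero_add, mul_one, sub_self]
      · rw [sympForm_self, hvw, mul_zero, add_zero, mul_one, sub_self]
    rw [hp] at hxu
    simp only [sympForm_flip u v, sympForm_flip u w, sympForm_flip u y, sympForm_flip y v,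
      sympForm_flip y w, CharTwo.neg_eq] at hxu ⊢
    linear_combination hxu
  rcases Cfsg.Agent.S0440.zmod_two_cases (ω u w) with h1 | h1 <;>
    rcases Cfsg.Agent.S0440.zmod_two_cases (ω u v) with h2 | h2 <;> rw [h1, h2] at e
  · exact absurd (e.trans (by simp)) hu
  · exact Or.inr (Or.inl (e.trans (by simp)))
  · exact Or.inl (e.trans (by simp))
  · exact Or.inr (Or.inr (e.trans (by simp)))

/-- A 3-transposition class whose commuting is the orthogonality of a symplectic space over two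
elements is the class of transvections. -/
theorem sp_of_points {G : Type*} [Group G] [Finite G] {D : Set G} (h : IsThreeTranspositionGroup D)
    (hZ : Subgroup.center G = ⊥) {m : ℕ} (hm : 1 ≤ m) (φ : G → Fin m ⊕ Fin m → ZMod 2)
    (hbij : Set.BijOn φ D {v | v ≠ 0})
    (hcomm : ∀ a ∈ D, ∀ b ∈ D, (Commute a b ↔ sympForm m (ZMod 2) (φ a) (φ b) = 0)) :
    ∃ e : G ≃* Matrix.symplecticGroup (Fin m) (ZMod 2),
      e '' D = {g : Matrix.symplecticGroup (Fin m) (ZMod 2) |
        ((g : Matrix (Fin m ⊕ Fin m) (Fin m ⊕ Fin m) (ZMod 2)) - 1).rank = 1} := by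
  have h₂ := group_of_class (Cfsg.Agent.S0440.result m hm)
  have hZ₂ : Subgroup.center (Matrix.symplecticGroup (Fin m) (ZMod 2)) = ⊥ := by
    refine (Subgroup.eq_bot_iff_forall _).2 fun A hA => Subtype.ext ?_
    rcases mem_center_iff.1 hA with e | e
    · exact e
    · exact e.trans (by ext i j; simp [CharTwo.neg_eq])
  set f : G → Matrix.symplecticGroup (Fin m) (ZMod 2) := fun a => tmat (φ a) 1 with hf
  have hfb : Set.BijOn f D (Cfsg.Agent.S0440.Dset m) := by
    refine ⟨fun a ha => (Cfsg.Agent.S0440.mem_D_iff _).2 ⟨φ a, hbij.mapsTo ha, rfl⟩,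
      fun a ha b hb e => hbij.injOn ha hb (sp_tmat_injective (hbij.mapsTo ha) e), fun g hg => ?_⟩
    obtain ⟨v, hv, rfl⟩ := (Cfsg.Agent.S0440.mem_D_iff g).1 hg
    obtain ⟨a, ha, rfl⟩ := hbij.surjOn hv
    exact ⟨a, ha, rfl⟩
  have hbr := map_braid h h₂ hfb
    (fun a ha b hb => (hcomm a ha b hb).trans (sp_commute_iff (hbij.mapsTo ha) (hbij.mapsTo hb)).symm) ?_
  · obtain ⟨e, -, he⟩ := Uniq.exists_mulEquiv h h₂ hZ hZ₂ hfb hbr
    exact ⟨e, he⟩
  intro a ha b hb c hc hab hcom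
  obtain ⟨v, hv, rfl⟩ := (Cfsg.Agent.S0440.mem_D_iff a).1 ha
  obtain ⟨w, hw, rfl⟩ := (Cfsg.Agent.S0440.mem_D_iff b).1 hb
  obtain ⟨u, hu, rfl⟩ := (Cfsg.Agent.S0440.mem_D_iff c).1 hc
  rw [sp_commute_iff hv hw] at hab
  have hvw := (Cfsg.Agent.S0440.zmod_two_cases _).resolve_left hab
  have hwv : sympForm m (ZMod 2) w v = 1 := by rw [sympForm_flip, CharTwo.neg_eq, hvw]
  rcases sp_saturated hu hvw fun x hx hxv hxw => (sp_commute_iff hx hu).1
    (hcom _ ((Cfsg.Agent.S0440.mem_D_iff _).2 ⟨x, hx, rfl⟩) ((sp_commute_iff hx hv).2 hxv)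
      ((sp_commute_iff hx hw).2 hxw)) with rfl | rfl | rfl
  · exact Or.inl rfl
  · exact Or.inr (Or.inl rfl)
  · refine Or.inr (Or.inr ?_)
    have h' := Cfsg.Agent.S0440.conj_cases v w
    rw [inv_eq h₂.1 ha, hwv, one_smul, add_comm w v] at h'
    exact h'.symm

end Sp

/-! ### The unitary group -/

open CfsgLib.Unitary

section Abstract

universe uF uV

variable {F : Type uF} [Field F] {V : Type uV} [AddCommGroup V] [Module F V] [FiniteDimensional F V]
  {σ : F →+* F} {B : V →ₛₗ[σ] V →ₗ[F] F} (hB : HForm B)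
include hB

/-- Transvection centres are determined up to scalars. -/
theorem centre_unique {g : V ≃ₗ[F] V} {u v : V} (hu : u ≠ 0) (hgu : IsTv B g u 1) (hgv : IsTv B g v 1) :
    ∃ c : F, u = c • v := by
  obtain ⟨x, hx⟩ := Cfsg.Agent.S1631.exists_dual hB hu
  refine ⟨B v x, ?_⟩
  have e := (hgu x).symm.trans (hgv x)
  rw [← hB.symm, hx, map_one, one_mul, one_smul, one_mul, add_right_inj] at e
  exact e

/-- The isotropic vectors separate. -/
theorem eq_zero_of_orth_isotropic (h2 : 2 ≤ Module.finrank F V) {u : V}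
    (hu : ∀ x, B x x = 0 → B u x = 0) : u = 0 := by
  obtain ⟨e, he0, he⟩ := exists_isotropic hB h2
  obtain ⟨p, hp, hep⟩ := exists_partner hB he0 he
  have hpe : B p e = 1 := by rw [← hB.symm, hep, map_one]
  obtain ⟨a, ha⟩ : ∃ a, a + σ a ≠ 0 := by
    by_contra hc
    push Not at hc
    have h1 := hc 1
    rw [map_one] at h1
    exact hB.ne (RingHom.ext fun a => by
      have := hc a
      rw [RingHom.id_apply]
      linear_combination this - a * h1)
  refine hB.nondeg u fun y => ?_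
  set y' := y - B p y • e - B e y • p with hy'
  have h1 : B e y' = 0 := by simp [hy', he, hep]
  have h1' : B y' e = 0 := herm_zero hB h1
  have h3 : B p y' = 0 := by simp [hy', hp, hpe]
  have h3' : B y' p = 0 := herm_zero hB h3
  set t := -B y' y' / (a + σ a) * a with ht
  have hfix : σ (-B y' y' / (a + σ a)) = -B y' y' / (a + σ a) := by
    rw [map_div₀, map_neg, hB.symm, map_add, hB.invol, add_comm (σ a) a]
  have htr : t + σ t = -B y' y' := by
    rw [ht, map_mul, hfix, ← mul_add, div_mul_cancel₀ _ ha]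
  have hz : B (y' + e + t • p) (y' + e + t • p) = 0 := by
    simp only [map_add, map_smulₛₗ, LinearMap.add_apply, LinearMap.smul_apply, smul_eq_mul,
      RingHom.id_apply, he, hp, hep, hpe, h1, h1', h3, h3', mul_zero, mul_one, add_zero, zero_add]
    linear_combination htr
  have := hu _ hz
  simp only [map_add, map_smul, hy', map_sub, smul_eq_mul, hu e he, hu p hp, mul_zero, add_zero,
    sub_zero] at this
  exact this

/-- An isotropic vector orthogonal to all isotropic vectors orthogonal to a hyperbolic pair is in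
their span. -/
theorem mem_span_pair_of_orth (h4 : 4 ≤ Module.finrank F V) {v w u : V} (hv : B v v = 0)
    (hw : B w w = 0) (hvw : B v w = 1)
    (hu : ∀ x, B x x = 0 → B v x = 0 → B w x = 0 → B u x = 0) : u = B w u • v + B v u • w := by
  have hwv : B w v = 1 := by rw [← hB.symm, hvw, map_one]
  set W := LinearMap.ker (B v) ⊓ LinearMap.ker (B w) with hW
  have hmem : ∀ x, x ∈ W ↔ B v x = 0 ∧ B w x = 0 := fun x => by simp [hW]
  have hπ : ∀ y, y - B w y • v - B v y • w ∈ W := fun y => by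
    rw [hmem]; simp [hv, hw, hvw, hwv]
  have hWd : 2 ≤ Module.finrank F W := by
    have e1 := LinearMap.finrank_range_add_finrank_ker ((B v).prod (B w))
    have e2 := Submodule.finrank_le (LinearMap.range ((B v).prod (B w)))
    rw [Module.finrank_prod, Module.finrank_self] at e2
    rw [LinearMap.ker_prod, ← hW] at e1
    omega
  have hBW : HForm (resForm B W) :=
    { ne := hB.ne
      invol := hB.invol
      symm := fun x y => hB.symm _ _
      norm := hB.norm
      nondeg := fun x hx => Subtype.ext (hB.nondeg _ fun y => by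
        have e := hx ⟨_, hπ y⟩
        obtain ⟨k1, k2⟩ := (hmem _).1 x.2
        simp only [resForm_apply, map_sub, map_smul, herm_zero hB k1, herm_zero hB k2, smul_eq_mul,
          mul_zero, sub_zero] at e
        exact e) }
  have key := eq_zero_of_orth_isotropic hBW hWd (u := ⟨_, hπ u⟩) fun x hx => by
    obtain ⟨k1, k2⟩ := (hmem _).1 x.2
    simp [hu x.1 hx k1 k2, k1, k2]
  have := congrArg Subtype.val key
  exact sub_eq_zero.1 ((sub_sub u _ _).symm.trans this)

end Abstract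

section Form

universe uF uV

variable {F : Type uF} [Field F] {V : Type uV} [AddCommGroup V] [Module F V] [FiniteDimensional F V]
  {σ : F →+* F} {B : V →ₛₗ[σ] V →ₗ[F] F}
  (hB : HForm B) (h4 : ∀ x : F, x ≠ 0 → σ x * x = 1) (h2 : (2 : F) = 0) (hσ : ∀ x, σ x = x ^ 2)
include hB h4 h2 hσ

/-- The isotropic points on a hyperbolic line. -/
theorem hyperbolic_points {v w u : V} (hv : B v v = 0) (hw : B w w = 0) (hvw : B v w ≠ 0)
    (hu : B u u = 0) {s t : F} (e : u = s • v + t • w) (hu0 : u ≠ 0) :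
    (∃ c : F, c ≠ 0 ∧ u = c • v) ∨ (∃ c : F, c ≠ 0 ∧ u = c • w) ∨
      ∃ c : F, c ≠ 0 ∧ u = c • (w + B v w • v) := by
  by_cases ht : t = 0
  · subst ht
    rw [zero_smul, add_zero] at e
    exact Or.inl ⟨s, fun h => hu0 (by rw [e, h, zero_smul]), e⟩
  by_cases hs : s = 0
  · subst hs
    rw [zero_smul, zero_add] at e
    exact Or.inr (Or.inl ⟨t, ht, e⟩)
  refine Or.inr (Or.inr ⟨t, ht, ?_⟩)
  set c := B v w with hc
  set r := σ s * t * c with hr
  have hwv : B w v = σ c := (hB.symm v w).symm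
  have h1 : r + σ r = 0 := by
    rw [e] at hu
    simp only [map_add, map_smulₛₗ, LinearMap.add_apply, LinearMap.smul_apply, smul_eq_mul,
      RingHom.id_apply, hv, hw, hwv, ← hc, mul_zero, add_zero, zero_add] at hu
    simp only [hr, map_mul, hB.invol]
    linear_combination hu
  have h3 : r = 1 := Cfsg.Agent.S1631.skew_eq_one hB h4 hσ h2
    (mul_ne_zero (mul_ne_zero ((map_ne_zero σ).2 hs) ht) hvw) h1
  have hts : t * c = s := by
    calc t * c = σ s * s * (t * c) := by rw [h4 s hs, one_mul]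
      _ = s * r := by rw [hr]; ring
      _ = s := by rw [h3, mul_one]
  rw [e, smul_add, smul_smul, hts, add_comm]

end Form

section Psu

variable {F : Type} [Field F] {n : ℕ}


/-- `A` is a transvection with centre `v`. -/
def Tv (τ : F →+* F) (A : ↥(Cfsg.SU n F 2)) (v : Fin n → F) : Prop :=
  v ≠ 0 ∧ UnitaryEmbed.hermSesq n τ v v = 0 ∧ IsTv (UnitaryEmbed.hermSesq n τ) (suEquiv n F 2 A) v 1

variable [Fintype F] [DecidableEq F]

theorem psu_model (hF : Fintype.card F = 4) (hn : 4 ≤ n) :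
    ∃ (τ : F →+* F) (hB : HForm (UnitaryEmbed.hermSesq n τ)), (∀ x, τ x = x ^ 2) ∧
      (∀ x : F, x ≠ 0 → τ x * x = 1) ∧ (2 : F) = 0 ∧
      (∀ A : ↥(Cfsg.SU n F 2), (((A : Matrix.SpecialLinearGroup (Fin n) F) : Matrix (Fin n) (Fin n) F) - 1).rank = 1 ↔
        ∃ v, Tv τ A v) ∧
      ∀ v : Fin n → F, v ≠ 0 → UnitaryEmbed.hermSesq n τ v v = 0 → ∃ A : ↥(Cfsg.SU n F 2), Tv τ A v := by
  have hK : Fintype.card F = 2 ^ 2 := by rw [hF]; norm_num
  obtain ⟨τ, hτ, hne, hinv⟩ := CfsgLib.UnitaryEmbed.exists_conj hK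
  have hB := hform_herm (n := n) hK hτ hne hinv
  have h4 : ∀ x : F, x ≠ 0 → τ x * x = 1 := fun x hx => by
    have := FiniteField.pow_card_sub_one_eq_one x hx
    rw [hF] at this
    rw [hτ, ← pow_succ]
    exact this
  have h2 : (2 : F) = 0 := by
    have e : (-1 : F) ^ 3 = 1 := by
      have := FiniteField.pow_card_sub_one_eq_one (-1 : F) (neg_ne_zero.2 one_ne_zero)
      rwa [hF] at this
    linear_combination -e
  refine ⟨τ, hB, hτ, h4, h2, fun A => ?_, fun v hv0 hv => ?_⟩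
  · refine Iff.trans ?_ (Cfsg.Agent.S1631.rank_one hB h4 hτ h2 (suEquiv_isSIsom hτ A))
    rw [Matrix.rank,
      show (((A : Matrix.SpecialLinearGroup (Fin n) F) : Matrix (Fin n) (Fin n) F) - 1).mulVecLin =
        ((suEquiv n F 2 A : (Fin n → F) →ₗ[F] (Fin n → F)) - 1) from LinearMap.ext fun x => by
          rw [Matrix.mulVecLin_apply, Matrix.sub_mulVec, Matrix.one_mulVec]
          show _ = suEquiv n F 2 A x - x
          rw [suEquiv_apply]]
  · have hc : (1 : F) + τ 1 = 0 := by rw [map_one, one_add_one_eq_two, h2]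
    obtain ⟨t, ht, htv⟩ := tv_mem hB (v := v) (c := 1) hv hc
    obtain ⟨A, hA⟩ := exists_suEquiv hτ (tGroup_isSIsom hB ht)
    exact ⟨A, hv0, hv, by rw [hA]; exact htv⟩

variable {τ : F →+* F} (hB : HForm (UnitaryEmbed.hermSesq n τ)) (hτ : ∀ x, τ x = x ^ 2) (hn : 4 ≤ n)
  (hT : ∀ v : Fin n → F, v ≠ 0 → UnitaryEmbed.hermSesq n τ v v = 0 → ∃ A : ↥(Cfsg.SU n F 2), Tv τ A v)
include hB hτ hn hT

/-- A central element fixing a non-zero vector is trivial. -/
theorem central_eq_one {z : ↥(Cfsg.SU n F 2)} (hz : z ∈ Subgroup.center ↥(Cfsg.SU n F 2)) {y : Fin n → F} (hy : y ≠ 0)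
    (hzy : suEquiv n F 2 z y = y) : z = 1 := by
  have hd : 3 ≤ Module.finrank F (Fin n → F) := by rw [Module.finrank_fin_fun]; omega
  obtain ⟨x, hx, hyx⟩ : ∃ x, UnitaryEmbed.hermSesq n τ x x = 0 ∧ UnitaryEmbed.hermSesq n τ y x ≠ 0 := by
    by_contra hc
    push Not at hc
    exact hy (eq_zero_of_orth_isotropic hB (by omega) hc)
  have hx0 : x ≠ 0 := fun h => hyx (by rw [h, map_zero])
  have hcom : ∀ (A : ↥(Cfsg.SU n F 2)) (a : Fin n → F),
      suEquiv n F 2 z (suEquiv n F 2 A a) = suEquiv n F 2 A (suEquiv n F 2 z a) := fun A a => by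
    have e := congrArg (fun g => suEquiv n F 2 g a) (Subgroup.mem_center_iff.1 hz A)
    simpa only [map_mul, LinearEquiv.mul_apply] using e.symm
  obtain ⟨A, -, -, hA⟩ := hT x hx0 hx
  have hzx : suEquiv n F 2 z x = x := by
    have e := hcom A y
    rw [hzy, hA y, map_add, map_smul, hzy, add_right_inj] at e
    refine smul_right_injective (Fin n → F) (?_ : 1 * UnitaryEmbed.hermSesq n τ x y ≠ 0) e
    rw [one_mul]
    exact fun h => hyx (herm_zero hB h)
  have hiso : ∀ a, UnitaryEmbed.hermSesq n τ a a = 0 → suEquiv n F 2 z a = a := fun a ha => by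
    by_cases ha0 : a = 0
    · rw [ha0, map_zero]
    obtain ⟨g, hg, hga⟩ := transitive_isotropic hB hd hx0 ha0 hx ha
    obtain ⟨C, hC⟩ := exists_suEquiv hτ (tGroup_isSIsom hB hg)
    rw [← hga, ← hC, hcom, hzx]
  refine suEquiv_injective (LinearEquiv.ext fun u => ?_)
  rw [map_one]
  refine sub_eq_zero.1 (eq_zero_of_orth_isotropic hB (by omega) fun a ha => ?_)
  rw [map_sub, LinearMap.sub_apply, sub_eq_zero]
  show _ = UnitaryEmbed.hermSesq n τ u a
  conv_lhs => rw [← hiso a ha, (suEquiv_isSIsom hτ z).1]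

/-- Transvections congruent modulo the centre are equal. -/
theorem tv_eq_of_mk {A A' : ↥(Cfsg.SU n F 2)} {u v : Fin n → F} (hA : Tv τ A u) (hA' : Tv τ A' v)
    (h : (QuotientGroup.mk A : Cfsg.PSU n F 2) = QuotientGroup.mk A') : A = A' := by
  rw [QuotientGroup.eq] at h
  obtain ⟨y, ⟨hyu, hyv⟩, hy⟩ : ∃ y ∈ LinearMap.ker (UnitaryEmbed.hermSesq n τ u) ⊓
      LinearMap.ker (UnitaryEmbed.hermSesq n τ v), y ≠ 0 := by
    refine Submodule.exists_mem_ne_zero_of_ne_bot fun hbot => ?_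
    have e1 := LinearMap.finrank_range_add_finrank_ker
      ((UnitaryEmbed.hermSesq n τ u).prod (UnitaryEmbed.hermSesq n τ v))
    have e2 := Submodule.finrank_le
      (LinearMap.range ((UnitaryEmbed.hermSesq n τ u).prod (UnitaryEmbed.hermSesq n τ v)))
    rw [Module.finrank_prod, Module.finrank_self] at e2
    rw [LinearMap.ker_prod, hbot, finrank_bot, Module.finrank_fin_fun] at e1
    omega
  rw [SetLike.mem_coe, LinearMap.mem_ker] at hyu hyv
  have hfix : suEquiv n F 2 (A⁻¹ * A') y = y := by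
    rw [map_mul, LinearEquiv.mul_apply, hA'.2.2 y, hyv, mul_zero, zero_smul, add_zero, map_inv]
    apply (suEquiv n F 2 A).injective
    rw [hA.2.2 y, hyu, mul_zero, zero_smul, add_zero]
    exact (suEquiv n F 2 A).apply_symm_apply y
  exact inv_mul_eq_one.1 (central_eq_one hB hτ hn hT h hy hfix)

theorem tv_conj_eq {A C : ↥(Cfsg.SU n F 2)} {v : Fin n → F} (hA : Tv τ A v) :
    Tv τ (C * A * C⁻¹) (suEquiv n F 2 C v) := by
  refine ⟨fun h => hA.1 ((suEquiv n F 2 C).map_eq_zero_iff.1 h),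
    by rw [(suEquiv_isSIsom hτ C).1, hA.2.1], ?_⟩
  rw [map_mul, map_mul, map_inv]
  exact Cfsg.Agent.S1631.tv_conj hA.2.2 (suEquiv_isSIsom hτ C).1

theorem tv_smul_eq (h4 : ∀ x : F, x ≠ 0 → τ x * x = 1) {A A' : ↥(Cfsg.SU n F 2)} {u v : Fin n → F} {c : F}
    (hA : Tv τ A u) (hA' : Tv τ A' v) (hc : c ≠ 0) (e : u = c • v) : A = A' := by
  subst e
  exact suEquiv_injective (Cfsg.Agent.S1631.isTv_eq hA.2.2 (Cfsg.Agent.S1631.tv_smul h4 hc hA'.2.2))

theorem commute_mk_iff (h4 : ∀ x : F, x ≠ 0 → τ x * x = 1) {A A' : ↥(Cfsg.SU n F 2)} {u v : Fin n → F}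
    (hA : Tv τ A u) (hA' : Tv τ A' v) :
    Commute (QuotientGroup.mk A : Cfsg.PSU n F 2) (QuotientGroup.mk A') ↔
      UnitaryEmbed.hermSesq n τ u v = 0 := by
  have hconj := tv_conj_eq hB hτ hn hT (C := A) hA'
  constructor
  · intro h
    have e : A * A' * A⁻¹ = A' := tv_eq_of_mk hB hτ hn hT hconj hA' (by
      rw [QuotientGroup.mk_mul, QuotientGroup.mk_mul, QuotientGroup.mk_inv, h.eq, mul_inv_cancel_right])
    rw [e] at hconj
    obtain ⟨c, hc⟩ := centre_unique hB hconj.1 hconj.2.2 hA'.2.2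
    rw [hA.2.2 v, one_mul] at hc
    by_contra h0
    have e2 : u = ((c - 1) / UnitaryEmbed.hermSesq n τ u v) • v := by
      rw [div_eq_inv_mul, mul_smul, sub_smul, one_smul, ← hc, add_sub_cancel_left, inv_smul_smul₀ h0]
    refine h0 ?_
    rw [e2, map_smulₛₗ, LinearMap.smul_apply, hA'.2.1, smul_zero]
  · intro h
    have e : A * A' * A⁻¹ = A' := tv_smul_eq hB hτ hn hT h4 hconj hA' (one_ne_zero)
      (by rw [hA.2.2 v, h, mul_zero, zero_smul, add_zero, one_smul])
    have e' : Commute A A' := mul_inv_eq_iff_eq_mul.1 e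
    exact e'.map (QuotientGroup.mk' _)

end Psu

/-- A 3-transposition class whose commuting is the orthogonality of the isotropic points of a
hermitian space over four elements is the class of transvections of `PSU(n,2)`. -/
theorem psu_of_points {G : Type*} [Group G] [Finite G] {D : Set G} (h : IsThreeTranspositionGroup D)
    (hZ : Subgroup.center G = ⊥) (F : Type) [Field F] [Fintype F] (hF : Fintype.card F = 4) {n : ℕ}
    (hn : 4 ≤ n) (φ : G → Fin n → F) (hne : ∀ a ∈ D, φ a ≠ 0 ∧ hermForm n F 2 (φ a) (φ a) = 0)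
    (hsurj : ∀ v : Fin n → F, v ≠ 0 → hermForm n F 2 v v = 0 → ∃ a ∈ D, ∃ c : F, v = c • φ a)
    (hinj : ∀ a ∈ D, ∀ b ∈ D, ∀ c : F, φ b = c • φ a → a = b)
    (hcomm : ∀ a ∈ D, ∀ b ∈ D, (Commute a b ↔ hermForm n F 2 (φ a) (φ b) = 0)) :
    ∃ e : G ≃* Cfsg.PSU n F 2, e '' D = (QuotientGroup.mk : ↥(Cfsg.SU n F 2) → Cfsg.PSU n F 2) ''
      {g : ↥(Cfsg.SU n F 2) |
        (((g : Matrix.SpecialLinearGroup (Fin n) F) : Matrix (Fin n) (Fin n) F) - 1).rank = 1} := by
  classical
  obtain ⟨τ, hB, hτ, h4, h2, key, hT⟩ := psu_model (n := n) hF hn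
  have hB' : ∀ u v, hermForm n F 2 u v = UnitaryEmbed.hermSesq n τ v u := fun u v =>
    (UnitaryEmbed.hermSesq_apply τ hτ v u).symm
  set T : Set ↥(Cfsg.SU n F 2) := {g |
    (((g : Matrix.SpecialLinearGroup (Fin n) F) : Matrix (Fin n) (Fin n) F) - 1).rank = 1} with hTdef
  set π : ↥(Cfsg.SU n F 2) → Cfsg.PSU n F 2 := QuotientGroup.mk with hπ
  have hTg := group_of_class (Cfsg.Agent.S1631.main hF hn)
  have mem : ∀ {A : ↥(Cfsg.SU n F 2)} {v}, Tv τ A v → A ∈ T := fun hA => (key _).2 ⟨_, hA⟩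
  have inj : ∀ A ∈ T, ∀ A' ∈ T, π A = π A' → A = A' := fun A hA A' hA' e => by
    obtain ⟨u, hu⟩ := (key A).1 hA
    obtain ⟨v, hv⟩ := (key A').1 hA'
    exact tv_eq_of_mk hB hτ hn hT hu hv e
  have h₂ : IsThreeTranspositionGroup (π '' T) := by
    refine ⟨⟨?_, ?_⟩, ?_, ?_⟩
    · rintro _ ⟨A, hA, rfl⟩
      refine orderOf_eq_prime (by rw [hπ, ← QuotientGroup.mk_pow, pow_two, mul_self hTg.1 hA,
        QuotientGroup.mk_one]) fun e => ?_
      obtain ⟨v, hv⟩ := (key A).1 hA
      rw [hπ, QuotientGroup.eq_one_iff] at e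
      refine ne_one hTg.1 hA (central_eq_one hB hτ hn hT e hv.1 ?_)
      rw [hv.2.2 v, hv.2.1, mul_zero, zero_smul, add_zero]
    · rintro _ ⟨A, hA, rfl⟩ _ ⟨A', hA', rfl⟩
      rcases hTg.1.2 A hA A' hA' with e | e
      · exact Or.inl (by rw [hπ, ← QuotientGroup.mk_mul, ← QuotientGroup.mk_pow, e, QuotientGroup.mk_one])
      · exact Or.inr (by rw [hπ, ← QuotientGroup.mk_mul, ← QuotientGroup.mk_pow, e, QuotientGroup.mk_one])
    · rintro x _ ⟨A, hA, rfl⟩
      obtain ⟨g, rfl⟩ := QuotientGroup.mk_surjective x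
      exact ⟨g * A * g⁻¹, hTg.2.1 g A hA, by simp [hπ]⟩
    · have hm := congrArg (Subgroup.map (QuotientGroup.mk' (Subgroup.center ↥(Cfsg.SU n F 2)))) hTg.2.2
      rwa [MonoidHom.map_closure,
        Subgroup.map_top_of_surjective _ (QuotientGroup.mk'_surjective _)] at hm
  have hZ₂ : Subgroup.center (Cfsg.PSU n F 2) = ⊥ := by
    refine (Subgroup.eq_bot_iff_forall _).2 fun x hx => ?_
    obtain ⟨g, rfl⟩ := QuotientGroup.mk_surjective x
    rw [QuotientGroup.eq_one_iff]
    refine mem_center_of_commute hTg.2.2 fun A hA => mul_inv_eq_iff_eq_mul.1 ?_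
    refine inj _ (hTg.2.1 g A hA) A hA ?_
    rw [hπ, QuotientGroup.mk_mul, QuotientGroup.mk_mul, QuotientGroup.mk_inv,
      ← Subgroup.mem_center_iff.1 hx, mul_inv_cancel_right]
  have hne' : ∀ a ∈ D, φ a ≠ 0 ∧ UnitaryEmbed.hermSesq n τ (φ a) (φ a) = 0 := fun a ha => by
    rw [← hB']; exact hne a ha
  choose t ht using fun a : D => hT (φ a) (hne' a a.2).1 (hne' a a.2).2
  set f : G → Cfsg.PSU n F 2 := fun a => if ha : a ∈ D then π (t ⟨a, ha⟩) else 1 with hf
  have hfval : ∀ a (ha : a ∈ D), f a = π (t ⟨a, ha⟩) := fun a ha => dif_pos ha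
  have hfb : Set.BijOn f D (π '' T) := by
    refine ⟨fun a ha => ⟨_, mem (ht ⟨a, ha⟩), (hfval a ha).symm⟩, fun a ha b hb e => ?_, ?_⟩
    · rw [hfval a ha, hfval b hb] at e
      have e' := tv_eq_of_mk hB hτ hn hT (ht ⟨a, ha⟩) (ht ⟨b, hb⟩) e
      obtain ⟨c, hc⟩ := centre_unique hB (ht ⟨b, hb⟩).1 (e' ▸ (ht ⟨b, hb⟩).2.2) (ht ⟨a, ha⟩).2.2
      exact hinj a ha b hb c hc
    · rintro _ ⟨A, hA, rfl⟩
      obtain ⟨v, hv⟩ := (key A).1 hA
      obtain ⟨a, ha, c, hc⟩ := hsurj v hv.1 (by rw [hB']; exact hv.2.1)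
      exact ⟨a, ha, (hfval a ha).trans (congrArg π (tv_smul_eq hB hτ hn hT h4 hv (ht ⟨a, ha⟩)
        (fun h0 => hv.1 (by rw [hc, h0, zero_smul])) hc).symm)⟩
  have hc : ∀ a ∈ D, ∀ b ∈ D, (Commute a b ↔ Commute (f a) (f b)) := fun a ha b hb => by
    rw [hcomm a ha b hb, hfval a ha, hfval b hb, hπ,
      commute_mk_iff hB hτ hn hT h4 (ht ⟨a, ha⟩) (ht ⟨b, hb⟩), hB']
    exact ⟨herm_zero hB, herm_zero hB⟩
  have hbr := map_braid h h₂ hfb hc ?_
  · obtain ⟨e, -, he⟩ := Uniq.exists_mulEquiv h h₂ hZ hZ₂ hfb hbr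
    exact ⟨e, he⟩
  rintro _ ⟨A, hA, rfl⟩ _ ⟨A', hA', rfl⟩ _ ⟨C, hC, rfl⟩ hab hcom
  obtain ⟨v, hv⟩ := (key A).1 hA
  obtain ⟨w, hw⟩ := (key A').1 hA'
  obtain ⟨u, hu⟩ := (key C).1 hC
  rw [commute_mk_iff hB hτ hn hT h4 hv hw] at hab
  set c := UnitaryEmbed.hermSesq n τ v w with hc0
  have hd : 4 ≤ Module.finrank F (Fin n → F) := by rwa [Module.finrank_fin_fun]
  have e := mem_span_pair_of_orth hB hd (v := v) (w := c⁻¹ • w) (u := u) hv.2.1
    (by simp [hw.2.1]) (by simp [← hc0, inv_mul_cancel₀ hab]) fun x hx hvx hwx => by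
      rw [map_smulₛₗ, LinearMap.smul_apply, smul_eq_zero] at hwx
      replace hwx := hwx.resolve_left ((map_ne_zero τ).2 (inv_ne_zero hab))
      by_cases hx0 : x = 0
      · rw [hx0, map_zero]
      obtain ⟨X, hX⟩ := hT x hx0 hx
      have := hcom _ ⟨X, mem hX, rfl⟩ ((commute_mk_iff hB hτ hn hT h4 hX hv).2 (herm_zero hB hvx))
        ((commute_mk_iff hB hτ hn hT h4 hX hw).2 (herm_zero hB hwx))
      exact herm_zero hB ((commute_mk_iff hB hτ hn hT h4 hX hu).1 this)
  rw [smul_smul] at e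
  rcases hyperbolic_points hB h4 h2 hτ hv.2.1 hw.2.1 hab hu.2.1 e hu.1 with
    ⟨r, hr, e'⟩ | ⟨r, hr, e'⟩ | ⟨r, hr, e'⟩
  · exact Or.inl (congrArg π (tv_smul_eq hB hτ hn hT h4 hu hv hr e'))
  · exact Or.inr (Or.inl (congrArg π (tv_smul_eq hB hτ hn hT h4 hu hw hr e')))
  · refine Or.inr (Or.inr ?_)
    have hm : Tv τ (A * A' * A⁻¹) (suEquiv n F 2 A w) := tv_conj_eq hB hτ hn hT hw
    rw [hv.2.2 w, one_mul] at hm
    have e'' := tv_smul_eq hB hτ hn hT h4 hu hm hr e'
    rw [e'', inv_eq hTg.1 hA, hπ, QuotientGroup.mk_mul, QuotientGroup.mk_mul]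

end CfsgLib.ThreeTrans.PolarTwins.Models
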