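import Mathlib

/-!
# The field with four elements acting through an automorphism `ω` with `ω² + ω + 1 = 0`

Every element is `cst s + cst t * θ` for a fixed root `θ` of `X² + X + 1` and unique bits `s`, `t`.
-/

set_option autoImplicit false
set_option linter.unusedSectionVars false

namespace CfsgLib.ThreeTrans.PolarTwins

/-- A field with four elements together with a root `θ` of `X² + X + 1`. -/
structure F4 (K : Type*) [Field K] [Fintype K] where
  card : Fintype.card K = 4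
  char : CharP K 2
  /-- the root -/
  θ : K
  root : θ * θ = θ + 1

namespace F4

variable {K : Type*} [Field K] [Fintype K]

theorem exists_f4 (hK : Fintype.card K = 4) : Nonempty (F4 K) := by
  classical
  obtain ⟨p, hp⟩ := CharP.exists K
  haveI := hp
  obtain ⟨n, hprime, hcard⟩ := FiniteField.card K p
  have hp2 : p = 2 := by
    have hd : p ∣ 4 := hK ▸ hcard ▸ dvd_pow_self p n.ne_zero
    have : p ∣ 2 := hprime.dvd_of_dvd_pow (n := 2) (by simpa using hd)
    exact (Nat.prime_dvd_prime_iff_eq hprime Nat.prime_two).1 this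
  subst hp2
  have : ({0, 1} : Finset K) ≠ Finset.univ := fun h => by
    have := congrArg Finset.card h
    rw [Finset.card_univ, hK, Finset.card_pair zero_ne_one] at this
    omega
  obtain ⟨x, -, hx⟩ := Finset.exists_of_ssubset (Finset.ssubset_univ_iff.2 this)
  simp only [Finset.mem_insert, Finset.mem_singleton, not_or] at hx
  refine ⟨⟨hK, hp, x, ?_⟩⟩
  have h4 : x ^ 4 = x := hK ▸ FiniteField.pow_card x
  have h2 : (2 : K) = 0 := by exact_mod_cast CharP.cast_eq_zero K 2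
  have h3 : x ^ 2 + x + 1 = 0 := by
    refine (mul_eq_zero.1 (?_ : x * (x - 1) * (x ^ 2 + x + 1) = 0)).resolve_left
      (mul_ne_zero hx.1 (sub_ne_zero.2 hx.2))
    linear_combination h4
  linear_combination h3 - (x + 1) * h2

variable (Φ : F4 K)
include Φ

theorem two_eq : (2 : K) = 0 := by
  haveI := Φ.char
  exact_mod_cast CharP.cast_eq_zero K 2

theorem add_self (x : K) : x + x = 0 := by rw [← two_mul, Φ.two_eq, zero_mul]

/-- Bits as constants. -/
def cst (s : ZMod 2) : K := if s = 0 then 0 else 1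

omit Φ in
@[simp] theorem cst_zero : (cst 0 : K) = 0 := rfl

omit Φ in
@[simp] theorem cst_one : (cst 1 : K) = 1 := rfl

omit Φ in
theorem bit : ∀ t : ZMod 2, t = 0 ∨ t = 1 := by decide

theorem cst_add (s t : ZMod 2) : (cst (s + t) : K) = cst s + cst t := by
  rcases bit s with rfl | rfl <;> rcases bit t with rfl | rfl <;>
    simp [Φ.add_self, show (1 : ZMod 2) + 1 = 0 from rfl]

omit Φ in
theorem cst_mul (s t : ZMod 2) : (cst (s * t) : K) = cst s * cst t := by
  rcases bit s with rfl | rfl <;> rcases bit t with rfl | rfl <;> simp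

/-- The element with bits `s`, `t`. -/
def pt (s t : ZMod 2) : K := cst s + cst t * Φ.θ

theorem theta_ne_zero : Φ.θ ≠ 0 := fun h => by
  have := Φ.root
  rw [h, mul_zero, zero_add] at this
  exact zero_ne_one this

theorem theta_ne_one : Φ.θ ≠ 1 := fun h => by
  have := Φ.root
  rw [h, mul_one, Φ.add_self] at this
  exact one_ne_zero this

theorem pt_add (s t s' t' : ZMod 2) : Φ.pt (s + s') (t + t') = Φ.pt s t + Φ.pt s' t' := by
  simp only [pt, Φ.cst_add]
  ring

theorem pt_mul (s t s' t' : ZMod 2) :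
    Φ.pt s t * Φ.pt s' t' = Φ.pt (s * s' + t * t') (s * t' + t * s' + t * t') := by
  simp only [pt, Φ.cst_add, cst_mul]
  linear_combination cst t * cst t' * Φ.root

theorem pt_eq_zero {s t : ZMod 2} (h : Φ.pt s t = 0) : s = 0 ∧ t = 0 := by
  rcases bit s with rfl | rfl <;> rcases bit t with rfl | rfl <;> simp [pt] at h ⊢
  · exact Φ.theta_ne_zero h
  · refine Φ.theta_ne_one ?_
    linear_combination h - Φ.two_eq

theorem pt_inj {s t s' t' : ZMod 2} (h : Φ.pt s t = Φ.pt s' t') : s = s' ∧ t = t' := by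
  have h0 : Φ.pt (s + s') (t + t') = 0 := by rw [Φ.pt_add, h, Φ.add_self]
  obtain ⟨h1, h2⟩ := Φ.pt_eq_zero h0
  have key : ∀ x y : ZMod 2, x + y = 0 → x = y := by decide
  exact ⟨key _ _ h1, key _ _ h2⟩

theorem exists_pt (x : K) : ∃ s t, Φ.pt s t = x := by
  classical
  have hbij : Function.Bijective (fun p : ZMod 2 × ZMod 2 => Φ.pt p.1 p.2) := by
    rw [Fintype.bijective_iff_injective_and_card]
    refine ⟨fun p q h => ?_, by rw [Φ.card]; rfl⟩
    obtain ⟨h1, h2⟩ := Φ.pt_inj h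
    exact Prod.ext h1 h2
  obtain ⟨⟨s, t⟩, h⟩ := hbij.2 x
  exact ⟨s, t, h⟩

@[simp] theorem pt_one : Φ.pt 1 0 = 1 := by simp [pt]

@[simp] theorem pt_zero : Φ.pt 0 0 = 0 := by simp [pt]

theorem pt_theta : Φ.pt 0 1 = Φ.θ := by simp [pt]

/-- The automorphism of order two. -/
noncomputable def σ : K →+* K :=
  haveI := Φ.char
  frobenius K 2

theorem σ_apply (x : K) : Φ.σ x = x ^ 2 := rfl

theorem σ_pt (s t : ZMod 2) : Φ.σ (Φ.pt s t) = Φ.pt (s + t) t := by
  rw [σ_apply, pow_two, Φ.pt_mul]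
  congr 1 <;> revert s t <;> decide

theorem σ_invol (x : K) : Φ.σ (Φ.σ x) = x := by
  obtain ⟨s, t, rfl⟩ := Φ.exists_pt x
  rw [Φ.σ_pt, Φ.σ_pt, add_assoc, (show ∀ x : ZMod 2, x + x = 0 by decide), add_zero]

theorem σ_ne : Φ.σ ≠ RingHom.id K := fun h => by
  have := congrArg (fun f : K →+* K => f Φ.θ) h
  simp only [RingHom.id_apply] at this
  rw [← Φ.pt_theta, Φ.σ_pt] at this
  exact one_ne_zero (Φ.pt_inj this).1

variable {V : Type*} [AddCommGroup V] [Module (ZMod 2) V]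

/-- The first bit. -/
noncomputable def b0 (x : K) : ZMod 2 := (Φ.exists_pt x).choose

/-- The second bit. -/
noncomputable def b1 (x : K) : ZMod 2 := (Φ.exists_pt x).choose_spec.choose

theorem pt_bits (x : K) : Φ.pt (Φ.b0 x) (Φ.b1 x) = x := (Φ.exists_pt x).choose_spec.choose_spec

theorem bits_pt (s t : ZMod 2) : Φ.b0 (Φ.pt s t) = s ∧ Φ.b1 (Φ.pt s t) = t :=
  Φ.pt_inj (Φ.pt_bits _)

omit Φ in
theorem smul_self_add (s : ZMod 2) (v : V) : s • v + s • v = 0 := by
  rw [← add_smul, (show ∀ s : ZMod 2, s + s = 0 by decide) s, zero_smul]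

/-- The action through `ω`. -/
noncomputable def actHom (ω : V →ₗ[ZMod 2] V) (hω : ∀ v, ω (ω v) + ω v + v = 0) :
    K →+* AddMonoid.End V where
  toFun x := (Φ.b0 x • LinearMap.id + Φ.b1 x • ω).toAddMonoidHom
  map_one' := by
    obtain ⟨h1, h2⟩ := Φ.bits_pt 1 0
    rw [Φ.pt_one] at h1 h2
    refine AddMonoidHom.ext fun v => ?_
    show Φ.b0 1 • v + Φ.b1 1 • ω v = v
    rw [h1, h2, one_smul, zero_smul, add_zero]
  map_zero' := by
    obtain ⟨h1, h2⟩ := Φ.bits_pt 0 0
    rw [Φ.pt_zero] at h1 h2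
    refine AddMonoidHom.ext fun v => ?_
    show Φ.b0 0 • v + Φ.b1 0 • ω v = 0
    rw [h1, h2, zero_smul, zero_smul, add_zero]
  map_add' x y := by
    obtain ⟨h1, h2⟩ := Φ.bits_pt (Φ.b0 x + Φ.b0 y) (Φ.b1 x + Φ.b1 y)
    rw [Φ.pt_add, Φ.pt_bits, Φ.pt_bits] at h1 h2
    refine AddMonoidHom.ext fun v => ?_
    show Φ.b0 (x + y) • v + Φ.b1 (x + y) • ω v =
      (Φ.b0 x • v + Φ.b1 x • ω v) + (Φ.b0 y • v + Φ.b1 y • ω v)
    rw [h1, h2, add_smul, add_smul]
    abel
  map_mul' x y := by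
    obtain ⟨h1, h2⟩ := Φ.bits_pt (Φ.b0 x * Φ.b0 y + Φ.b1 x * Φ.b1 y)
      (Φ.b0 x * Φ.b1 y + Φ.b1 x * Φ.b0 y + Φ.b1 x * Φ.b1 y)
    rw [← Φ.pt_mul, Φ.pt_bits, Φ.pt_bits] at h1 h2
    refine AddMonoidHom.ext fun v => ?_
    show Φ.b0 (x * y) • v + Φ.b1 (x * y) • ω v =
      Φ.b0 x • (Φ.b0 y • v + Φ.b1 y • ω v) + Φ.b1 x • ω (Φ.b0 y • v + Φ.b1 y • ω v)
    have e' : ω (ω v) = ω v + v := by
      have n : ∀ w : V, w + w = 0 := fun w => by simpa using smul_self_add (1 : ZMod 2) w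
      calc ω (ω v) = (ω (ω v) + ω v + v) + (ω v + v) := by
            rw [show ω (ω v) + ω v + v + (ω v + v) = ω (ω v) + (ω v + ω v) + (v + v) by abel, n, n,
              add_zero, add_zero]
        _ = ω v + v := by rw [hω v, zero_add]
    simp only [h1, h2, map_add, map_smul, e', smul_add, smul_smul, add_smul]
    abel

theorem actHom_pt (ω : V →ₗ[ZMod 2] V) (hω : ∀ v, ω (ω v) + ω v + v = 0) (s t : ZMod 2) (v : V) :
    Φ.actHom ω hω (Φ.pt s t) v = s • v + t • ω v := by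
  obtain ⟨h1, h2⟩ := Φ.bits_pt s t
  show Φ.b0 (Φ.pt s t) • v + Φ.b1 (Φ.pt s t) • ω v = _
  rw [h1, h2]

end F4

end CfsgLib.ThreeTrans.PolarTwins
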