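import Cfsg.Prelude.Def_Classical
import Cfsg.Agent.Lib.ThreeTrans.PolarTwins.Field4

/-!
# Functions additive on orthogonal singular vectors

A symmetric two-cocycle with zero diagonal on a vector space over two elements is a coboundary.  A
function on the singular vectors of a hermitian space over four elements which is additive on pairs with
trace-orthogonal vectors is linear.
-/

set_option autoImplicit false
set_option linter.unusedSectionVars false

namespace CfsgLib.ThreeTrans.PolarTwins

theorem exists_primitive {V : Type*} [AddCommGroup V] [Module (ZMod 2) V] [Finite V]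
    (e : V → V → ZMod 2) (hdiag : ∀ v, e v v = 0) (hsymm : ∀ u v, e u v = e v u)
    (hassoc : ∀ u v w, e u v + e (u + v) w = e v w + e u (v + w)) :
    ∃ φ : V → ZMod 2, ∀ u v, e u v = φ (u + v) + φ u + φ v := by
  classical
  have n : ∀ w : V, w + w = 0 := fun w => by
    rw [← two_smul (ZMod 2) w, show (2 : ZMod 2) = 0 from rfl, zero_smul]
  have hz : ∀ v, e v 0 = 0 := by
    intro v
    have h := hassoc v 0 0
    rw [add_zero, add_zero, hdiag 0, zero_add] at h
    exact (show ∀ x : ZMod 2, x + x = x → x = 0 by decide) _ h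
  suffices ∀ s : Finset V, ∃ φ : V → ZMod 2, ∀ u ∈ Submodule.span (ZMod 2) (s : Set V),
      ∀ v ∈ Submodule.span (ZMod 2) (s : Set V), e u v = φ (u + v) + φ u + φ v by
    cases nonempty_fintype V
    obtain ⟨φ, hφ⟩ := this Finset.univ
    exact ⟨φ, fun u v => hφ u (Submodule.subset_span (by simp)) v (Submodule.subset_span (by simp))⟩
  intro s
  induction s using Finset.induction with
  | empty =>
    refine ⟨fun _ => 0, fun u hu v hv => ?_⟩
    simp only [Finset.coe_empty, Submodule.span_empty, Submodule.mem_bot] at hu hv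
    simp [hu, hv, hdiag]
  | insert x s _ ih =>
    obtain ⟨φ, hφ⟩ := ih
    rw [Finset.coe_insert]
    set W := Submodule.span (ZMod 2) (s : Set V)
    by_cases hx : x ∈ W
    · rw [Submodule.span_insert_eq_span hx]
      exact ⟨φ, hφ⟩
    let ψ : V → ZMod 2 := fun z => if z ∈ W then φ z else φ (z + x) + e (z + x) x
    have hW : ∀ w ∈ W, ψ w = φ w := fun w hw => if_pos hw
    have hX : ∀ w ∈ W, ψ (w + x) = φ w + e w x := fun w hw => by
      have : w + x ∉ W := fun k => hx (by simpa using W.sub_mem k hw)
      simp only [ψ, if_neg this, add_assoc, n, add_zero]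
    have dec : ∀ z ∈ Submodule.span (ZMod 2) (insert x (s : Set V)), ∃ w ∈ W, z = w ∨ z = w + x := by
      intro z hz'
      obtain ⟨t, w, hw, rfl⟩ := Submodule.mem_span_insert.1 hz'
      rcases (show ∀ t : ZMod 2, t = 0 ∨ t = 1 by decide) t with rfl | rfl
      · exact ⟨w, hw, Or.inl (by simp)⟩
      · exact ⟨w, hw, Or.inr (by rw [one_smul, add_comm])⟩
    have one : ∀ u ∈ W, ∀ v ∈ W, e (u + x) v = ψ (u + x + v) + ψ (u + x) + ψ v := by
      intro u hu v hv
      rw [show u + x + v = u + v + x by abel, hX _ (W.add_mem hu hv), hX u hu, hW v hv]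
      have h1 := hφ u hu v hv
      have h2 := hassoc x u v
      rw [hsymm x u, hsymm x (u + v), add_comm x u] at h2
      have t : (2 : ZMod 2) = 0 := rfl
      linear_combination h2 + h1 - e u x * t
    refine ⟨ψ, fun u' hu' v' hv' => ?_⟩
    obtain ⟨u, hu, rfl | rfl⟩ := dec u' hu' <;> obtain ⟨v, hv, rfl | rfl⟩ := dec v' hv'
    · rw [hW _ hu, hW _ hv, hW _ (W.add_mem hu hv)]
      exact hφ _ hu _ hv
    · rw [hsymm, one v hv u' hu, add_comm (v + x) u']
      ring
    · exact one u hu v' hv
    · rw [hX u hu, hX v hv, show u + x + (v + x) = u + v + (x + x) by abel, n, add_zero,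
        hW _ (W.add_mem hu hv)]
      have h1 := hφ u hu v hv
      have h2 := hassoc (u + x) x v
      have h3 := hassoc u x x
      rw [add_assoc u x x, n, add_zero, add_comm x v, hsymm x v] at h2
      rw [n, hdiag, hz, add_zero] at h3
      generalize e (u + x) (v + x) = A at *
      generalize e (u + x) x = B at *
      generalize e u v = C at *
      generalize e u x = P at *
      generalize e v x = R at *
      generalize φ (u + v) = p at *
      generalize φ u = q at *
      generalize φ v = r at *
      revert h1 h2 h3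
      revert A B C P R p q r
      decide

variable {K : Type*} [Field K] [Fintype K] [DecidableEq K]

/-- A function on singular vectors additive on trace-orthogonal pairs is linear. -/
theorem exists_linear (Φ : F4 K) (n : ℕ) (δ : (Fin n → K) → ZMod 2)
    (hadd : ∀ u v, Cfsg.hermForm n K 2 u u = 0 → Cfsg.hermForm n K 2 v v = 0 →
      Φ.b1 (Cfsg.hermForm n K 2 u v) = 0 → δ (u + v) = δ u + δ v) :
    ∃ l : (Fin n → K) →+ ZMod 2, ∀ w, Cfsg.hermForm n K 2 w w = 0 → δ w = l w := by
  classical
  have cube : ∀ x : K, x ≠ 0 → x * x ^ 2 = 1 := fun x hx => by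
    have := FiniteField.pow_card_sub_one_eq_one x hx
    rw [Φ.card] at this
    rw [← pow_succ']
    exact this
  have b00 : Φ.b1 (0 : K) = 0 := by
    have := (Φ.bits_pt 0 0).2
    rwa [Φ.pt_zero] at this
  have b10 : Φ.b1 (1 : K) = 0 := by
    have := (Φ.bits_pt 1 0).2
    rwa [Φ.pt_one] at this
  have δ0 : δ 0 = 0 := by
    have h0 : Cfsg.hermForm n K 2 0 0 = 0 := by simp [Cfsg.hermForm]
    have := hadd 0 0 h0 h0 (by rw [h0, b00])
    rw [add_zero] at this
    exact (show ∀ x : ZMod 2, x = x + x → x = 0 by decide) _ this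
  -- vectors on two coordinates
  let u2 : Fin n → Fin n → K → K → (Fin n → K) := fun i j x y => Pi.single i x + Pi.single j y
  have hsingle : ∀ (v : Fin n → K) i x, Cfsg.hermForm n K 2 (Pi.single i x) v = x * v i ^ 2 := by
    intro v i x
    rw [Cfsg.hermForm, Finset.sum_eq_single i (fun k _ hk => by simp [Pi.single_eq_of_ne hk])
      (by simp), Pi.single_eq_same]
  have hpair : ∀ {i j}, i ≠ j → ∀ x y (v : Fin n → K),
      Cfsg.hermForm n K 2 (u2 i j x y) v = x * v i ^ 2 + y * v j ^ 2 := by
    intro i j _ x y v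
    rw [← hsingle v i x, ← hsingle v j y]
    simp only [Cfsg.hermForm, ← Finset.sum_add_distrib, u2, Pi.add_apply, add_mul]
  have hval : ∀ {i j}, i ≠ j → ∀ x y, u2 i j x y i = x ∧ u2 i j x y j = y := by
    intro i j hij x y
    simp [u2, Pi.single_eq_of_ne hij, Pi.single_eq_of_ne hij.symm]
  have hsing : ∀ {i j}, i ≠ j → ∀ {x y}, x ≠ 0 → y ≠ 0 →
      Cfsg.hermForm n K 2 (u2 i j x y) (u2 i j x y) = 0 := by
    intro i j hij x y hx hy
    rw [hpair hij, (hval hij x y).1, (hval hij x y).2, cube x hx, cube y hy, Φ.add_self]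
  set θ := Φ.θ
  have hθ : θ ≠ 0 := Φ.theta_ne_zero
  have hθ1 : θ + 1 ≠ 0 := fun h => Φ.theta_ne_one (by linear_combination h - Φ.two_eq)
  have hroot : θ * θ = θ + 1 := Φ.root
  -- transversals
  have hT : ∀ {i j}, i ≠ j → ∀ {x y p q}, x ≠ 0 → y ≠ 0 → (p = θ ∨ p = θ + 1) → (q = θ ∨ q = θ + 1) →
      δ (u2 i j x y) + δ (u2 i j (p * x) (q * y)) = δ (u2 i j ((1 + p) * x) ((1 + q) * y)) := by
    intro i j hij x y p q hx hy hp hq
    have hp0 : p ≠ 0 := by rcases hp with rfl | rfl <;> assumption
    have hq0 : q ≠ 0 := by rcases hq with rfl | rfl <;> assumption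
    have e : u2 i j ((1 + p) * x) ((1 + q) * y) = u2 i j x y + u2 i j (p * x) (q * y) := by
      simp only [u2, add_mul, one_mul, Pi.single_add]
      abel
    rw [e, hadd _ _ (hsing hij hx hy) (hsing hij (mul_ne_zero hp0 hx) (mul_ne_zero hq0 hy)) ?_]
    rw [hpair hij, (hval hij (p * x) (q * y)).1, (hval hij (p * x) (q * y)).2,
      show x * (p * x) ^ 2 + y * (q * y) ^ 2 = p ^ 2 * (x * x ^ 2) + q ^ 2 * (y * y ^ 2) by ring,
      cube x hx, cube y hy, mul_one, mul_one]
    rcases hp with rfl | rfl <;> rcases hq with rfl | rfl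
    · rw [Φ.add_self, b00]
    · rw [show θ ^ 2 + (θ + 1) ^ 2 = 1 by linear_combination (θ ^ 2 + θ) * Φ.two_eq, b10]
    · rw [show (θ + 1) ^ 2 + θ ^ 2 = 1 by linear_combination (θ ^ 2 + θ) * Φ.two_eq, b10]
    · rw [Φ.add_self, b00]
  -- the three multiples
  have sum3 : ∀ (g : K → ZMod 2) {y}, y ≠ 0 →
      ∑ t ∈ Finset.univ.erase 0, g t = g y + g (θ * y) + g ((θ + 1) * y) := by
    intro g y hy
    have h12 : y ≠ θ * y := fun h => Φ.theta_ne_one (mul_right_cancel₀ hy (by rw [one_mul]; exact h.symm))
    have h13 : y ≠ (θ + 1) * y := fun h => hθ (mul_right_cancel₀ hy (by linear_combination -h))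
    have h23 : θ * y ≠ (θ + 1) * y := fun h => hy (by linear_combination -h)
    have : Finset.univ.erase (0 : K) = {y, θ * y, (θ + 1) * y} := by
      symm
      refine Finset.eq_of_subset_of_card_le ?_ ?_
      · simp [Finset.insert_subset_iff, hy, hθ, hθ1]
      · rw [Finset.card_erase_of_mem (Finset.mem_univ _), Finset.card_univ, Φ.card,
          Finset.card_insert_of_notMem (by simp [h12, h13]), Finset.card_pair h23]
    rw [this, Finset.sum_insert (by simp [h12, h13]), Finset.sum_pair h23, add_assoc]
  let r : Fin n → Fin n → K → ZMod 2 := fun i j x => ∑ t ∈ Finset.univ.erase 0, δ (u2 i j x t)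
  have swap : ∀ i j x y, u2 j i y x = u2 i j x y := fun i j x y => add_comm _ _
  have t1 : θ * θ = θ + 1 := hroot
  have t2 : θ * (θ + 1) = 1 := by linear_combination hroot + θ * Φ.two_eq
  have o1 : 1 + θ = θ + 1 := add_comm _ _
  have o2 : 1 + (θ + 1) = θ := by linear_combination Φ.two_eq
  have r_split : ∀ {i j}, i ≠ j → ∀ {x y}, x ≠ 0 → y ≠ 0 →
      δ (u2 i j x y) = r i j x + r j i y := by
    intro i j hij x y hx hy
    rw [show r i j x = _ from sum3 _ hy, show r j i y = _ from sum3 _ hx, swap i j, swap i j, swap i j]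
    have T1 := hT hij hx hy (p := θ) (q := θ) (Or.inl rfl) (Or.inl rfl)
    have T3 := hT hij hx (mul_ne_zero hθ hy) (p := θ) (q := θ + 1) (Or.inl rfl) (Or.inr rfl)
    have T5 := hT hij hx (mul_ne_zero hθ1 hy) (p := θ) (q := θ + 1) (Or.inl rfl) (Or.inr rfl)
    rw [o1] at T1 T3 T5
    rw [o2, show (θ + 1) * (θ * y) = y by linear_combination y * t2,
      show θ * (θ * y) = (θ + 1) * y by linear_combination y * t1] at T3
    rw [o2, show θ * ((θ + 1) * y) = y by linear_combination y * t2,
      show (θ + 1) * ((θ + 1) * y) = θ * y by linear_combination y * hroot + (y * θ + y) * Φ.two_eq] at T5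
    generalize δ (u2 i j x y) = f11 at *
    generalize δ (u2 i j x (θ * y)) = f12 at *
    generalize δ (u2 i j x ((θ + 1) * y)) = f13 at *
    generalize δ (u2 i j (θ * x) y) = f21 at *
    generalize δ (u2 i j (θ * x) (θ * y)) = f22 at *
    generalize δ (u2 i j ((θ + 1) * x) y) = f31 at *
    generalize δ (u2 i j ((θ + 1) * x) ((θ + 1) * y)) = f33 at *
    revert T1 T3 T5
    revert f11 f12 f13 f21 f22 f31 f33
    decide
  have r_zero : ∀ {i j}, i ≠ j → ∀ {x}, x ≠ 0 →
      r i j x + r i j (θ * x) + r i j ((θ + 1) * x) = 0 := by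
    intro i j hij x hx
    simp only [r, sum3 _ (one_ne_zero : (1 : K) ≠ 0), mul_one]
    have A := hT hij hx one_ne_zero (p := θ) (q := θ) (Or.inl rfl) (Or.inl rfl)
    have B := hT hij hx hθ (p := θ) (q := θ) (Or.inl rfl) (Or.inl rfl)
    have C := hT hij hx hθ1 (p := θ) (q := θ) (Or.inl rfl) (Or.inl rfl)
    rw [mul_one, mul_one, o1] at A
    rw [o1, t1, show (θ + 1) * θ = 1 by rw [mul_comm]; exact t2] at B
    rw [o1, t2, show (θ + 1) * (θ + 1) = θ by linear_combination hroot + (θ + 1) * Φ.two_eq] at C
    revert A B C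
    generalize δ (u2 i j x 1) = f11
    generalize δ (u2 i j x θ) = f12
    generalize δ (u2 i j x (θ + 1)) = f13
    generalize δ (u2 i j (θ * x) 1) = f21
    generalize δ (u2 i j (θ * x) θ) = f22
    generalize δ (u2 i j (θ * x) (θ + 1)) = f23
    generalize δ (u2 i j ((θ + 1) * x) 1) = f31
    generalize δ (u2 i j ((θ + 1) * x) θ) = f32
    generalize δ (u2 i j ((θ + 1) * x) (θ + 1)) = f33
    revert f11 f12 f13 f21 f22 f23 f31 f32 f33
    decide
  have r_indep : ∀ {i j k}, i ≠ j → i ≠ k → j ≠ k → ∀ {x}, x ≠ 0 → r i j x = r i k x := by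
    intro i j k hij hik hjk x hx
    have tri : ∀ {y z}, y ≠ 0 → z ≠ 0 →
        δ (u2 i j x y) + δ (u2 j k y z) = δ (u2 i k x z) := by
      intro y z hy hz
      have e : u2 i k x z = u2 i j x y + u2 j k y z := by
        have : Pi.single (M := fun _ => K) j y + Pi.single j y = 0 := funext fun _ => Φ.add_self _
        calc u2 i k x z = Pi.single i x + (Pi.single j y + Pi.single j y) + Pi.single k z := by
              rw [this, add_zero]
          _ = u2 i j x y + u2 j k y z := by simp only [u2]; abel
      rw [e, hadd _ _ (hsing hij hx hy) (hsing hjk hy hz) ?_]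
      rw [hpair hij, (hval hjk y z).1, show u2 j k y z i = 0 by
        simp [u2, Pi.single_eq_of_ne hij, Pi.single_eq_of_ne hik],
        zero_pow two_ne_zero, mul_zero, zero_add, cube y hy, b10]
    have h0 := r_split hij hx one_ne_zero
    have e : ∀ {z}, z ≠ 0 → r i j x = δ (u2 i k x z) + r k j z := by
      intro z hz
      have hzr := sum3 (fun t => δ (u2 i j x t)) (one_ne_zero : (1 : K) ≠ 0)
      have h1 := tri one_ne_zero hz
      have h2 := tri (mul_ne_zero hθ one_ne_zero) hz
      have h3 := tri (mul_ne_zero hθ1 one_ne_zero) hz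
      simp only [r, sum3 _ (one_ne_zero : (1 : K) ≠ 0), swap j k]
      revert h1 h2 h3
      generalize δ (u2 i k x z) = f
      generalize δ (u2 i j x 1) = a1
      generalize δ (u2 i j x (θ * 1)) = a2
      generalize δ (u2 i j x ((θ + 1) * 1)) = a3
      generalize δ (u2 j k 1 z) = b1
      generalize δ (u2 j k (θ * 1) z) = b2
      generalize δ (u2 j k ((θ + 1) * 1) z) = b3
      revert f a1 a2 a3 b1 b2 b3
      decide
    have e1 := e (one_ne_zero : (1 : K) ≠ 0)
    have e2 := e (mul_ne_zero hθ one_ne_zero)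
    have e3 := e (mul_ne_zero hθ1 one_ne_zero)
    have hz := r_zero hjk.symm (one_ne_zero : (1 : K) ≠ 0)
    have hr : r i k x = δ (u2 i k x 1) + δ (u2 i k x (θ * 1)) + δ (u2 i k x ((θ + 1) * 1)) :=
      sum3 _ one_ne_zero
    rw [hr]
    revert e1 e2 e3 hz
    generalize r i j x = a
    generalize r k j 1 = c1
    generalize r k j (θ * 1) = c2
    generalize r k j ((θ + 1) * 1) = c3
    generalize δ (u2 i k x 1) = f1
    generalize δ (u2 i k x (θ * 1)) = f2
    generalize δ (u2 i k x ((θ + 1) * 1)) = f3
    revert a c1 c2 c3 f1 f2 f3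
    decide
  -- the functional
  have exl : ∀ i : Fin n, ∃ l : K → ZMod 2, l 0 = 0 ∧ (∀ x y, l (x + y) = l x + l y) ∧
      ∀ j, i ≠ j → ∀ x, x ≠ 0 → r i j x = l x := by
    intro i
    by_cases hj : ∃ j, i ≠ j
    swap
    · exact ⟨0, rfl, fun _ _ => rfl, fun j h => absurd ⟨j, h⟩ hj⟩
    obtain ⟨j, hij⟩ := hj
    let l : K → ZMod 2 := fun x => if x = 0 then 0 else r i j x
    refine ⟨l, if_pos rfl, fun x y => ?_, fun k hik x hx => ?_⟩
    · by_cases hx : x = 0
      · subst hx; simp [l]
      by_cases hy : y = 0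
      · subst hy; simp [l]
      have hz := r_zero hij hx
      obtain ⟨s, t, hst⟩ := Φ.exists_pt (y * x⁻¹)
      have hy' : y = Φ.pt s t * x := by rw [hst, mul_assoc, inv_mul_cancel₀ hx, mul_one]
      rcases F4.bit s with rfl | rfl <;> rcases F4.bit t with rfl | rfl <;>
        simp only [F4.pt, F4.cst_zero, F4.cst_one, zero_mul, one_mul, add_zero, zero_add] at hy'
      · exact absurd hy' hy
      · subst hy'
        rw [show x + θ * x = (θ + 1) * x by ring]
        rw [show l x = r i j x from if_neg hx, show l (θ * x) = r i j (θ * x) from if_neg (mul_ne_zero hθ hx),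
          show l ((θ + 1) * x) = r i j ((θ + 1) * x) from if_neg (mul_ne_zero hθ1 hx)]
        revert hz
        generalize r i j x = a
        generalize r i j (θ * x) = b
        generalize r i j ((θ + 1) * x) = c
        revert a b c
        decide
      · subst hy'
        rw [Φ.add_self]
        simp only [l, if_pos rfl, if_neg hx]
        exact ((show ∀ a : ZMod 2, a + a = 0 by decide) _).symm
      · subst hy'
        rw [show x + (1 + θ) * x = θ * x by linear_combination x * Φ.two_eq, o1]
        rw [show l x = r i j x from if_neg hx, show l (θ * x) = r i j (θ * x) from if_neg (mul_ne_zero hθ hx),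
          show l ((θ + 1) * x) = r i j ((θ + 1) * x) from if_neg (mul_ne_zero hθ1 hx)]
        revert hz
        generalize r i j x = a
        generalize r i j (θ * x) = b
        generalize r i j ((θ + 1) * x) = c
        revert a b c
        decide
    · simp only [l, if_neg hx]
      by_cases hjk : j = k
      · rw [hjk]
      · exact (r_indep hij hik hjk hx).symm
  choose l hl0 hladd hl using exl
  refine ⟨AddMonoidHom.mk' (fun w => ∑ i, l i (w i)) fun u v => by
    simp only [Pi.add_apply, hladd, Finset.sum_add_distrib], ?_⟩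
  suffices ∀ (m : ℕ) w, (Finset.univ.filter fun i => w i ≠ 0).card ≤ m →
      Cfsg.hermForm n K 2 w w = 0 → δ w = ∑ i, l i (w i) from fun w hw => this _ w le_rfl hw
  intro m
  induction m with
  | zero =>
    intro w hw _
    have : w = 0 := funext fun i => by_contra fun k => by
      have h1 : 0 < (Finset.univ.filter fun i => w i ≠ 0).card :=
        Finset.card_pos.2 ⟨i, Finset.mem_filter.2 ⟨Finset.mem_univ _, k⟩⟩
      omega
    subst this
    simp [δ0, hl0]
  | succ m ih =>
    intro w hw hsw
    by_cases h0 : w = 0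
    · subst h0
      simp [δ0, hl0]
    obtain ⟨i, hi⟩ := Function.ne_iff.1 h0
    simp only [Pi.zero_apply] at hi
    obtain ⟨j, hji, hj⟩ : ∃ j, j ≠ i ∧ w j ≠ 0 := by
      by_contra! hno
      have : Cfsg.hermForm n K 2 w w = 1 := by
        rw [Cfsg.hermForm, Finset.sum_eq_single i (fun k _ hk => by rw [hno k hk, zero_mul]) (by simp),
          cube _ hi]
      exact one_ne_zero (this.symm.trans hsw)
    set u := u2 i j (w i) (w j) with hu
    set v := w + u with hv
    have hij := hji.symm
    have huw : ∀ k, v k = if k = i ∨ k = j then 0 else w k := by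
      intro k
      simp only [hv, hu, Pi.add_apply, u2]
      split_ifs with h
      · rcases h with rfl | rfl <;> simp [Pi.single_eq_of_ne hij, Pi.single_eq_of_ne hji, Φ.add_self]
      · rw [not_or] at h
        simp [Pi.single_eq_of_ne h.1, Pi.single_eq_of_ne h.2]
    have hwuv : w = u + v := by
      rw [hv, add_comm u, add_assoc]
      funext k
      simp [Φ.add_self]
    have hvsub : (Finset.univ.filter fun k => v k ≠ 0).card ≤ m := by
      have : (Finset.univ.filter fun k => v k ≠ 0) ⊆
          (Finset.univ.filter fun k => w k ≠ 0).erase i := by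
        intro k hk
        simp only [Finset.mem_filter, Finset.mem_univ, true_and, huw k] at hk
        by_cases h : k = i ∨ k = j
        · simp [h] at hk
        · rw [if_neg h] at hk
          rw [not_or] at h
          simp [h.1, hk]
      refine le_trans (Finset.card_le_card this) ?_
      rw [Finset.card_erase_of_mem (by simp [hi])]
      omega
    have huv : Cfsg.hermForm n K 2 u v = 0 := by
      rw [hu, hpair hij, huw i, huw j]
      simp
    have hvv : Cfsg.hermForm n K 2 v v = 0 := by
      rw [← hsw]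
      simp only [Cfsg.hermForm]
      rw [← sub_eq_zero, ← Finset.sum_sub_distrib]
      calc _ = ∑ k, (if k = i ∨ k = j then (1 : K) else 0) := by
            refine Finset.sum_congr rfl fun k _ => ?_
            rw [huw k]
            split_ifs with h
            · rcases h with rfl | rfl
              · rw [zero_mul, zero_sub, cube _ hi]; linear_combination -Φ.two_eq
              · rw [zero_mul, zero_sub, cube _ hj]; linear_combination -Φ.two_eq
            · rw [sub_self]
        _ = 0 := by
            have : (Finset.univ.filter fun k => k = i ∨ k = j) = {i, j} := by ext k; simp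
            rw [Finset.sum_ite, Finset.sum_const_zero, add_zero, this, Finset.sum_pair hij, Φ.add_self]
    rw [hwuv, hadd u v (hsing hij hi hj) hvv (by rw [huv, b00]), ih v hvsub hvv]
    simp only [Pi.add_apply, hladd, Finset.sum_add_distrib]
    congr 1
    rw [Finset.sum_eq_add i j hij (fun k _ hk => by
      rw [hu]; simp [u2, Pi.single_eq_of_ne hk.1, Pi.single_eq_of_ne hk.2, hl0]) (by simp) (by simp),
      hu, (hval hij _ _).1, (hval hij _ _).2, r_split hij hi hj, hl i j hij _ hi, hl j i hji _ hj]

end CfsgLib.ThreeTrans.PolarTwins
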