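import Mathlib

/-!
# Orienting singular lines

A non-degenerate quadratic space over two elements whose singular vectors are partitioned into totally
singular planes, any two of which are orthogonal or paired, with the three mixed sums of a paired couple
again on one plane, carries an isometry `ω` with `ω² + ω + 1 = 0` preserving each of these planes.
The parity of the pairing of two planes, in chosen frames, is a cocycle.
-/

set_option autoImplicit false
set_option linter.unusedSectionVars false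

namespace CfsgLib.ThreeTrans.PolarTwins

/-- Planes with frames in a quadratic space over two elements. -/
structure Frame (V : Type*) [AddCommGroup V] [Module (ZMod 2) V] (ι : Type*) where
  /-- the quadratic form -/
  q : V → ZMod 2
  /-- its polar form -/
  β : LinearMap.BilinForm (ZMod 2) V
  polar : ∀ u v, q (u + v) = q u + q v + β u v
  nondeg : ∀ v, (∀ w, β v w = 0) → v = 0
  /-- first vectors -/
  e : ι → V
  /-- second vectors -/
  f : ι → V
  ne : ∀ L, e L ≠ 0 ∧ f L ≠ 0 ∧ e L + f L ≠ 0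
  sing : ∀ L, q (e L) = 0 ∧ q (f L) = 0 ∧ q (e L + f L) = 0
  cover : ∀ v, v ≠ 0 → q v = 0 → ∃ L, v = e L ∨ v = f L ∨ v = e L + f L
  span : Submodule.span (ZMod 2) (Set.range e ∪ Set.range f) = ⊤
  dich : ∀ L M, (β (e L) (e M) = 0 ∧ β (e L) (f M) = 0 ∧ β (f L) (e M) = 0 ∧ β (f L) (f M) = 0) ∨
    β (e L) (e M) * β (f L) (f M) + β (e L) (f M) * β (f L) (e M) = 1
  third : ∀ L M, β (e L) (e M) * β (f L) (f M) + β (e L) (f M) * β (f L) (e M) = 1 → ∃ N, ∀ u,
    u = e L + β (e L) (f M) • e M + β (e L) (e M) • f M ∨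
      u = f L + β (f L) (f M) • e M + β (f L) (e M) • f M →
    u = e N ∨ u = f N ∨ u = e N + f N

namespace Frame

variable {V : Type*} [AddCommGroup V] [Module (ZMod 2) V] {ι : Type*} (R : Frame V ι)

theorem add_self2 (v : V) : v + v = 0 := by
  rw [← two_smul (ZMod 2) v, show (2 : ZMod 2) = 0 from rfl, zero_smul]

theorem add_cancel2 (x y : V) : x + (x + y) = y := by rw [← add_assoc, add_self2, zero_add]

theorem q_zero : R.q 0 = 0 := by
  have := R.polar 0 0
  rw [add_zero, map_zero, add_zero] at this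
  exact (show ∀ t : ZMod 2, t = t + t → t = 0 by decide) _ this

theorem β_symm (u v : V) : R.β u v = R.β v u := by
  have h1 := R.polar u v
  have h2 := R.polar v u
  rw [add_comm v u, h1] at h2
  linear_combination h2

theorem β_self (v : V) : R.β v v = 0 := by
  have := R.polar v v
  rw [add_self2 v, R.q_zero] at this
  exact (show ∀ t s : ZMod 2, 0 = t + t + s → s = 0 by decide) _ _ this

theorem β_line (L : ι) : R.β (R.e L) (R.f L) = 0 := by
  have := R.polar (R.e L) (R.f L)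
  rw [(R.sing L).1, (R.sing L).2.1, (R.sing L).2.2, zero_add, zero_add] at this
  exact this.symm

/-- Orthogonal planes. -/
def Orth (L M : ι) : Prop :=
  R.β (R.e L) (R.e M) = 0 ∧ R.β (R.e L) (R.f M) = 0 ∧ R.β (R.f L) (R.e M) = 0 ∧
    R.β (R.f L) (R.f M) = 0

theorem Orth.symm {L M : ι} (h : R.Orth L M) : R.Orth M L := by
  obtain ⟨h1, h2, h3, h4⟩ := h
  exact ⟨by rw [R.β_symm, h1], by rw [R.β_symm, h3], by rw [R.β_symm, h2], by rw [R.β_symm, h4]⟩

theorem orth_self (L : ι) : R.Orth L L :=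
  ⟨R.β_self _, R.β_line L, by rw [R.β_symm, R.β_line], R.β_self _⟩

/-- Parity of an invertible two by two matrix over two elements. -/
def par (a b c d : ZMod 2) : ZMod 2 := if d = a ∧ b = a + c then 0 else 1

/-- Parity of the pairing of two planes. -/
def eps (L M : ι) : ZMod 2 :=
  par (R.β (R.e L) (R.e M)) (R.β (R.e L) (R.f M)) (R.β (R.f L) (R.e M)) (R.β (R.f L) (R.f M))

theorem det_of_not_orth {L M : ι} (h : ¬ R.Orth L M) :
    R.β (R.e L) (R.e M) * R.β (R.f L) (R.f M) + R.β (R.e L) (R.f M) * R.β (R.f L) (R.e M) = 1 :=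
  (R.dich L M).resolve_left h

theorem eps_symm (L M : ι) : R.eps L M = R.eps M L := by
  simp only [eps]
  rw [R.β_symm (R.e M) (R.e L), R.β_symm (R.e M) (R.f L), R.β_symm (R.f M) (R.e L),
    R.β_symm (R.f M) (R.f L)]
  generalize R.β (R.e L) (R.e M) = a
  generalize R.β (R.e L) (R.f M) = b
  generalize R.β (R.f L) (R.e M) = c
  generalize R.β (R.f L) (R.f M) = d
  revert a b c d
  decide

set_option synthInstance.maxSize 2000 in
set_option synthInstance.maxHeartbeats 200000 in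
theorem par_triangle_aux : ∀ P Q T : ZMod 2 × ZMod 2 × ZMod 2 × ZMod 2,
    P.1 * P.2.2.2 + P.2.1 * P.2.2.1 = 1 → Q.1 * Q.2.2.2 + Q.2.1 * Q.2.2.1 = 1 →
    T.1 * T.2.2.2 + T.2.1 * T.2.2.1 = 1 →
    ((T.1 + P.2.1 * Q.1 + P.1 * Q.2.2.1 = 0 ∧ T.2.1 + P.2.1 * Q.2.1 + P.1 * Q.2.2.2 = 0 ∧
        T.2.2.1 + P.2.2.2 * Q.1 + P.2.2.1 * Q.2.2.1 = 0 ∧
        T.2.2.2 + P.2.2.2 * Q.2.1 + P.2.2.1 * Q.2.2.2 = 0) ∨
      (T.1 + P.2.1 * Q.1 + P.1 * Q.2.2.1) * (T.2.2.2 + P.2.2.2 * Q.2.1 + P.2.2.1 * Q.2.2.2) +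
        (T.2.1 + P.2.1 * Q.2.1 + P.1 * Q.2.2.2) * (T.2.2.1 + P.2.2.2 * Q.1 + P.2.2.1 * Q.2.2.1) = 1) →
    par P.1 P.2.1 P.2.2.1 P.2.2.2 + par Q.1 Q.2.1 Q.2.2.1 Q.2.2.2 +
      par T.1 T.2.1 T.2.2.1 T.2.2.2 = 0 := by
  decide +kernel

theorem par_triangle (a b c d a₁ b₁ c₁ d₁ a₂ b₂ c₂ d₂ : ZMod 2) (h : a * d + b * c = 1)
    (h₁ : a₁ * d₁ + b₁ * c₁ = 1) (h₂ : a₂ * d₂ + b₂ * c₂ = 1)
    (hd : (a₂ + b * a₁ + a * c₁ = 0 ∧ b₂ + b * b₁ + a * d₁ = 0 ∧ c₂ + d * a₁ + c * c₁ = 0 ∧
        d₂ + d * b₁ + c * d₁ = 0) ∨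
      (a₂ + b * a₁ + a * c₁) * (d₂ + d * b₁ + c * d₁) +
        (b₂ + b * b₁ + a * d₁) * (c₂ + d * a₁ + c * c₁) = 1) :
    par a b c d + par a₁ b₁ c₁ d₁ + par a₂ b₂ c₂ d₂ = 0 :=
  par_triangle_aux (a, b, c, d) (a₁, b₁, c₁, d₁) (a₂, b₂, c₂, d₂) h h₁ h₂ hd

/-- A plane spanned by two vectors of a plane of the frame pairs with any other in the same way. -/
theorem dich_of_mem {N K : ι} {u v : V} (hu : u = R.e N ∨ u = R.f N ∨ u = R.e N + R.f N)
    (hv : v = R.e N ∨ v = R.f N ∨ v = R.e N + R.f N) (hne : u ≠ v) :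
    (R.β u (R.e K) = 0 ∧ R.β u (R.f K) = 0 ∧ R.β v (R.e K) = 0 ∧ R.β v (R.f K) = 0) ∨
      R.β u (R.e K) * R.β v (R.f K) + R.β u (R.f K) * R.β v (R.e K) = 1 := by
  have h := R.dich N K
  rcases hu with rfl | rfl | rfl <;> rcases hv with rfl | rfl | rfl <;>
    first
    | exact absurd rfl hne
    | (try simp only [map_add, LinearMap.add_apply] at *
       generalize R.β (R.e N) (R.e K) = a at *
       generalize R.β (R.e N) (R.f K) = b at *
       generalize R.β (R.f N) (R.e K) = c at *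
       generalize R.β (R.f N) (R.f K) = d at *
       revert a b c d
       decide)

theorem triangle {L M K : ι} (h1 : ¬ R.Orth L M) (h2 : ¬ R.Orth M K) (h3 : ¬ R.Orth L K) :
    R.eps L M + R.eps M K + R.eps L K = 0 := by
  have d1 := R.det_of_not_orth h1
  have d2 := R.det_of_not_orth h2
  have d3 := R.det_of_not_orth h3
  obtain ⟨N, hN⟩ := R.third L M d1
  set u := R.e L + R.β (R.e L) (R.f M) • R.e M + R.β (R.e L) (R.e M) • R.f M with hu
  set v := R.f L + R.β (R.f L) (R.f M) • R.e M + R.β (R.f L) (R.e M) • R.f M with hv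
  have hne : u ≠ v := by
    intro h
    have h1' := congrArg (fun x => R.β x (R.e M)) h
    have h2' := congrArg (fun x => R.β x (R.f M)) h
    simp only [hu, hv, map_add, map_smul, LinearMap.add_apply, LinearMap.smul_apply, smul_eq_mul,
      R.β_self, R.β_line, R.β_symm (R.f M) (R.e M)] at h1' h2'
    revert d1 h1' h2'
    generalize R.β (R.e L) (R.e M) = a
    generalize R.β (R.e L) (R.f M) = b
    generalize R.β (R.f L) (R.e M) = c
    generalize R.β (R.f L) (R.f M) = d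
    revert a b c d
    decide
  have hd := R.dich_of_mem (K := K) (hN u (Or.inl rfl)) (hN v (Or.inr rfl)) hne
  simp only [hu, hv, map_add, map_smul, LinearMap.add_apply, LinearMap.smul_apply, smul_eq_mul] at hd
  exact par_triangle _ _ _ _ _ _ _ _ _ _ _ _ d1 d2 d3 hd

/-- A plane paired with every plane paired with exactly one of two given ones. -/
theorem join {J L K₀ : ι} (hK₀ : R.Orth L K₀ ∧ ¬ R.Orth J K₀) :
    ∃ N, ∀ K, (R.Orth L K ∧ ¬ R.Orth J K) ∨ (R.Orth J K ∧ ¬ R.Orth L K) → ¬ R.Orth N K := by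
  obtain ⟨v, hv, hjv, hvne⟩ : ∃ v, (v = R.e L ∨ v = R.f L ∨ v = R.e L + R.f L) ∧
      R.β (R.e J) v = 0 ∧ v ≠ 0 := by
    by_cases h : R.β (R.e J) (R.e L) = 0
    · exact ⟨_, Or.inl rfl, h, (R.ne L).1⟩
    by_cases h' : R.β (R.e J) (R.f L) = 0
    · exact ⟨_, Or.inr (Or.inl rfl), h', (R.ne L).2.1⟩
    refine ⟨_, Or.inr (Or.inr rfl), ?_, (R.ne L).2.2⟩
    rw [map_add]
    exact (show ∀ s t : ZMod 2, s ≠ 0 → t ≠ 0 → s + t = 0 by decide) _ _ h h'
  have hqv : R.q v = 0 := by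
    rcases hv with rfl | rfl | rfl
    exacts [(R.sing L).1, (R.sing L).2.1, (R.sing L).2.2]
  have zv : ∀ K, R.Orth L K → R.β v (R.e K) = 0 ∧ R.β v (R.f K) = 0 := fun K ⟨h1, h2, h3, h4⟩ => by
    rcases hv with rfl | rfl | rfl
    · exact ⟨h1, h2⟩
    · exact ⟨h3, h4⟩
    · simp [h1, h2, h3, h4]
  have nzv : ∀ K, ¬ R.Orth L K → ¬ (R.β v (R.e K) = 0 ∧ R.β v (R.f K) = 0) := fun K hK => by
    have hd := R.det_of_not_orth hK
    rcases hv with rfl | rfl | rfl <;> (try simp only [map_add, LinearMap.add_apply]) <;> revert hd <;>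
      generalize R.β (R.e L) (R.e K) = a <;> generalize R.β (R.e L) (R.f K) = b <;>
      generalize R.β (R.f L) (R.e K) = c <;> generalize R.β (R.f L) (R.f K) = d <;>
      revert a b c d <;> decide
  have nzu : ∀ K, ¬ R.Orth J K → ¬ (R.β (R.e J) (R.e K) = 0 ∧ R.β (R.e J) (R.f K) = 0) := fun K hK => by
    have hd := R.det_of_not_orth hK
    revert hd
    generalize R.β (R.e J) (R.e K) = a
    generalize R.β (R.e J) (R.f K) = b
    generalize R.β (R.f J) (R.e K) = c
    generalize R.β (R.f J) (R.f K) = d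
    revert a b c d
    decide
  have hne : R.e J + v ≠ 0 := fun h => nzu K₀ hK₀.2 (by
    have : R.e J = v := by
      calc R.e J = R.e J + v + v := by rw [add_assoc, add_self2, add_zero]
        _ = v := by rw [h, zero_add]
    rw [this]
    exact zv K₀ hK₀.1)
  obtain ⟨N, hN⟩ := R.cover (R.e J + v) hne (by rw [R.polar, (R.sing J).1, hqv, hjv]; rfl)
  refine ⟨N, fun K hK ⟨h1, h2, h3, h4⟩ => ?_⟩
  have hz : R.β (R.e J + v) (R.e K) = 0 ∧ R.β (R.e J + v) (R.f K) = 0 := by
    rcases hN with h | h | h <;> rw [h]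
    · exact ⟨h1, h2⟩
    · exact ⟨h3, h4⟩
    · simp [h1, h2, h3, h4]
  simp only [map_add, LinearMap.add_apply] at hz
  rcases hK with ⟨hL, hJ⟩ | ⟨hJ, hL⟩
  · obtain ⟨z1, z2⟩ := zv K hL
    rw [z1, z2, add_zero, add_zero] at hz
    exact nzu K hJ hz
  · rw [hJ.1, hJ.2.1, zero_add, zero_add] at hz
    exact nzv K hL hz

theorem exists_not_orth (L : ι) : ∃ K, ¬ R.Orth L K := by
  by_contra! hall
  refine (R.ne L).1 (R.nondeg _ fun w => ?_)
  have hw : w ∈ Submodule.span (ZMod 2) (Set.range R.e ∪ Set.range R.f) := by rw [R.span]; trivial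
  induction hw using Submodule.span_induction with
  | mem x hx =>
    rcases hx with ⟨K, rfl⟩ | ⟨K, rfl⟩
    exacts [(hall K).1, (hall K).2.1]
  | zero => exact map_zero _
  | add x y _ _ hx hy => rw [map_add, hx, hy, add_zero]
  | smul t x _ hx => rw [map_smul, hx, smul_zero]

theorem exists_common (L M : ι) : ∃ J, ¬ R.Orth L J ∧ ¬ R.Orth M J := by
  obtain ⟨K, hK⟩ := R.exists_not_orth L
  obtain ⟨K', hK'⟩ := R.exists_not_orth M
  by_cases h : R.Orth M K
  swap
  · exact ⟨K, hK, h⟩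
  by_cases h' : R.Orth L K'
  swap
  · exact ⟨K', h', hK'⟩
  obtain ⟨N, hN⟩ := R.join (J := K') (L := K) (K₀ := M) ⟨Orth.symm R h, fun k => hK' (Orth.symm R k)⟩
  exact ⟨N, fun k => hN L (Or.inr ⟨Orth.symm R h', fun j => hK (Orth.symm R j)⟩) (Orth.symm R k),
    fun k => hN M (Or.inl ⟨Orth.symm R h, fun j => hK' (Orth.symm R j)⟩) (Orth.symm R k)⟩

theorem eps_via {L M J J' : ι} (h1 : ¬ R.Orth L J) (h2 : ¬ R.Orth M J) (h3 : ¬ R.Orth L J')
    (h4 : ¬ R.Orth M J') : R.eps L J + R.eps J M = R.eps L J' + R.eps J' M := by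
  have same : ∀ {J J'}, ¬ R.Orth L J → ¬ R.Orth M J → ¬ R.Orth L J' → ¬ R.Orth M J' → ¬ R.Orth J J' →
      R.eps L J + R.eps J M = R.eps L J' + R.eps J' M := by
    intro J J' h1 h2 h3 h4 h5
    have t1 := R.triangle h1 h5 h3
    have t2 := R.triangle h2 h5 h4
    rw [R.eps_symm J M, R.eps_symm J' M]
    revert t1 t2
    generalize R.eps L J = p
    generalize R.eps J J' = r
    generalize R.eps L J' = p'
    generalize R.eps M J = s
    generalize R.eps M J' = s'
    revert p r p' s s'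
    decide
  by_cases h5 : R.Orth J J'
  swap
  · exact same h1 h2 h3 h4 h5
  by_cases hLM : R.Orth L M
  · obtain ⟨N, hN⟩ := R.join (J := J) (L := L) (K₀ := M) ⟨hLM, fun k => h2 (Orth.symm R k)⟩
    have n1 : ¬ R.Orth N L := hN L (Or.inl ⟨R.orth_self L, fun k => h1 (Orth.symm R k)⟩)
    have n2 : ¬ R.Orth N M := hN M (Or.inl ⟨hLM, fun k => h2 (Orth.symm R k)⟩)
    have n3 : ¬ R.Orth N J := hN J (Or.inr ⟨R.orth_self J, h1⟩)
    have n4 : ¬ R.Orth N J' := hN J' (Or.inr ⟨h5, h3⟩)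
    exact (same h1 h2 (fun k => n1 (Orth.symm R k)) (fun k => n2 (Orth.symm R k))
      fun k => n3 (Orth.symm R k)).trans
      (same (fun k => n1 (Orth.symm R k)) (fun k => n2 (Orth.symm R k)) h3 h4 n4)
  · have t1 := R.triangle hLM h2 h1
    have t2 := R.triangle hLM h4 h3
    rw [R.eps_symm J M, R.eps_symm J' M]
    revert t1 t2
    generalize R.eps L M = r
    generalize R.eps L J = p
    generalize R.eps L J' = p'
    generalize R.eps M J = s
    generalize R.eps M J' = s'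
    revert p r p' s s'
    decide

theorem via_eq {L M J : ι} (h : ¬ R.Orth L M) (h1 : ¬ R.Orth L J) (h2 : ¬ R.Orth M J) :
    R.eps L J + R.eps J M = R.eps L M := by
  have t := R.triangle h h2 h1
  rw [R.eps_symm J M]
  revert t
  generalize R.eps L M = r
  generalize R.eps L J = p
  generalize R.eps M J = s
  revert p r s
  decide

theorem exists_potential : ∃ o : ι → ZMod 2, ∀ L M, ¬ R.Orth L M → R.eps L M = o L + o M := by
  classical
  rcases isEmpty_or_nonempty ι with hι | ⟨⟨L₀⟩⟩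
  · exact ⟨fun _ => 0, fun L => hι.elim L⟩
  choose J hJ1 hJ2 using fun M => R.exists_common L₀ M
  have flip : ∀ {X Y}, ¬ R.Orth X Y → ¬ R.Orth Y X := fun h k => h (Orth.symm R k)
  refine ⟨fun M => R.eps L₀ (J M) + R.eps (J M) M, fun M M' hMM => ?_⟩
  simp only
  have cancel : ∀ x y : ZMod 2, y = x + (x + y) ∧ y = (x + y) + x := by decide
  by_cases h0 : R.Orth L₀ M
  swap
  · by_cases h0' : R.Orth L₀ M'
    swap
    · rw [R.via_eq h0 (hJ1 M) (hJ2 M), R.via_eq h0' (hJ1 M') (hJ2 M')]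
      have t := R.triangle h0 hMM h0'
      revert t
      generalize R.eps L₀ M = x
      generalize R.eps M M' = r
      generalize R.eps L₀ M' = y
      revert x r y
      decide
    · rw [R.via_eq h0 (hJ1 M) (hJ2 M), R.eps_via (hJ1 M') (hJ2 M') h0 (flip hMM)]
      exact (cancel _ _).1
  by_cases h0' : R.Orth L₀ M'
  swap
  · rw [R.via_eq h0' (hJ1 M') (hJ2 M'), R.eps_via (hJ1 M) (hJ2 M) h0' hMM, R.eps_symm M M']
    exact (cancel _ _).2
  obtain ⟨P, p0, p1, p2⟩ : ∃ P, ¬ R.Orth L₀ P ∧ ¬ R.Orth M P ∧ ¬ R.Orth M' P := by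
    by_cases h : R.Orth M' (J M)
    swap
    · exact ⟨J M, hJ1 M, hJ2 M, h⟩
    obtain ⟨N, hN⟩ := R.join (J := J M) (L := M) (K₀ := M) ⟨R.orth_self M, flip (hJ2 M)⟩
    exact ⟨N, flip (hN L₀ (Or.inl ⟨Orth.symm R h0, flip (hJ1 M)⟩)),
      flip (hN M (Or.inl ⟨R.orth_self M, flip (hJ2 M)⟩)),
      flip (hN M' (Or.inr ⟨Orth.symm R h, hMM⟩))⟩
  rw [R.eps_via (hJ1 M) (hJ2 M) p0 p1, R.eps_via (hJ1 M') (hJ2 M') p0 p2]
  have t := R.triangle hMM p2 p1
  rw [R.eps_symm P M, R.eps_symm P M']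
  revert t
  generalize R.eps M M' = r
  generalize R.eps L₀ P = p
  generalize R.eps M P = s
  generalize R.eps M' P = s'
  revert p r s s'
  decide

theorem par_law : ∀ a b c d s t : ZMod 2, a * d + b * c = 1 → par a b c d = s + t →
    let F : ZMod 2 → ZMod 2 → ZMod 2 → ZMod 2 → ZMod 2 := fun x y z w =>
      x * z * a + x * w * b + y * z * c + y * w * d
    -- images of the frame vectors
    F s 1 t 1 = F 1 0 1 0 ∧ F s 1 1 (t + 1) = F 1 0 0 1 ∧ F 1 (s + 1) t 1 = F 0 1 1 0 ∧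
      F 1 (s + 1) 1 (t + 1) = F 0 1 0 1 := by
  decide +kernel

/-- The orientation, as an isometry with `ω² + ω + 1 = 0` preserving every plane. -/
theorem exists_omega : ∃ ω : V →ₗ[ZMod 2] V, (∀ v, ω (ω v) + ω v + v = 0) ∧
    (∀ u v, R.β (ω u) (ω v) = R.β u v) ∧ (∀ v, R.q (ω v) = R.q v) ∧
    ∀ L v, (v = R.e L ∨ v = R.f L ∨ v = R.e L + R.f L) →
      ω v = R.e L ∨ ω v = R.f L ∨ ω v = R.e L + R.f L := by
  classical
  obtain ⟨o, ho⟩ := R.exists_potential
  let E : ι → V := fun L => o L • R.e L + R.f L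
  let F : ι → V := fun L => R.e L + (o L + 1) • R.f L
  let gen : Set (V × V) := Set.range (fun L => (R.e L, E L)) ∪ Set.range fun L => (R.f L, F L)
  let W := Submodule.span (ZMod 2) gen
  have hiso : ∀ p ∈ gen, ∀ p' ∈ gen, R.β p.2 p'.2 = R.β p.1 p'.1 := by
    have main : ∀ L M, R.β (E L) (E M) = R.β (R.e L) (R.e M) ∧ R.β (E L) (F M) = R.β (R.e L) (R.f M) ∧
        R.β (F L) (E M) = R.β (R.f L) (R.e M) ∧ R.β (F L) (F M) = R.β (R.f L) (R.f M) := by
      intro L M
      simp only [E, F, map_add, map_smul, LinearMap.add_apply, LinearMap.smul_apply, smul_eq_mul]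
      by_cases h : R.Orth L M
      · simp [h.1, h.2.1, h.2.2.1, h.2.2.2]
      have := par_law _ _ _ _ _ _ (R.det_of_not_orth h) (ho L M h)
      simp only [one_mul, mul_one, zero_mul, add_zero, zero_add] at this
      obtain ⟨k1, k2, k3, k4⟩ := this
      refine ⟨?_, ?_, ?_, ?_⟩
      · linear_combination k1
      · linear_combination k2
      · linear_combination k3
      · linear_combination k4
    rintro p (⟨L, rfl⟩ | ⟨L, rfl⟩) p' (⟨M, rfl⟩ | ⟨M, rfl⟩)
    exacts [(main L M).1, (main L M).2.1, (main L M).2.2.1, (main L M).2.2.2]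
  have hbil : ∀ p ∈ W, ∀ p' ∈ W, R.β p.2 p'.2 = R.β p.1 p'.1 := by
    intro p hp
    induction hp using Submodule.span_induction with
    | mem x hx =>
      intro p' hp'
      induction hp' using Submodule.span_induction with
      | mem y hy => exact hiso x hx y hy
      | zero => simp
      | add y z _ _ hy hz => simp [hy, hz]
      | smul t y _ hy => simp [hy]
    | zero => intro p' _; simp
    | add x y _ _ hx hy => intro p' hp'; simp [hx p' hp', hy p' hp']
    | smul t x _ hx => intro p' hp'; simp [hx p' hp']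
  have hfst : ∀ v, ∃ w, (v, w) ∈ W := by
    intro v
    have hv : v ∈ Submodule.span (ZMod 2) (Set.range R.e ∪ Set.range R.f) := by rw [R.span]; trivial
    induction hv using Submodule.span_induction with
    | mem x hx =>
      rcases hx with ⟨K, rfl⟩ | ⟨K, rfl⟩
      · exact ⟨E K, Submodule.subset_span (Or.inl ⟨K, rfl⟩)⟩
      · exact ⟨F K, Submodule.subset_span (Or.inr ⟨K, rfl⟩)⟩
    | zero => exact ⟨0, W.zero_mem⟩
    | add x y _ _ hx hy =>
      obtain ⟨w, hw⟩ := hx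
      obtain ⟨w', hw'⟩ := hy
      exact ⟨w + w', W.add_mem hw hw'⟩
    | smul t x _ hx =>
      obtain ⟨w, hw⟩ := hx
      exact ⟨t • w, W.smul_mem t hw⟩
  have hline : ∀ L, (R.e L + R.f L, E L + F L) ∈ W := fun L =>
    W.add_mem (Submodule.subset_span (Or.inl ⟨L, rfl⟩)) (Submodule.subset_span (Or.inr ⟨L, rfl⟩))
  have hsurj : ∀ v, ∃ u, (u, v) ∈ W := by
    intro v
    have hv : v ∈ Submodule.span (ZMod 2) (Set.range R.e ∪ Set.range R.f) := by rw [R.span]; trivial
    induction hv using Submodule.span_induction with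
    | mem x hx =>
      have bit : ∀ t : ZMod 2, t = 0 ∨ t = 1 := by decide
      rcases hx with ⟨K, rfl⟩ | ⟨K, rfl⟩ <;> rcases bit (o K) with h | h
      · exact ⟨R.e K + R.f K, by simpa [E, F, h, add_comm, add_left_comm, add_self2, add_cancel2] using hline K⟩
      · exact ⟨R.f K, Submodule.subset_span (Or.inr ⟨K, by simp [F, h, show (1 : ZMod 2) + 1 = 0 from rfl]⟩)⟩
      · exact ⟨R.e K, Submodule.subset_span (Or.inl ⟨K, by simp [E, h]⟩)⟩
      · exact ⟨R.e K + R.f K, by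
          simpa [E, F, h, show (1 : ZMod 2) + 1 = 0 from rfl, add_comm, add_left_comm, add_self2, add_cancel2]
            using hline K⟩
    | zero => exact ⟨0, W.zero_mem⟩
    | add x y _ _ hx hy =>
      obtain ⟨w, hw⟩ := hx
      obtain ⟨w', hw'⟩ := hy
      exact ⟨w + w', W.add_mem hw hw'⟩
    | smul t x _ hx =>
      obtain ⟨w, hw⟩ := hx
      exact ⟨t • w, W.smul_mem t hw⟩
  have huniq : ∀ v w w', (v, w) ∈ W → (v, w') ∈ W → w = w' := by
    intro v w w' hw hw'
    refine sub_eq_zero.1 (R.nondeg _ fun z => ?_)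
    obtain ⟨u, hu⟩ := hsurj z
    have := hbil _ (W.sub_mem hw hw') _ hu
    simpa using this
  choose g hg using hfst
  let ω : V →ₗ[ZMod 2] V :=
    { toFun := g
      map_add' := fun u v => huniq _ _ _ (hg _) (W.add_mem (hg u) (hg v))
      map_smul' := fun t v => huniq _ _ _ (hg _) (W.smul_mem t (hg v)) }
  have hωe : ∀ L, ω (R.e L) = E L := fun L => huniq _ _ _ (hg _) (Submodule.subset_span (Or.inl ⟨L, rfl⟩))
  have hωf : ∀ L, ω (R.f L) = F L := fun L => huniq _ _ _ (hg _) (Submodule.subset_span (Or.inr ⟨L, rfl⟩))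
  have bit : ∀ t : ZMod 2, t = 0 ∨ t = 1 := by decide
  have h11 : (1 : ZMod 2) + 1 = 0 := rfl
  have hplane : ∀ L v, (v = R.e L ∨ v = R.f L ∨ v = R.e L + R.f L) →
      ω v = R.e L ∨ ω v = R.f L ∨ ω v = R.e L + R.f L := by
    intro L v hv
    rcases hv with rfl | rfl | rfl <;> rcases bit (o L) with h | h <;>
      simp [hωe, hωf, E, F, h, h11, add_comm, add_left_comm, add_self2, add_cancel2]
  refine ⟨ω, fun v => ?_, fun u v => hbil _ (hg u) _ (hg v), fun v => ?_, hplane⟩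
  · have hv : v ∈ Submodule.span (ZMod 2) (Set.range R.e ∪ Set.range R.f) := by rw [R.span]; trivial
    induction hv using Submodule.span_induction with
    | mem x hx =>
      rcases hx with ⟨K, rfl⟩ | ⟨K, rfl⟩ <;> rcases bit (o K) with h | h <;>
        simp [hωe, hωf, E, F, h, h11, add_comm, add_left_comm, add_self2, add_cancel2]
    | zero => simp
    | add x y _ _ hx hy =>
      calc ω (ω (x + y)) + ω (x + y) + (x + y) = (ω (ω x) + ω x + x) + (ω (ω y) + ω y + y) := by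
            rw [map_add, map_add]; abel
        _ = 0 := by rw [hx, hy, add_zero]
    | smul t x _ hx => rw [map_smul, map_smul, ← smul_add, ← smul_add, hx, smul_zero]
  · have hv : v ∈ Submodule.span (ZMod 2) (Set.range R.e ∪ Set.range R.f) := by rw [R.span]; trivial
    induction hv using Submodule.span_induction with
    | mem x hx =>
      obtain ⟨K, hK⟩ : ∃ K, x = R.e K ∨ x = R.f K ∨ x = R.e K + R.f K := by
        rcases hx with ⟨K, rfl⟩ | ⟨K, rfl⟩
        exacts [⟨K, Or.inl rfl⟩, ⟨K, Or.inr (Or.inl rfl)⟩]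
      have z : ∀ y, (y = R.e K ∨ y = R.f K ∨ y = R.e K + R.f K) → R.q y = 0 := by
        rintro y (rfl | rfl | rfl)
        exacts [(R.sing K).1, (R.sing K).2.1, (R.sing K).2.2]
      rw [z _ (hplane K x hK), z x hK]
    | zero => rw [map_zero]
    | add x y _ _ hx hy =>
      rw [map_add, R.polar, R.polar, hx, hy]
      exact congrArg _ (hbil _ (hg x) _ (hg y))
    | smul t x _ hx =>
      rcases bit t with rfl | rfl
      · simp
      · simpa using hx

end Frame

end CfsgLib.ThreeTrans.PolarTwins
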