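import Cfsg.Agent.Lib.ThreeTrans.PolarTwins.Plus

/-!
# The group of translations modulo `a` as a vector space over two elements
-/

set_option autoImplicit false
set_option linter.unusedSectionVars false

namespace CfsgLib.ThreeTrans.PolarTwins

open CfsgLib.ThreeTrans

universe u

variable {G : Type u} [Group G] [Finite G] {D : Set G} {a : G}

/-- A vector space over two elements onto which `QG D a` maps with kernel `{1, a}`. -/
structure ModA (D : Set G) (a : G) (V : Type u) [AddCommGroup V] where
  /-- the map -/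
  π : G → V
  mul : ∀ g ∈ QG D a, ∀ h ∈ QG D a, π (g * h) = π g + π h
  eq_iff : ∀ g ∈ QG D a, ∀ h ∈ QG D a, π g = π h ↔ g = h ∨ g = a * h
  surj : ∀ v, ∃ g ∈ QG D a, π g = v
  add_self : ∀ v : V, v + v = 0

namespace ModA

variable {V : Type u} [AddCommGroup V] (M : ModA D a V)

theorem π_one : M.π 1 = 0 := by
  have := M.mul 1 (one_mem _) 1 (one_mem _)
  rwa [one_mul, M.add_self] at this

theorem π_zero_iff {g : G} (hg : g ∈ QG D a) : M.π g = 0 ↔ Zc a g := by
  rw [← M.π_one, M.eq_iff g hg 1 (one_mem _), mul_one]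
  exact Iff.rfl

theorem π_a : M.π a = 0 := (M.π_zero_iff (self_mem_QG a)).2 (Or.inr rfl)

theorem π_mul_a {g : G} (hg : g ∈ QG D a) : M.π (a * g) = M.π g := by
  rw [M.mul a (self_mem_QG a) g hg, M.π_a, zero_add]

end ModA

theorem Geom.exists_modA (S : Geom D) (ha : a ∈ D) :
    ∃ (V : Type u) (_ : AddCommGroup V) (_ : Module (ZMod 2) V) (_ : Finite V),
      Nonempty (ModA D a V) := by
  classical
  let N : Subgroup (QG D a) :=
    { carrier := {x | Zc a (x : G)}
      one_mem' := Or.inl rfl
      mul_mem' := fun hx hy => Zc.mul S ha hx hy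
      inv_mem' := fun {x} hx => by
        rcases hx with hx | hx
        · exact Or.inl (by rw [Subgroup.coe_inv, hx, inv_one])
        · exact Or.inr (by rw [Subgroup.coe_inv, hx, inv_eq S.tset ha]) }
  have hmem : ∀ x : QG D a, x ∈ N ↔ Zc a (x : G) := fun _ => Iff.rfl
  haveI hN : N.Normal := ⟨fun n hn g => by
    have : g * n * g⁻¹ = n := Subtype.ext <| by
      rw [Subgroup.coe_mul, Subgroup.coe_mul, Subgroup.coe_inv, (S.zc_commute ha hn g.2).symm.eq,
        mul_inv_cancel_right]
    rwa [this]⟩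
  letI : CommGroup (QG D a ⧸ N) :=
    { (inferInstance : Group (QG D a ⧸ N)) with
      mul_comm := fun x y => QuotientGroup.induction_on x fun g => QuotientGroup.induction_on y fun h => by
        rw [← QuotientGroup.mk_mul, ← QuotientGroup.mk_mul, QuotientGroup.eq, hmem]
        have := S.zc_comm ha (inv_mem h.2) (inv_mem g.2)
        simpa [mul_assoc] using this }
  have h2 : ∀ v : Additive (QG D a ⧸ N), v + v = 0 := fun v => by
    obtain ⟨g, hg⟩ := QuotientGroup.mk_surjective (Additive.toMul v)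
    apply Additive.toMul.injective
    rw [toMul_add, toMul_zero, ← hg, ← QuotientGroup.mk_mul, QuotientGroup.eq_one_iff, hmem]
    exact S.zc_sq ha g.2
  letI : Module (ZMod 2) (Additive (QG D a ⧸ N)) :=
    AddCommGroup.zmodModule fun v => by rw [two_nsmul]; exact h2 v
  let π : G → Additive (QG D a ⧸ N) := fun g =>
    if hg : g ∈ QG D a then Additive.ofMul (QuotientGroup.mk ⟨g, hg⟩) else 0
  refine ⟨Additive (QG D a ⧸ N), inferInstance, inferInstance, inferInstance,
    ⟨⟨π, fun g hg h hh => ?_, fun g hg h hh => ?_, fun v => ?_, h2⟩⟩⟩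
  · simp only [π, dif_pos hg, dif_pos hh, dif_pos (mul_mem hg hh)]
    rfl
  · simp only [π, dif_pos hg, dif_pos hh, EmbeddingLike.apply_eq_iff_eq, QuotientGroup.eq, hmem]
    show Zc a (g⁻¹ * h) ↔ _
    have hga : Commute a g := S.commute_a ha hg
    constructor
    · rintro (k | k)
      · exact Or.inl (inv_mul_eq_one.1 k)
      · refine Or.inr ?_
        rw [inv_mul_eq_iff_eq_mul, ← hga.eq] at k
        rw [k, ← mul_assoc, S.sq_self ha, one_mul]
    · rintro (k | k)
      · exact Or.inl (inv_mul_eq_one.2 k)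
      · refine Or.inr (inv_mul_eq_iff_eq_mul.2 ?_)
        rw [← hga.eq, k, ← mul_assoc, S.sq_self ha, one_mul]
  · obtain ⟨g, hg⟩ := QuotientGroup.mk_surjective (Additive.toMul v)
    exact ⟨g, g.2, by simp [π, g.2, hg]⟩

end CfsgLib.ThreeTrans.PolarTwins
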