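import Cfsg.Agent.Lib.ThreeTrans.PolarTwins.Plus
import Cfsg.Agent.Lib.ThreeTrans.PolarTwins.Quot
import Cfsg.Agent.Lib.ThreeTrans.PolarTwins.Orient

/-!
# The frame of singular planes when lines have five members

The squaring map of the group of translations is a non-degenerate quadratic form on the quotient by
`{1, a}`; its singular vectors fall into planes, one for each line through `a`.
-/

set_option autoImplicit false
set_option linter.unusedSectionVars false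

namespace CfsgLib.ThreeTrans.PolarTwins

open CfsgLib.ThreeTrans

universe u

variable {G : Type u} [Group G] [Finite G] {D : Set G} {a c : G}

namespace Geom

variable (S : Geom D)
include S

theorem five_split (h5 : ∀ x y, Adj D x y → (Ln D x y).ncard = 5) {z : G} (haz : Adj D a z) :
    ∃ y₁ y₂ y₃, y₁ ≠ y₂ ∧ y₁ ≠ y₃ ∧ y₂ ≠ y₃ ∧
      ∀ w, (w ∈ Ln D a z ∧ w ≠ a ∧ w ≠ z) ↔ w = y₁ ∨ w = y₂ ∨ w = y₃ := by
  have hc : (Ln D a z \ {a, z}).ncard = 3 := by
    rw [Set.ncard_sdiff (Set.insert_subset (left_mem_Ln haz.left)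
      (Set.singleton_subset_iff.2 (right_mem_Ln haz.right))), h5 a z haz, Set.ncard_pair haz.ne]
  obtain ⟨y₁, y₂, y₃, h12, h13, h23, he⟩ := Set.ncard_eq_three.1 hc
  refine ⟨y₁, y₂, y₃, h12, h13, h23, fun w => ?_⟩
  have := Set.ext_iff.1 he w
  simpa [and_assoc] using this

theorem plus_pair_mul {z y₁ y₂ y₃ : G} (haz : Adj D a z)
    (h₁ : y₁ ∈ Ln D a z) (h₂ : y₂ ∈ Ln D a z) (h₃ : y₃ ∈ Ln D a z) (n₁ : y₁ ≠ a) (n₂ : y₂ ≠ a)
    (n₃ : y₃ ≠ a) (m₁ : y₁ ≠ z) (m₂ : y₂ ≠ z) (m₃ : y₃ ≠ z) (h12 : y₁ ≠ y₂) (h13 : y₁ ≠ y₃)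
    (h23 : y₂ ≠ y₃) : a * (z * y₁) * (a * (z * y₂)) = a * (z * y₃) := by
  have ha := haz.left
  have hzL : z ∈ Ln D a z := right_mem_Ln haz.right
  have hza := haz.ne.symm
  have cc := fun {u v : G} (hu : u ∈ Ln D a z) (hv : v ∈ Ln D a z) => commute_of_mem_Ln haz hu hv
  have hk := S.prod_four haz hzL h₃ h₁ h₂ hza n₃ n₁ n₂ m₃.symm m₁.symm m₂.symm h13.symm h23.symm h12
  have ha' : ∀ {v}, v ∈ Ln D a z → Commute a v := fun hv => cc (left_mem_Ln ha) hv
  have e1 : a * (z * y₁) * (a * (z * y₂)) = y₁ * y₂ := by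
    rw [((ha' hzL).mul_right (ha' h₁)).symm.mul_mul_mul_comm, S.sq_self ha, one_mul,
      (cc hzL h₁).symm.mul_mul_mul_comm, S.sq_self hzL.1, one_mul]
  rw [e1]
  calc y₁ * y₂ = z * y₃ * (z * y₃ * (y₁ * y₂)) := by
        rw [← mul_assoc, S.shift_sq haz ⟨z, y₃, hzL, hza, h₃, n₃, rfl⟩, one_mul]
    _ = a * (z * y₃) := by rw [hk, ((ha' hzL).mul_right (ha' h₃)).eq]

/-- The line of each index of the frame. -/
abbrev LineIdx (D : Set G) (a c : G) : Type u := {z : G // Adj D a z ∧ Commute z c}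

/-- The frame of the lines through `a`, linked to the group. -/
theorem exists_frame (h5 : ∀ x y, Adj D x y → (Ln D x y).ncard = 5) (ha : a ∈ D) (hc : Far D a c) :
    ∃ (V : Type u) (_ : AddCommGroup V) (_ : Module (ZMod 2) V) (_ : Finite V) (M : ModA D a V)
      (R : Frame V (LineIdx D a c)),
      (∀ g ∈ QG D a, R.q (M.π g) = 0 ↔ g * g = 1) ∧
      (∀ g ∈ QG D a, ∀ h ∈ QG D a, R.β (M.π g) (M.π h) = 0 ↔ Commute g h) ∧
      (∀ (L : LineIdx D a c) v, (v = R.e L ∨ v = R.f L ∨ v = R.e L + R.f L) ↔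
        ∃ g, PlusAt D a c L.1 g ∧ M.π g = v) := by
  classical
  obtain ⟨V, i₁, i₂, i₃, ⟨M⟩⟩ := S.exists_modA ha
  refine ⟨V, i₁, i₂, i₃, M, ?_⟩
  have hz2 : ∀ v : V, v + v = 0 := M.add_self
  let χ : G → ZMod 2 := fun k => if k = 1 then 0 else 1
  have χ_zero : ∀ k, χ k = 0 ↔ k = 1 := fun k => by
    simp only [χ]
    split_ifs with h <;> simp [h]
  have χ_mul : ∀ k k', Zc a k → Zc a k' → χ (k * k') = χ k + χ k' := by
    have hne := S.ne_one ha
    rintro k k' (hk | hk) (hk' | hk') <;> rw [hk, hk'] <;> simp [χ, hne, S.sq_self ha]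
    rfl
  have zsq := fun {g : G} (hg : g ∈ QG D a) => S.zc_sq ha hg
  choose lift hlift hliftπ using M.surj
  have near : ∀ g ∈ QG D a, lift (M.π g) = g ∨ lift (M.π g) = a * g := fun g hg =>
    (M.eq_iff _ (hlift _) g hg).1 (hliftπ _)
  let q : V → ZMod 2 := fun v => χ (lift v * lift v)
  have hq : ∀ g ∈ QG D a, q (M.π g) = χ (g * g) := by
    intro g hg
    rcases near g hg with k | k <;> simp only [q, k]
    rw [(S.commute_a ha hg).symm.mul_mul_mul_comm, S.sq_self ha, one_mul]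
  let κ : G → G → ZMod 2 := fun g h => χ (g⁻¹ * h * g * h⁻¹)
  have hκz : ∀ g ∈ QG D a, ∀ h ∈ QG D a, Zc a (g⁻¹ * h * g * h⁻¹) := by
    intro g hg h hh
    have := S.zc_comm ha (inv_mem hg) hh
    rwa [inv_inv] at this
  have κ_zero : ∀ g h, κ g h = 0 ↔ Commute g h := by
    intro g h
    rw [χ_zero, mul_inv_eq_one, mul_assoc, inv_mul_eq_iff_eq_mul]
    exact ⟨fun k => k.symm, fun k => k.symm⟩
  have κ_mul : ∀ g ∈ QG D a, ∀ g' ∈ QG D a, ∀ h ∈ QG D a, κ (g * g') h = κ g h + κ g' h := by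
    intro g hg g' hg' h hh
    have hk := hκz g hg h hh
    simp only [κ]
    rw [← χ_mul _ _ hk (hκz g' hg' h hh)]
    congr 1
    rw [show (g * g')⁻¹ * h * (g * g') * h⁻¹ = g'⁻¹ * (g⁻¹ * h * g * h⁻¹) * (h * g' * h⁻¹) by group,
      ← (S.zc_commute ha hk (inv_mem hg')).eq]
    group
  have hqmul : ∀ g ∈ QG D a, ∀ h ∈ QG D a, q (M.π g + M.π h) = q (M.π g) + q (M.π h) + κ g h := by
    intro g hg h hh
    rw [← M.mul g hg h hh, hq _ (mul_mem hg hh), hq g hg, hq h hh]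
    have hk := hκz g hg h hh
    simp only [κ]
    rw [← χ_mul _ _ (zsq hg) (zsq hh), ← χ_mul _ _ (Zc.mul S ha (zsq hg) (zsq hh)) hk]
    congr 1
    rw [mul_assoc (g * g) (h * h), ← (S.zc_commute ha hk (mul_mem hh hh)).eq]
    group
  let β₀ : V → V → ZMod 2 := fun u v => q (u + v) + q u + q v
  have two : ∀ t : ZMod 2, t + t = 0 := by decide
  have hβ : ∀ g ∈ QG D a, ∀ h ∈ QG D a, β₀ (M.π g) (M.π h) = κ g h := by
    intro g hg h hh
    simp only [β₀, hqmul g hg h hh]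
    linear_combination two (q (M.π g)) + two (q (M.π h))
  have β_add : ∀ u u' v, β₀ (u + u') v = β₀ u v + β₀ u' v := by
    intro u u' v
    rw [← hliftπ u, ← hliftπ u', ← hliftπ v, ← M.mul _ (hlift u) _ (hlift u'),
      hβ _ (mul_mem (hlift u) (hlift u')) _ (hlift v), hβ _ (hlift u) _ (hlift v),
      hβ _ (hlift u') _ (hlift v)]
    exact κ_mul _ (hlift u) _ (hlift u') _ (hlift v)
  have β_symm : ∀ u v, β₀ u v = β₀ v u := fun u v => by simp only [β₀, add_comm u v]; ring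
  have β_zero : ∀ v, β₀ 0 v = 0 := fun v => by
    have := β_add 0 0 v
    rw [add_zero, two] at this
    exact this
  have hβ0 : ∀ g ∈ QG D a, ∀ h ∈ QG D a, β₀ (M.π g) (M.π h) = 0 ↔ Commute g h := fun g hg h hh => by
    rw [hβ g hg h hh, κ_zero]
  let β : LinearMap.BilinForm (ZMod 2) V := LinearMap.mk₂ (ZMod 2) β₀ β_add
    (fun t u v => by
      rcases (show ∀ t : ZMod 2, t = 0 ∨ t = 1 by decide) t with rfl | rfl
      · rw [zero_smul, zero_smul, β_zero]
      · rw [one_smul, one_smul])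
    (fun u v v' => by rw [β_symm, β_add, β_symm v, β_symm v'])
    (fun t u v => by
      rcases (show ∀ t : ZMod 2, t = 0 ∨ t = 1 by decide) t with rfl | rfl
      · rw [zero_smul, zero_smul, β_symm, β_zero]
      · rw [one_smul, one_smul])
  -- the lines
  have key : ∀ L : LineIdx D a c, ∃ e f : V, e ≠ 0 ∧ f ≠ 0 ∧ e + f ≠ 0 ∧
      ∀ v, (v = e ∨ v = f ∨ v = e + f) ↔ ∃ g, PlusAt D a c L.1 g ∧ M.π g = v := by
    rintro ⟨z, haz, hzc⟩
    obtain ⟨y₁, y₂, y₃, h12, h13, h23, hall⟩ := S.five_split h5 haz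
    obtain ⟨a₁, b₁, c₁⟩ := (hall y₁).2 (Or.inl rfl)
    obtain ⟨a₂, b₂, c₂⟩ := (hall y₂).2 (Or.inr (Or.inl rfl))
    obtain ⟨a₃, b₃, c₃⟩ := (hall y₃).2 (Or.inr (Or.inr rfl))
    have p₁ : PlusAt D a c z (a * (z * y₁)) := ⟨haz, hzc, y₁, a₁, b₁, c₁, rfl⟩
    have p₂ : PlusAt D a c z (a * (z * y₂)) := ⟨haz, hzc, y₂, a₂, b₂, c₂, rfl⟩
    have p₃ : PlusAt D a c z (a * (z * y₃)) := ⟨haz, hzc, y₃, a₃, b₃, c₃, rfl⟩
    have hsum : M.π (a * (z * y₁)) + M.π (a * (z * y₂)) = M.π (a * (z * y₃)) := by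
      rw [← M.mul _ p₁.mem _ p₂.mem, S.plus_pair_mul haz a₁ a₂ a₃ b₁ b₂ b₃ c₁ c₂ c₃ h12 h13 h23]
    have nz : ∀ {g}, PlusAt D a c z g → M.π g ≠ 0 := fun hg k =>
      S.plus_not_zc ha hc hg.plus ((M.π_zero_iff hg.mem).1 k)
    refine ⟨M.π (a * (z * y₁)), M.π (a * (z * y₂)), nz p₁, nz p₂, hsum ▸ nz p₃, fun v => ?_⟩
    rw [hsum]
    constructor
    · rintro (rfl | rfl | rfl)
      exacts [⟨_, p₁, rfl⟩, ⟨_, p₂, rfl⟩, ⟨_, p₃, rfl⟩]
    · rintro ⟨g, ⟨-, -, y, hy, hya, hyz, rfl⟩, rfl⟩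
      rcases (hall y).1 ⟨hy, hya, hyz⟩ with rfl | rfl | rfl
      exacts [Or.inl rfl, Or.inr (Or.inl rfl), Or.inr (Or.inr rfl)]
  choose e f he hf hef hline using key
  have plus_q : ∀ {g}, Plus D a c g → q (M.π g) = 0 := fun hg => by
    rw [hq _ hg.mem, S.plus_sq hg]
    exact if_pos rfl
  have sing : ∀ L v, (v = e L ∨ v = f L ∨ v = e L + f L) → q v = 0 := fun L v hv => by
    obtain ⟨g, hg, rfl⟩ := (hline L v).1 hv
    exact plus_q hg.plus
  have orth_of_comm : ∀ {z m g h}, PlusAt D a c z g → PlusAt D a c m h → Commute z m →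
      Commute h g := by
    intro z m g h hg hh hzm
    obtain ⟨haz, hzc, y, hy, hya, hyz, rfl⟩ := hg
    refine (S.move_iff ha haz hy hya hyz hh.mem).2 (Or.inl (cj_eq_self.2 ?_))
    exact (S.wd_fix_iff hh.adj hh.wd (S.plus_not_zc ha hc hh.plus) haz).2 hzm.symm
  have row : ∀ L M' : LineIdx D a c, ¬ Commute L.1 M'.1 → ∀ v, (v = e L ∨ v = f L ∨ v = e L + f L) →
      ¬ (β v (e M') = 0 ∧ β v (f M') = 0) := by
    intro L M' hzm v hv ⟨z1, z2⟩
    obtain ⟨g, hg, rfl⟩ := (hline L v).1 hv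
    obtain ⟨haz, hzc, y, hy, hya, hyz, rfl⟩ := id hg
    obtain ⟨y₁, y₂, y₃, h12, h13, h23, hall⟩ := S.five_split h5 haz
    obtain ⟨w, hw, hwy⟩ : ∃ w, (w = y₁ ∨ w = y₂ ∨ w = y₃) ∧ w ≠ y := by
      by_cases k : y₁ = y
      · exact ⟨y₂, Or.inr (Or.inl rfl), fun j => h12 (k.trans j.symm)⟩
      · exact ⟨y₁, Or.inl rfl, k⟩
    obtain ⟨hwL, hwa, hwz⟩ := (hall w).2 hw
    obtain ⟨h, hh, hhw⟩ := S.exists_plus_move ha hc haz M'.2.1 M'.2.2 hzm hwL hwa hwz
    have h0 : β₀ (M.π (a * (L.1 * y))) (M.π h) = 0 := by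
      rcases (hline M' (M.π h)).2 ⟨h, hh, rfl⟩ with k | k | k <;> rw [k]
      · exact z1
      · exact z2
      · show β _ (e M' + f M') = 0
        rw [map_add, z1, z2, add_zero]
    rcases (S.move_iff ha haz hy hya hyz hh.mem).1 ((hβ0 _ hg.mem _ hh.mem).1 h0).symm with k | k
    · exact hwz (hhw.symm.trans k)
    · exact hwy (hhw.symm.trans k)
  have nondeg : ∀ v, (∀ w, β₀ v w = 0) → v = 0 := by
    intro v hv
    obtain ⟨g, hg, rfl⟩ := M.surj v
    refine (M.π_zero_iff hg).2 (S.zc_of_trace ha hc hg fun x hx hax hcx => ?_)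
    have hA : Adj D a x := ⟨ha, hx, hax, fun k => hc.2 (k ▸ hcx.symm)⟩
    obtain ⟨y₁, y₂, y₃, h12, h13, h23, hall⟩ := S.five_split h5 hA
    have mv : ∀ y, (y = y₁ ∨ y = y₂ ∨ y = y₃) → cj g x = x ∨ cj g x = y := fun y hy => by
      obtain ⟨hyL, hya, hyz⟩ := (hall y).2 hy
      exact (S.move_iff ha hA hyL hya hyz hg).1
        ((hβ0 g hg _ (PlusAt.mem (c := c) ⟨hA, hcx.symm, y, hyL, hya, hyz, rfl⟩)).1 (hv _))
    have hfix : cj g x = x := by
      rcases mv y₁ (Or.inl rfl) with k | k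
      · exact k
      · exact (mv y₂ (Or.inr (Or.inl rfl))).resolve_right fun j => h12 (k.symm.trans j)
    rw [← hfix, cj_commute_iff]
    exact hcx
  refine ⟨{
    q := q
    β := β
    polar := fun u v => by
      show q (u + v) = q u + q v + (q (u + v) + q u + q v)
      linear_combination -two (q u) - two (q v)
    nondeg := nondeg
    e := e
    f := f
    ne := fun L => ⟨he L, hf L, hef L⟩
    sing := fun L => ⟨sing L _ (Or.inl rfl), sing L _ (Or.inr (Or.inl rfl)),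
      sing L _ (Or.inr (Or.inr rfl))⟩
    cover := ?_
    span := ?_
    dich := ?_
    third := ?_ }, fun g hg => by show q (M.π g) = 0 ↔ _; rw [hq g hg, χ_zero], hβ0, hline⟩
  · intro v hv hqv
    obtain ⟨g, hg, rfl⟩ := M.surj v
    rw [hq g hg, χ_zero] at hqv
    rcases S.plus_or ha hc hg hqv (fun k => hv ((M.π_zero_iff hg).2 k)) with ⟨z, hz⟩ | ⟨z, hz⟩
    · exact ⟨⟨z, hz.adj, hz.comm⟩, (hline _ _).2 ⟨g, hz, rfl⟩⟩
    · exact ⟨⟨z, hz.adj, hz.comm⟩, (hline _ _).2 ⟨a * g, hz, M.π_mul_a hg⟩⟩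
  · set T := Submodule.span (ZMod 2) (Set.range e ∪ Set.range f)
    have hmem : ∀ L v, (v = e L ∨ v = f L ∨ v = e L + f L) → v ∈ T := by
      rintro L v (rfl | rfl | rfl)
      · exact Submodule.subset_span (Or.inl ⟨L, rfl⟩)
      · exact Submodule.subset_span (Or.inr ⟨L, rfl⟩)
      · exact T.add_mem (Submodule.subset_span (Or.inl ⟨L, rfl⟩)) (Submodule.subset_span (Or.inr ⟨L, rfl⟩))
    have gen : ∀ s ∈ trGen D a, M.π s ∈ T := by
      rintro s (rfl | ⟨x, hx, hs⟩)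
      · rw [M.π_a]; exact T.zero_mem
      by_cases hz : Zc a s
      · rw [(M.π_zero_iff (shift_mem_QG hx hs)).2 hz]; exact T.zero_mem
      obtain ⟨z, hzL, hzc, hza, haz, hL⟩ := S.exists_Ln_commute hx hc
      have hs' : Wd D a z s := by
        obtain ⟨p, p', hp, hpa, hp', hp'a, rfl⟩ := hs
        exact ⟨_, ⟨p, p', hL.symm ▸ hp, hpa, hL.symm ▸ hp', hp'a, rfl⟩, Or.inl rfl⟩
      rcases S.wd_form ha haz hzc hs' hz with k | k
      · exact hmem ⟨z, haz, hzc⟩ _ ((hline _ _).2 ⟨s, k, rfl⟩)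
      · exact hmem ⟨z, haz, hzc⟩ _ ((hline _ _).2 ⟨a * s, k, M.π_mul_a (shift_mem_QG hx hs)⟩)
    refine eq_top_iff.2 fun v _ => ?_
    obtain ⟨g, hg, rfl⟩ := M.surj v
    refine S.qg_induction ha (P := fun g => M.π g ∈ T) ?_ (fun g hg s hs k => ?_) hg
    · rw [M.π_one]; exact T.zero_mem
    · rw [M.mul g hg s (Subgroup.subset_closure hs)]; exact T.add_mem k (gen s hs)
  · intro L M'
    by_cases hzm : Commute L.1 M'.1
    · left
      have : ∀ u v, (u = e L ∨ u = f L ∨ u = e L + f L) → (v = e M' ∨ v = f M' ∨ v = e M' + f M') →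
          β u v = 0 := by
        intro u v hu hv
        obtain ⟨g, hg, rfl⟩ := (hline L u).1 hu
        obtain ⟨h, hh, rfl⟩ := (hline M' v).1 hv
        exact (hβ0 g hg.mem h hh.mem).2 (orth_of_comm hg hh hzm).symm
      exact ⟨this _ _ (Or.inl rfl) (Or.inl rfl), this _ _ (Or.inl rfl) (Or.inr (Or.inl rfl)),
        this _ _ (Or.inr (Or.inl rfl)) (Or.inl rfl),
        this _ _ (Or.inr (Or.inl rfl)) (Or.inr (Or.inl rfl))⟩
    · right
      have h1 := row L M' hzm _ (Or.inl rfl)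
      have h2 := row L M' hzm _ (Or.inr (Or.inl rfl))
      have h3 := row L M' hzm _ (Or.inr (Or.inr rfl))
      simp only [map_add, LinearMap.add_apply] at h3
      revert h1 h2 h3
      generalize β (e L) (e M') = p
      generalize β (e L) (f M') = q'
      generalize β (f L) (e M') = r
      generalize β (f L) (f M') = s
      revert p q' r s
      decide
  · intro L M' hdet
    have hzm : ¬ Commute L.1 M'.1 := by
      intro k
      have : ∀ u v, (u = e L ∨ u = f L ∨ u = e L + f L) → (v = e M' ∨ v = f M' ∨ v = e M' + f M') →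
          β u v = 0 := by
        intro u v hu hv
        obtain ⟨g, hg, rfl⟩ := (hline L u).1 hu
        obtain ⟨h, hh, rfl⟩ := (hline M' v).1 hv
        exact (hβ0 g hg.mem h hh.mem).2 (orth_of_comm hg hh k).symm
      rw [this _ _ (Or.inl rfl) (Or.inl rfl), this _ _ (Or.inl rfl) (Or.inr (Or.inl rfl))] at hdet
      simp at hdet
    refine ⟨⟨cj L.1 M'.1, ?_, ?_⟩, fun u hu => ?_⟩
    · have : cj L.1 a = a := cj_eq_self.2 L.2.1.comm.symm
      have h := S.adj_cj L.1 M'.2.1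
      rw [this] at h
      exact h
    · have h2 : cj L.1 c = c := cj_eq_self.2 L.2.2
      have h := (cj_commute_iff L.1 M'.1 c).2 M'.2.2
      rw [h2] at h
      exact h
    have main : ∀ x, (x = e L ∨ x = f L ∨ x = e L + f L) → ∀ y, y = β x (f M') • e M' + β x (e M') • f M' →
        ∃ g, PlusAt D a c (cj L.1 M'.1) g ∧ M.π g = x + y := by
      intro x hx y hy
      have hxy : β x y = 0 := by
        rw [hy, map_add, map_smul, map_smul, smul_eq_mul, smul_eq_mul, mul_comm]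
        exact two _
      have hy' : y = e M' ∨ y = f M' ∨ y = e M' + f M' := by
        have := row L M' hzm x hx
        rw [hy]
        revert this
        generalize β x (e M') = p
        generalize β x (f M') = q'
        rcases (show ∀ t : ZMod 2, t = 0 ∨ t = 1 by decide) p with rfl | rfl <;>
          rcases (show ∀ t : ZMod 2, t = 0 ∨ t = 1 by decide) q' with rfl | rfl <;> simp
      obtain ⟨g, hg, rfl⟩ := (hline L x).1 hx
      obtain ⟨h, hh, rfl⟩ := (hline M' y).1 hy'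
      refine ⟨_, S.plus_cj ha hc hg hh hzm ((hβ0 g hg.mem h hh.mem).1 hxy).symm, ?_⟩
      rw [M.π_mul_a (mul_mem hg.mem hh.mem), M.mul g hg.mem h hh.mem]
    rcases hu with rfl | rfl <;> rw [add_assoc] <;> refine (hline _ _).2 (main _ ?_ _ rfl)
    exacts [Or.inl rfl, Or.inr (Or.inl rfl)]

end Geom

end CfsgLib.ThreeTrans.PolarTwins
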