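import Cfsg.Agent.Lib.ThreeTrans.PolarTwins.Coord
import Cfsg.Agent.Lib.ThreeTrans.PolarTwins.UFrame
import Cfsg.Agent.Lib.ThreeTrans.PolarTwins.Linear
import Cfsg.Agent.Lib.UnitaryEmbed.HermSpace

/-!
# Coordinates when lines have five members

The orientation makes the quotient of the group of translations a hermitian space over four elements;
the preferred lifts then fix a central coordinate with the product of a Heisenberg group.
-/

set_option autoImplicit false
set_option linter.unusedSectionVars false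

namespace CfsgLib.ThreeTrans.PolarTwins

open CfsgLib.ThreeTrans

universe u

variable {G : Type u} [Group G] [Finite G] {D : Set G} {a c : G}

namespace Geom

variable (S : Geom D)
include S

/-- Coordinates when lines have five members. -/
theorem exists_coord_unit (h5 : ∀ x y, Adj D x y → (Ln D x y).ncard = 5) (ha : a ∈ D) (hc : Far D a c)
    {K : Type} [Field K] [Fintype K] (Φ : F4 K) :
    ∃ n, Nonempty (Coord (ι := Fin n) D a c Φ.σ (Cfsg.hermForm n K 2)) := by
  classical
  obtain ⟨V, _, _, _, M, R, hq, hβ, hline⟩ := S.exists_frame h5 ha hc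
  obtain ⟨ω, hω, hiso, hqω, hplane⟩ := R.exists_omega
  letI : Module K V := Module.compHom V (Φ.actHom ω hω)
  have two : ∀ t : ZMod 2, t + t = 0 := by decide
  have bit : ∀ t : ZMod 2, t = 0 ∨ t = 1 := by decide
  have hact : ∀ s t v, Φ.pt s t • v = s • v + t • ω v := fun s t v => Φ.actHom_pt ω hω s t v
  have hsq : ∀ v, ω (ω v) = ω v + v := by
    intro v
    calc ω (ω v) = (ω (ω v) + ω v + v) + (ω v + v) := by
          rw [show ω (ω v) + ω v + v + (ω v + v) = ω (ω v) + (ω v + ω v) + (v + v) by abel,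
            M.add_self, M.add_self, add_zero, add_zero]
      _ = ω v + v := by rw [hω v, zero_add]
  have hswap : ∀ u v, R.β u (ω v) = R.β u v + R.β (ω u) v := by
    intro u v
    rw [← hiso u (ω v), hsq, map_add, hiso]
  have hself : ∀ v, R.β (ω v) v = R.q v := by
    intro v
    have := R.polar (ω v) v
    rw [← hsq, hqω, hqω] at this
    linear_combination -this - two (R.q v)
  -- the hermitian form
  let h : V → V → K := fun u v => Φ.pt (R.β (ω u) v + R.β u v) (R.β u v)
  have hσ : ∀ u v, Φ.σ (h u v) = h v u := by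
    intro u v
    simp only [h, Φ.σ_pt]
    rw [R.β_symm v u, R.β_symm (ω v) u, hswap u v]
    congr 1
    ring
  have hadd : ∀ u u' v, h (u + u') v = h u v + h u' v := by
    intro u u' v
    simp only [h, map_add, LinearMap.add_apply, ← Φ.pt_add]
    congr 1
    ring
  have hsmul : ∀ (x : K) u v, h (x • u) v = x * h u v := by
    intro x u v
    obtain ⟨s, t, rfl⟩ := Φ.exists_pt x
    rw [hact]
    simp only [h, Φ.pt_mul, map_add, map_smul, LinearMap.add_apply, LinearMap.smul_apply, smul_eq_mul,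
      hsq]
    congr 1
    · linear_combination two (t * R.β (ω u) v)
    · linear_combination -two (t * R.β u v)
  let B : V →ₛₗ[Φ.σ] V →ₗ[K] K := LinearMap.mk₂'ₛₗ Φ.σ (RingHom.id K) (fun x y => h y x)
    (fun x x' y => by rw [← hσ (x + x'), hadd, map_add, hσ, hσ])
    (fun r x y => by rw [← hσ (r • x), hsmul, map_mul, hσ]; rfl)
    (fun x y y' => hadd y y' x) (fun r x y => hsmul r y x)
  have hsep : B.SeparatingLeft := by
    intro x hx
    refine R.nondeg x fun w => ?_
    have : h w x = 0 := hx w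
    rw [← Φ.pt_zero] at this
    rw [R.β_symm]
    exact (Φ.pt_inj this).2
  haveI : FiniteDimensional K V := Module.Finite.of_finite
  obtain ⟨n, hn⟩ : ∃ n, Module.finrank K V = n := ⟨_, rfl⟩
  obtain ⟨e, he⟩ := CfsgLib.UnitaryEmbed.exists_std_equiv (q := 2) (by rw [Φ.card]; rfl) Φ.σ
    Φ.σ_apply Φ.σ_ne Φ.σ_invol B (fun u v => hσ v u) hsep hn
  have heh : ∀ u v, h (e u) (e v) = Cfsg.hermForm n K 2 u v := fun u v => he u v
  have hH : ∀ u v, Cfsg.hermForm n K 2 (e.symm u) (e.symm v) = h u v := fun u v => by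
    rw [← heh, e.apply_symm_apply, e.apply_symm_apply]
  -- preferred lifts
  have uniq : ∀ {g g'}, Plus D a c g → Plus D a c g' → M.π g = M.π g' → g = g' := by
    intro g g' hg hg' k
    refine ((M.eq_iff g hg.mem g' hg'.mem).1 k).resolve_right fun j => ?_
    exact S.not_plus_mul_a ha hc hg' (j ▸ S.plus_commute ha hc hg)
  have exs : ∀ v, ∃ g ∈ QG D a, M.π g = v ∧ (v = 0 → g = 1) ∧ (v ≠ 0 → R.q v = 0 → Plus D a c g) := by
    intro v
    by_cases hv : v = 0
    · exact ⟨1, one_mem _, by rw [hv, M.π_one], fun _ => rfl, fun k => absurd hv k⟩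
    obtain ⟨g, hg, rfl⟩ := M.surj v
    by_cases hqv : R.q (M.π g) = 0
    · obtain hp | hp := S.plus_or ha hc hg ((hq g hg).1 hqv) fun k => hv ((M.π_zero_iff hg).2 k)
      · exact ⟨g, hg, rfl, fun k => absurd k hv, fun _ _ => hp⟩
      · exact ⟨a * g, mul_mem (self_mem_QG a) hg, M.π_mul_a hg, fun k => absurd k hv, fun _ _ => hp⟩
    · exact ⟨g, hg, rfl, fun k => absurd k hv, fun _ k => absurd k hqv⟩
  choose s hs hsπ hs0 hsplus using exs
  let bt : G → ZMod 2 := fun g => if g = s (M.π g) then 0 else 1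
  have amem := self_mem_QG (D := D) a
  have bt_s : ∀ v, bt (s v) = 0 := fun v => by simp only [bt, hsπ, if_true]
  have bt_a : ∀ g ∈ QG D a, bt (a * g) = bt g + 1 := by
    intro g hg
    simp only [bt, M.π_mul_a hg]
    rcases (M.eq_iff g hg _ (hs (M.π g))).1 (hsπ (M.π g)).symm with k | k
    · have : a * g ≠ s (M.π g) := fun j => S.ne_one ha (mul_eq_right.1 (j.trans k.symm))
      rw [if_neg this, if_pos k, zero_add]
    · have : g ≠ s (M.π g) := fun j => S.ne_one ha (mul_eq_right.1 (k.symm.trans j))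
      rw [if_pos (show a * g = s (M.π g) by conv_lhs => rw [k, ← mul_assoc, S.sq_self ha, one_mul]), if_neg this]
      rfl
  have norm : ∀ g ∈ QG D a, g = s (M.π g) ∨ g = a * s (M.π g) := fun g hg =>
    (M.eq_iff g hg _ (hs _)).1 (hsπ _).symm
  let cc : V → V → ZMod 2 := fun u v => bt (s u * s v)
  have bt_mul : ∀ g ∈ QG D a, ∀ g' ∈ QG D a, bt (g * g') = bt g + bt g' + cc (M.π g) (M.π g') := by
    intro g hg g' hg'
    have hss := mul_mem (hs (M.π g)) (hs (M.π g'))
    have hca : Commute a (s (M.π g)) := S.commute_a ha (hs _)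
    rcases norm g hg with k | k <;> rcases norm g' hg' with k' | k' <;>
      conv_lhs => rw [k, k']
    · rw [show bt g = 0 by rw [k, bt_s], show bt g' = 0 by rw [k', bt_s], zero_add, zero_add]
    · rw [show bt g = 0 by rw [k, bt_s], show bt g' = 1 by rw [k', bt_a _ (hs _), bt_s, zero_add],
        ← mul_assoc, ← hca.eq, mul_assoc, bt_a _ hss]
      simp only [cc]
      ring
    · rw [show bt g = 1 by rw [k, bt_a _ (hs _), bt_s, zero_add], show bt g' = 0 by rw [k', bt_s],
        mul_assoc, bt_a _ hss]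
      simp only [cc]
      ring
    · rw [show bt g = 1 by rw [k, bt_a _ (hs _), bt_s, zero_add],
        show bt g' = 1 by rw [k', bt_a _ (hs _), bt_s, zero_add],
        hca.symm.mul_mul_mul_comm, S.sq_self ha, one_mul]
      simp only [cc, show (1 : ZMod 2) + 1 = 0 from rfl, zero_add]
  have bt_one : bt 1 = 0 := by
    simp only [bt, M.π_one, hs0 0 rfl, if_true]
  -- the cocycle
  let ee : V → V → ZMod 2 := fun u v => cc u v + R.β (ω v) u + R.β u v
  have ee_diag : ∀ v, ee v v = 0 := by
    intro v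
    have hc' : cc v v = R.q v := by
      have hπ : M.π (s v * s v) = 0 := by rw [M.mul _ (hs v) _ (hs v), M.add_self]
      have hbt : bt (s v * s v) = 0 ↔ s v * s v = 1 := by
        simp only [bt, hπ, hs0 0 rfl]
        split_ifs with k <;> simp [k]
      have := hq (s v) (hs v)
      rw [hsπ] at this
      exact (show ∀ x y : ZMod 2, (x = 0 ↔ y = 0) → x = y by decide) _ _ (hbt.trans this.symm)
    simp only [ee, hc', hself, R.β_self, add_zero]
    exact two _
  have cc_symm : ∀ u v, cc u v + cc v u = R.β u v := by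
    intro u v
    have hm := mul_mem (hs u) (hs v)
    have hm' := mul_mem (hs v) (hs u)
    have := hβ (s u) (hs u) (s v) (hs v)
    rw [hsπ, hsπ] at this
    by_cases k : R.β u v = 0
    · rw [k]
      simp only [cc, (this.1 k).eq]
      exact two _
    · rw [(bit _).resolve_left k]
      have hne : s v * s u ≠ s u * s v := fun j => k (this.2 j.symm)
      have hπ : M.π (s v * s u) = M.π (s u * s v) := by
        rw [M.mul _ (hs v) _ (hs u), M.mul _ (hs u) _ (hs v), add_comm]
      have := ((M.eq_iff _ hm' _ hm).1 hπ).resolve_left hne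
      simp only [cc, this, bt_a _ hm]
      linear_combination two (bt (s u * s v))
  have ee_symm : ∀ u v, ee u v = ee v u := by
    intro u v
    have h1 := cc_symm u v
    have h2 := hswap u v
    rw [R.β_symm u (ω v)] at h2
    simp only [ee]
    rw [R.β_symm v u]
    linear_combination (norm := (ring_nf; try simp [show (2 : ZMod 2) = 0 from rfl])) h1 + h2
  have ee_assoc : ∀ u v w, ee u v + ee (u + v) w = ee v w + ee u (v + w) := by
    intro u v w
    have h1 := bt_mul _ (mul_mem (hs u) (hs v)) _ (hs w)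
    have h2 := bt_mul _ (hs u) _ (mul_mem (hs v) (hs w))
    rw [M.mul _ (hs u) _ (hs v), hsπ, hsπ, hsπ, bt_s] at h1
    rw [M.mul _ (hs v) _ (hs w), hsπ, hsπ, hsπ, bt_s, ← mul_assoc, h1] at h2
    simp only [ee, map_add, LinearMap.add_apply]
    linear_combination h2
  obtain ⟨φ, hφ⟩ := exists_primitive ee ee_diag ee_symm ee_assoc
  -- lines
  have hW : ∀ {z g}, PlusAt D a c z g → ∀ v, (v = M.π g ∨ v = ω (M.π g) ∨ v = M.π g + ω (M.π g)) ↔
      ∃ g', PlusAt D a c z g' ∧ M.π g' = v := by
    intro z g hg v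
    rw [← hline ⟨z, hg.adj, hg.comm⟩ v]
    have h1 := (hline ⟨z, hg.adj, hg.comm⟩ _).2 ⟨g, hg, rfl⟩
    have h2 := hplane ⟨z, hg.adj, hg.comm⟩ _ h1
    have hne : M.π g ≠ 0 := fun k => S.plus_not_zc ha hc hg.plus ((M.π_zero_iff hg.mem).1 k)
    have hd : ω (M.π g) ≠ M.π g := fun k => hne (by
      have := hsq (M.π g)
      rw [k, k, M.add_self] at this
      exact this)
    have hs3 : ∀ x y z' : V, x + y = z' → x + z' = y := fun x y z' j => by
      rw [← j, ← add_assoc, M.add_self, zero_add]
    generalize M.π g = x at h1 h2 hd ⊢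
    generalize ω x = y at h2 hd ⊢
    generalize R.e ⟨z, hg.adj, hg.comm⟩ = p at h1 h2 ⊢
    generalize R.f ⟨z, hg.adj, hg.comm⟩ = r at h1 h2 ⊢
    have e1 : r + (p + r) = p := by rw [add_comm p r, ← add_assoc, M.add_self, zero_add]
    have e2 : p + r + r = p := by rw [add_assoc, M.add_self, add_zero]
    have e3 : p + r + p = r := by rw [add_comm p r, add_assoc, M.add_self, add_zero]
    have e4 : p + (p + r) = r := hs3 p r _ rfl
    have e5 : r + p = p + r := add_comm r p
    rcases h1 with rfl | rfl | rfl <;> rcases h2 with rfl | rfl | rfl <;>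
      first
      | exact absurd rfl hd
      | ((try simp only [e1, e2, e3, e4, e5]) <;> tauto)
  have orth : ∀ {z m g g'}, PlusAt D a c z g → PlusAt D a c m g' → Commute z m →
      R.β (M.π g) (M.π g') = 0 := by
    intro z m g g' hg hg' hzm
    refine (hβ g hg.mem g' hg'.mem).2 ?_
    obtain ⟨haz, hzc, y, hy, hya, hyz, rfl⟩ := hg
    refine ((S.move_iff ha haz hy hya hyz hg'.mem).2 (Or.inl (cj_eq_self.2 ?_))).symm
    exact (S.wd_fix_iff hg'.adj hg'.wd (S.plus_not_zc ha hc hg'.plus) haz).2 hzm.symm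
  -- moving a line
  have move : ∀ {z y}, Adj D a z → Commute z c → y ∈ Ln D a z → y ≠ a → y ≠ z → ∀ g ∈ QG D a,
      (cj g z = y ↔ R.β (M.π (a * (z * y))) (M.π g) = 0 ∧ R.β (ω (M.π (a * (z * y)))) (M.π g) = 1) := by
    intro z y haz hzc hy hya hyz g hg
    have hu : PlusAt D a c z (a * (z * y)) := ⟨haz, hzc, y, hy, hya, hyz, rfl⟩
    obtain ⟨g', hg', hg'π⟩ := (hW hu _).1 (Or.inr (Or.inl rfl))
    have hne : a * (z * y) ≠ g' := fun k => by
      have hsq' := hsq (M.π (a * (z * y)))
      rw [← hg'π, ← k] at hsq'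
      have : M.π (a * (z * y)) = 0 := by
        rw [k, hg'π] at hsq' ⊢
        rw [← k] at hg'π
        rw [← hg'π, ← hg'π, M.add_self] at hsq'
        rw [← hg'π]
        exact hsq'
      exact S.plus_not_zc ha hc hu.plus ((M.π_zero_iff hu.mem).1 this)
    have e1 : R.β (M.π (a * (z * y))) (M.π g) = 0 ↔ (cj g z = z ∨ cj g z = y) := by
      rw [hβ _ hu.mem g hg, ← S.move_iff ha haz hy hya hyz hg]
      exact ⟨Commute.symm, Commute.symm⟩
    rw [e1, ← hg'π]
    obtain ⟨-, -, y', hy', hy'a, hy'z, rfl⟩ := id hg'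
    have hyy : y ≠ y' := fun k => hne (by rw [k])
    have e2 : R.β (M.π (a * (z * y'))) (M.π g) = 0 ↔ (cj g z = z ∨ cj g z = y') := by
      rw [hβ _ hg'.mem g hg, ← S.move_iff ha haz hy' hy'a hy'z hg]
      exact ⟨Commute.symm, Commute.symm⟩
    constructor
    · intro k
      refine ⟨Or.inr k, (bit _).resolve_left fun j => ?_⟩
      rcases e2.1 j with i | i
      · exact hyz (k.symm.trans i)
      · exact hyy (k.symm.trans i)
    · rintro ⟨k | k, j⟩
      · rw [e2.2 (Or.inl k)] at j
        exact absurd j zero_ne_one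
      · exact k
  have ee_sing : ∀ u v, R.q u = 0 → R.q v = 0 → R.β u v = 0 → ee u v = 0 := by
    intro u v hu hv huv
    by_cases hu0 : u = 0
    · subst hu0
      simp [ee, cc, hs0 0 rfl, bt_s]
    by_cases hv0 : v = 0
    · subst hv0
      simp [ee, cc, hs0 0 rfl, bt_s]
    obtain ⟨z, hz⟩ := hsplus u hu0 hu
    obtain ⟨m, hm⟩ := hsplus v hv0 hv
    obtain ⟨g', hg', hg'π⟩ := (hW hm _).1 (Or.inr (Or.inl rfl))
    rw [hsπ] at hg'π
    simp only [ee, huv, add_zero]
    by_cases hzm : Commute z m
    · have hβ' : R.β (ω v) u = 0 := by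
        rw [← hg'π, ← hsπ u]
        exact orth hg' hz hzm.symm
      rw [hβ', add_zero]
      have hπ : M.π (s u * s v) = u + v := by rw [M.mul _ (hs u) _ (hs v), hsπ, hsπ]
      have key : s u * s v = s (u + v) := by
        rcases S.plus_mul ha hc hz hm hzm with k | k
        · rw [k, M.π_one] at hπ
          rw [k, hs0 _ hπ.symm]
        · have hne : u + v ≠ 0 := fun j => S.plus_not_zc ha hc k ((M.π_zero_iff k.mem).1 (hπ.trans j))
          exact uniq k (hsplus _ hne (by rw [R.polar, hu, hv, huv]; rfl)) (by rw [hπ, hsπ])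
      simp only [cc, key, bt_s]
    · have hcomm : Commute (s v) (s u) :=
        ((hβ _ (hs u) _ (hs v)).1 (by rw [hsπ, hsπ, huv])).symm
      have hp := S.plus_cj ha hc hz hm hzm hcomm
      have hπ : M.π (a * (s u * s v)) = u + v := by
        rw [M.π_mul_a (mul_mem (hs u) (hs v)), M.mul _ (hs u) _ (hs v), hsπ, hsπ]
      have hne : u + v ≠ 0 := fun j =>
        S.plus_not_zc ha hc hp.plus ((M.π_zero_iff hp.mem).1 (hπ.trans j))
      have key : a * (s u * s v) = s (u + v) :=
        uniq hp.plus (hsplus _ hne (by rw [R.polar, hu, hv, huv]; rfl)) (by rw [hπ, hsπ])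
      have hcc : cc u v = 1 := by
        have hb := bt_a _ (mul_mem (hs u) (hs v))
        rw [key, bt_s] at hb
        simp only [cc]
        revert hb
        generalize bt (s u * s v) = t
        revert t
        decide
      rw [hcc]
      have : R.β (ω v) u = 1 := by
        obtain ⟨ham, hmc, y, hy, hya, hym, hsv⟩ := id hm
        have hsu := hs u
        rcases (S.move_iff ha ham hy hya hym hsu).1 (hsv ▸ hcomm.symm) with k | k
        · refine absurd ?_ hzm
          exact (S.wd_fix_iff hz.adj hz.wd (S.plus_not_zc ha hc hz.plus) ham).1 (cj_eq_self.1 k)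
        · have := ((move ham hmc hy hya hym _ hsu).1 k).2
          rwa [← hsv, hsπ, hsπ] at this
      rw [this]
      rfl
  -- straighten the primitive
  obtain ⟨l, hl⟩ := exists_linear Φ n (fun x => φ (e x)) (by
    intro u v hu hv huv
    have qe : ∀ x, Cfsg.hermForm n K 2 x x = 0 → R.q (e x) = 0 := by
      intro x hx
      rw [← heh, ← Φ.pt_zero] at hx
      have := (Φ.pt_inj hx).1
      rwa [R.β_self, add_zero, hself] at this
    rw [← heh] at huv
    have hβuv : R.β (e u) (e v) = 0 := by
      have := (Φ.bits_pt (R.β (ω (e u)) (e v) + R.β (e u) (e v)) (R.β (e u) (e v))).2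
      exact this ▸ huv
    have := hφ (e u) (e v)
    rw [ee_sing _ _ (qe u hu) (qe v hv) hβuv] at this
    simp only [map_add]
    linear_combination -this - two (φ (e u)) - two (φ (e v)))
  let ψ : V → ZMod 2 := fun v => φ v + l (e.symm v)
  have hψ : ∀ u v, ee u v = ψ (u + v) + ψ u + ψ v := fun u v => by
    simp only [ψ, map_add]
    linear_combination (norm := (ring_nf; try simp [show (2 : ZMod 2) = 0 from rfl])) hφ u v
  have ψ0 : ∀ v, R.q v = 0 → ψ v = 0 := by
    intro v hv
    have := hl (e.symm v) (by rw [hH]; simp [h, R.β_self, hself, hv])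
    simp only [e.apply_symm_apply] at this
    simp only [ψ, this]
    exact two _
  let Λ : G → K := fun g => Φ.pt (ψ (M.π g) + bt g) (R.q (M.π g))
  refine ⟨n, ⟨{
    w := fun g => e.symm (M.π g)
    lam := Λ
    form :=
      { two := Φ.two_eq
        invol := Φ.σ_invol
        add := fun u v w => by rw [← heh, ← heh, ← heh, map_add, hadd]
        smul := fun x u v => by rw [← heh, ← heh, map_smul, hsmul]
        symm := fun u v => by rw [← heh, ← heh, hσ] }
    w_mul := fun g hg g' hg' => by rw [M.mul g hg g' hg', map_add]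
    lam_mul := ?_
    inj := ?_
    cone := ?_
    surj := ?_
    plus_iff := ?_
    span_line := ?_
    smul_line := ?_
    move := ?_ }⟩⟩
  · intro g hg g' hg'
    simp only [Λ, hH, h, ← Φ.pt_add, M.mul g hg g' hg', bt_mul g hg g' hg']
    have hp := hψ (M.π g) (M.π g')
    simp only [ee] at hp
    congr 1
    · rw [R.β_symm (M.π g') (M.π g)]
      linear_combination (norm := (ring_nf; try simp [show (2 : ZMod 2) = 0 from rfl])) hp
    · rw [R.polar, R.β_symm]
  · intro g hg g' hg' h1 h2
    have hπ : M.π g = M.π g' := e.symm.injective h1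
    have hb := (Φ.pt_inj h2).1
    rw [hπ] at hb
    have hb' := add_left_cancel hb
    refine ((M.eq_iff g hg g' hg').1 hπ).resolve_right fun k => ?_
    rw [k, bt_a g' hg'] at hb'
    simp at hb'
  · intro g hg
    simp only [Λ, hH, h, Φ.σ_pt, ← Φ.pt_add, hself, R.β_self]
    congr 1
    · linear_combination (norm := (ring_nf; try simp [show (2 : ZMod 2) = 0 from rfl])) two (ψ (M.π g) + bt g)
    · exact two _
  · intro v x hx
    obtain ⟨s₀, t₀, rfl⟩ := Φ.exists_pt x
    rw [Φ.σ_pt, ← Φ.pt_add, ← heh] at hx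
    obtain ⟨hx1, -⟩ := Φ.pt_inj hx
    rw [hself, R.β_self, add_zero, ← add_assoc, two, zero_add] at hx1
    have main : ∀ g ∈ QG D a, M.π g = e v → ψ (e v) + bt g = s₀ →
        ∃ g' ∈ QG D a, e.symm (M.π g') = v ∧ Λ g' = Φ.pt s₀ t₀ := fun g hg k k' =>
      ⟨g, hg, by rw [k, e.symm_apply_apply], by simp only [Λ, k, k', hx1]⟩
    rcases bit (ψ (e v) + s₀) with k | k
    · refine main _ (hs (e v)) (hsπ _) ?_
      rw [bt_s]
      linear_combination (norm := (ring_nf; try simp [show (2 : ZMod 2) = 0 from rfl])) k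
    · refine main _ (mul_mem amem (hs (e v))) ?_ ?_
      · rw [M.π_mul_a (hs _), hsπ]
      · rw [bt_a _ (hs _), bt_s]
        linear_combination (norm := (ring_nf; try simp [show (2 : ZMod 2) = 0 from rfl])) k
  · intro g hg
    constructor
    · intro hp
      have hq0 : R.q (M.π g) = 0 := (hq g hg).2 (S.plus_sq hp)
      have hne : M.π g ≠ 0 := fun k => S.plus_not_zc ha hc hp ((M.π_zero_iff hg).1 k)
      have : bt g = 0 := if_pos (uniq hp (hsplus _ hne hq0) (hsπ _).symm)
      refine ⟨((S.plus_iff ha hc hg).1 hp).1, ?_⟩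
      simp only [Λ, this, hq0, ψ0 _ hq0, add_zero, F4.pt_zero]
    · rintro ⟨hne, hl0⟩
      rw [show Λ g = Φ.pt (ψ (M.π g) + bt g) (R.q (M.π g)) from rfl, ← Φ.pt_zero] at hl0
      obtain ⟨k1, k2⟩ := Φ.pt_inj hl0
      rw [ψ0 _ k2, zero_add] at k1
      have heq : g = s (M.π g) := by
        by_contra k
        simp only [bt, if_neg k] at k1
        exact one_ne_zero k1
      have hne' : M.π g ≠ 0 := fun k => hne (heq.trans (hs0 _ k))
      exact heq ▸ hsplus _ hne' k2
  · intro z g g' hg hg'
    rcases (hW hg (M.π g')).2 ⟨g', hg', rfl⟩ with k | k | k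
    · exact ⟨1, one_ne_zero, by rw [k, one_smul]⟩
    · refine ⟨Φ.pt 0 1, fun j => one_ne_zero ((Φ.pt_eq_zero j).2), ?_⟩
      rw [← map_smul, hact, zero_smul, one_smul, zero_add, k]
    · refine ⟨Φ.pt 1 1, fun j => one_ne_zero ((Φ.pt_eq_zero j).2), ?_⟩
      rw [← map_smul, hact, one_smul, one_smul, k]
  · intro z g x hg hx
    obtain ⟨s₀, t₀, rfl⟩ := Φ.exists_pt x
    obtain ⟨g', hg', hπ⟩ := (hW hg (Φ.pt s₀ t₀ • M.π g)).1 (by
      rw [hact]
      rcases bit s₀ with rfl | rfl <;> rcases bit t₀ with rfl | rfl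
      · exact absurd Φ.pt_zero hx
      all_goals simp)
    exact ⟨g', hg', by rw [hπ, map_smul]⟩
  · intro z y haz hzc hy hya hyz g hg
    rw [move haz hzc hy hya hyz g hg, hH]
    simp only [h]
    rw [← Φ.pt_one]
    constructor
    · rintro ⟨k, j⟩
      rw [k, j, add_zero]
    · intro k
      obtain ⟨k1, k2⟩ := Φ.pt_inj k
      rw [k2, add_zero] at k1
      exact ⟨k2, k1⟩

end Geom

end CfsgLib.ThreeTrans.PolarTwins
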