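import Cfsg.Agent.Lib.ThreeTrans.PolarTwins.Symp
import Cfsg.Agent.Lib.ThreeTrans.PolarTwins.Unit
import Cfsg.Agent.Lib.ThreeTrans.PolarTwins.Models
import Cfsg.Agent.Lib.ThreeTrans.Classif.Kinds
import Cfsg.Agent.Lib.ThreeTrans.FischerHyp

/-!
# Primitive classes with a non-central two-core of a perp are symplectic or unitary
-/

set_option autoImplicit false
set_option linter.unusedSectionVars false

namespace CfsgLib.ThreeTrans.PolarTwins

open CfsgLib.ThreeTrans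
open CfsgLib.ThreeTrans.LocalSymThree (nbr)

universe u

variable {G : Type u} [Group G] {D : Set G}

/-- Four members commuting with `x` forming a path in the graph of non-commuting pairs. -/
def Chain (D : Set G) (x : G) : Prop :=
  ∃ p ∈ nbr D x, ∃ q ∈ nbr D x, ∃ r ∈ nbr D x, ∃ s ∈ nbr D x,
    ¬ Commute p q ∧ ¬ Commute q r ∧ ¬ Commute r s ∧ Commute p r ∧ Commute p s ∧ Commute q s

variable [Finite G]

theorem Chain.conj (hc : ConjClosed D) {x : G} (g : G) (h : Chain D x) : Chain D (cj g x) := by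
  obtain ⟨p, hp, q, hq, r, hr, s, hs, h1, h2, h3, h4, h5, h6⟩ := h
  have hm : ∀ {y}, y ∈ nbr D x → cj g y ∈ nbr D (cj g x) := fun {y} hy =>
    ⟨cj_mem hc g hy.1, fun k => hy.2.1 (cj_inj g k), (cj_commute_iff g x y).2 hy.2.2⟩
  exact ⟨_, hm hp, _, hm hq, _, hm hr, _, hm hs, fun k => h1 ((cj_commute_iff g p q).1 k),
    fun k => h2 ((cj_commute_iff g q r).1 k), fun k => h3 ((cj_commute_iff g r s).1 k),
    (cj_commute_iff g p r).2 h4, (cj_commute_iff g p s).2 h5, (cj_commute_iff g q s).2 h6⟩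

/-- The subgroup generated by the other members commuting with a member carries a class. -/
theorem classTwo_nbr (S : InnerTwins.Setting D) {x : G} (hx : x ∈ D)
    (htwo : ∃ a ∈ nbr D x, ∃ b ∈ nbr D x, a ≠ b) :
    ClassTwo {e : ↥(Subgroup.closure (nbr D x)) | (e : G) ∈ nbr D x} := by
  set E := nbr D x with hE
  set H := Subgroup.closure E with hH
  have hc := S.hD.closed
  have hEH : E ⊆ (H : Set G) := Subgroup.subset_closure
  have hHx : ∀ g ∈ H, Commute g x := fun g hg =>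
    CfsgLib.Sporadic.RankThree.commute_of_mem_closure_cD
      ((Subgroup.closure_mono fun e he => ⟨he.1, he.2.2⟩ : H ≤ Subgroup.closure (ClassTwo.cD D x)) hg)
  refine ⟨⟨⟨fun e he => ?_, fun d hd e he => ?_⟩, fun g e he => ?_⟩,
    Subgroup.closure_closure_coe_preimage, fun a ha b hb => ?_, ?_⟩
  · rw [← Subgroup.orderOf_coe]; exact hc.set.1 _ he.1
  · exact (hc.set.2 _ hd.1 _ he.1).imp (fun k => Subtype.ext k) (fun k => Subtype.ext k)
  · exact InnerTwins.conj_mem_nbr hc (hHx g g.2) he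
  · obtain ⟨g, hg, e⟩ := FischerHyp.perp_class S.hD S.prim S.pair hx _ ha _ hb
    exact ⟨⟨g, hg⟩, Subtype.ext e⟩
  · obtain ⟨a, ha, b, hb, hab⟩ := htwo
    exact ⟨⟨a, hEH ha⟩, ha, ⟨b, hEH hb⟩, hb, fun k => hab (congrArg Subtype.val k)⟩

theorem center_eq_top_of_subsingleton {x : G} (h : ∀ a ∈ nbr D x, ∀ b ∈ nbr D x, a = b) :
    Subgroup.center ↥(Subgroup.closure (nbr D x)) = ⊤ := by
  refine eq_top_iff.2 fun a _ => Subgroup.mem_center_iff.2 fun b => ?_
  exact (Subgroup.isMulCommutative_closure (k := nbr D x) fun u hu v hv => by rw [h u hu v hv]).is_comm.comm b a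

/-- A non-central two-core at one member gives every line a third member. -/
theorem geom_of_core (S : InnerTwins.Setting D) (hZ : Subgroup.center G = ⊥) {x : G} (hx : x ∈ D)
    (h : ¬ Cfsg.pCore 2 ↥(Subgroup.closure (nbr D x)) ≤
      Subgroup.center ↥(Subgroup.closure (nbr D x))) : Geom D := by
  have htwo : ∃ a ∈ nbr D x, ∃ b ∈ nbr D x, a ≠ b := by
    by_contra! hall
    exact h (by rw [center_eq_top_of_subsingleton hall]; exact le_top)
  have hC := classTwo_nbr S hx htwo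
  obtain ⟨y, hy, -⟩ := hC.two
  obtain ⟨v, ⟨-, hv, hvy⟩, hne⟩ := hC.exists_vRel_ne h hy
  have hline : (v : G) ∈ Ln D x (y : G) := by
    refine ⟨hv.1, fun e he hxe hye => ?_⟩
    by_cases hex : e = x
    · exact hex ▸ hv.2.2.symm
    have heE : e ∈ nbr D x := ⟨he, hex, hxe⟩
    have := (hvy ⟨e, Subgroup.subset_closure heE⟩ heE).2 (Subtype.ext hye)
    exact congrArg Subtype.val this
  refine ⟨S, hZ, fun p q hpq => ?_⟩
  obtain ⟨g, h1, h2⟩ := S.pairConj_perp hx hy hpq.left ⟨hpq.right, hpq.ne.symm, hpq.comm⟩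
  have h1' : cj g x = p := h1
  have h2' : cj g (y : G) = q := h2
  refine ⟨cj g (v : G), ?_, ?_, ?_⟩
  · have := cj_mem_Ln S.hD.closed g hline
    rwa [h1', h2'] at this
  · rw [← h1']
    exact fun k => hv.2.1 (cj_inj g k)
  · rw [← h2']
    exact fun k => hne (Subtype.ext (cj_inj g k))

theorem isThreeTranspositionGroup (S : InnerTwins.Setting D) : Cfsg.IsThreeTranspositionGroup D :=
  ⟨S.hD.closed.set, S.hD.closed.conj, S.hD.gen⟩

/-- The symplectic case. -/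
theorem symp_case (S : Geom D) (h3 : ∀ x y, Adj D x y → (Ln D x y).ncard = 3) :
    ∃ m, 2 ≤ m ∧ Classif.KindSp D m ∧ (3 ≤ m → ∀ x ∈ D, Chain D x) := by
  classical
  obtain ⟨a, ha, -, -, -, -⟩ := S.set.pair
  obtain ⟨c, hc⟩ := S.exists_far ha
  obtain ⟨k, ⟨C⟩⟩ := S.exists_coord_symp h3 ha hc
  obtain ⟨φ, hφ, hsurj, hinj, hcomm⟩ := C.exists_points S ha hc
  obtain ⟨e0, he0⟩ := S.exists_adj ha
  obtain ⟨z, hz, hzc, -, haz, -⟩ := S.exists_Ln_commute he0 hc
  obtain ⟨g, hg⟩ := S.exists_plusAt haz hzc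
  have hk : 1 ≤ k := by
    rcases Nat.eq_zero_or_pos k with rfl | hk
    · exact absurd (funext fun i => by rcases i with i | i <;> exact i.elim0) (C.plus_w hg).2.1
    · exact hk
  let toV : Pt (ZMod 2) (Fin k ⊕ Fin k) → (Fin (k + 1) ⊕ Fin (k + 1) → ZMod 2) := fun X =>
    Sum.elim (Fin.cons X.e fun i => X.v (Sum.inl i)) (Fin.cons X.f fun i => X.v (Sum.inr i))
  let ofV : (Fin (k + 1) ⊕ Fin (k + 1) → ZMod 2) → Pt (ZMod 2) (Fin k ⊕ Fin k) := fun v =>
    ⟨v (Sum.inl 0), v (Sum.inr 0), Sum.elim (fun i => v (Sum.inl i.succ)) fun i => v (Sum.inr i.succ)⟩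
  have hto : ∀ v, toV (ofV v) = v := fun v => by
    funext i
    rcases i with i | i <;> refine Fin.cases ?_ (fun j => ?_) i <;> simp [toV, ofV]
  have hform : ∀ X Y, Cfsg.sympForm (k + 1) (ZMod 2) (toV X) (toV Y) =
      Pt.form (RingHom.id (ZMod 2)) (Cfsg.sympForm k (ZMod 2)) X Y := by
    intro X Y
    simp only [Pt.form, CfsgLib.Sp.sympForm_eq_sum, Fin.sum_univ_succ, toV, Sum.elim_inl, Sum.elim_inr,
      Fin.cons_zero, Fin.cons_succ, RingHom.id_apply]
    have two : (2 : ZMod 2) = 0 := rfl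
    linear_combination (-(X.e * Y.f)) * two
  have hne : ∀ X, toV X ≠ 0 ↔ (X.e ≠ 0 ∨ X.f ≠ 0 ∨ X.v ≠ 0) := by
    intro X
    constructor
    · intro h
      by_contra! h'
      refine h (funext fun i => ?_)
      rcases i with i | i <;> refine Fin.cases ?_ (fun j => ?_) i <;> simp [toV, h'.1, h'.2.1, h'.2.2]
    · intro h h0
      have e1 : X.e = 0 := by simpa [toV] using congrFun h0 (Sum.inl 0)
      have e2 : X.f = 0 := by simpa [toV] using congrFun h0 (Sum.inr 0)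
      rcases h with h | h | h
      · exact h e1
      · exact h e2
      · refine h (funext fun i => ?_)
        rcases i with i | i
        · simpa [toV] using congrFun h0 (Sum.inl i.succ)
        · simpa [toV] using congrFun h0 (Sum.inr i.succ)
  have hscale : ∀ ξ X, toV (Pt.scale ξ X) = ξ • toV X := by
    intro ξ X
    funext i
    rcases i with i | i <;> refine Fin.cases ?_ (fun j => ?_) i <;> simp [toV, Pt.scale]
  have self : ∀ X, Pt.form (RingHom.id (ZMod 2)) (Cfsg.sympForm k (ZMod 2)) X X = 0 := fun X => by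
    rw [← hform, CfsgLib.Sp.sympForm_self]
  have preimage : ∀ v, v ≠ 0 → ∃ x ∈ D, toV (φ x) = v := by
    intro v hv
    obtain ⟨x, hx, ξ, hξ⟩ := hsurj (ofV v) (self _) ((hne _).1 (by rwa [hto]))
    refine ⟨x, hx, ?_⟩
    have hv' := congrArg toV hξ
    rw [hto, hscale] at hv'
    rcases (show ∀ t : ZMod 2, t = 0 ∨ t = 1 by decide) ξ with rfl | rfl
    · rw [zero_smul] at hv'; exact absurd hv' hv
    · rw [hv', one_smul]
  have hbij : Set.BijOn (fun x => toV (φ x)) D {v | v ≠ 0} := by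
    refine ⟨fun x hx => (hne _).2 (hφ x hx).2, fun x hx y hy h => hinj x hx y hy 1 ?_, preimage⟩
    have h' : toV (φ x) = toV (φ y) := h
    have := congrArg ofV h'
    have ho : ∀ X, ofV (toV X) = X := fun X => by
      obtain ⟨e, f, v⟩ := X
      simp only [ofV, toV, Sum.elim_inl, Sum.elim_inr, Fin.cons_zero, Fin.cons_succ, Pt.mk.injEq,
        true_and]
      funext i
      rcases i with i | i <;> rfl
    rw [ho, ho] at this
    simp [Pt.scale, this]
  have hcomm' : ∀ x ∈ D, ∀ y ∈ D, Commute x y ↔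
      Cfsg.sympForm (k + 1) (ZMod 2) (toV (φ x)) (toV (φ y)) = 0 := fun x hx y hy => by
    rw [hform]; exact hcomm x hx y hy
  refine ⟨k + 1, by omega, Models.sp_of_points (isThreeTranspositionGroup S.set) S.triv (by omega)
    (fun x => toV (φ x)) hbij hcomm', fun hm x hx => ?_⟩
  let P : Fin (k + 1) ⊕ Fin (k + 1) → (Fin (k + 1) ⊕ Fin (k + 1) → ZMod 2) := fun i => Pi.single i 1
  have i0 : Fin (k + 1) := 0
  let i₀ : Fin (k + 1) := ⟨0, by omega⟩
  let i₁ : Fin (k + 1) := ⟨1, by omega⟩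
  let i₂ : Fin (k + 1) := ⟨2, by omega⟩
  have h01 : i₀ ≠ i₁ := by simp [i₀, i₁, Fin.ext_iff]
  have h02 : i₀ ≠ i₂ := by simp [i₀, i₂, Fin.ext_iff]
  have h12 : i₁ ≠ i₂ := by simp [i₁, i₂, Fin.ext_iff]
  have hform' : ∀ u v, Cfsg.sympForm (k + 1) (ZMod 2) u v =
      ∑ i, (u (.inr i) * v (.inl i) - u (.inl i) * v (.inr i)) := CfsgLib.Sp.sympForm_eq_sum
  have hP : ∀ i v, Cfsg.sympForm (k + 1) (ZMod 2) (P i) v =
      Sum.elim (fun j => v (.inr j)) (fun j => v (.inl j)) i := by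
    intro i v
    rw [hform']
    rcases i with i | i <;>
      rw [Finset.sum_eq_single i (fun j _ hj => by simp [P, hj]) (by simp)] <;>
      simp [P, ZModModule.neg_eq_self]
  have hadd : ∀ u v w, Cfsg.sympForm (k + 1) (ZMod 2) (u + v) w =
      Cfsg.sympForm (k + 1) (ZMod 2) u w + Cfsg.sympForm (k + 1) (ZMod 2) v w := fun u v w => by
    simp [← CfsgLib.Sp.sympBilin_apply]
  obtain ⟨b, hb, hbv⟩ := preimage (P (.inl i₀)) (by simp [P])
  obtain ⟨p, hp, hpv⟩ := preimage (P (.inl i₁)) (by simp [P])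
  obtain ⟨q, hq, hqv⟩ := preimage (P (.inr i₁)) (by simp [P])
  obtain ⟨r, hr, hrv⟩ := preimage (P (.inl i₁) + P (.inl i₂)) (fun h => by
    have := congrFun h (.inl i₁)
    simp [P, h12] at this)
  obtain ⟨s, hs, hsv⟩ := preimage (P (.inr i₂)) (by simp [P])
  have key : ∀ {x y u v}, x ∈ D → y ∈ D → toV (φ x) = u → toV (φ y) = v →
      (Commute x y ↔ Cfsg.sympForm (k + 1) (ZMod 2) u v = 0) := fun hx hy h h' => by
    rw [← h, ← h']; exact hcomm' _ hx _ hy
  have nb : ∀ {y v}, y ∈ D → toV (φ y) = v → v ≠ P (.inl i₀) → v (.inr i₀) = 0 → y ∈ nbr D b :=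
    fun hy hv hne' h0 => ⟨hy, fun j => hne' (by rw [← hv, ← hbv, j]),
      (key hb hy hbv hv).2 (by rw [hP]; exact h0)⟩
  have hchain : Chain D b := by
    refine ⟨p, nb hp hpv (fun h => ?_) ?_, q, nb hq hqv (fun h => ?_) ?_, r, nb hr hrv (fun h => ?_) ?_,
      s, nb hs hsv (fun h => ?_) ?_, ?_, ?_, ?_, ?_, ?_, ?_⟩
    · have := congrFun h (.inl i₁); simp [P, h01.symm] at this
    · simp [P]
    · have := congrFun h (.inr i₁); simp [P] at this
    · simp [P, h01]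
    · have := congrFun h (.inl i₁); simp [P, h12, h01.symm] at this
    · simp [P]
    · have := congrFun h (.inr i₂); simp [P] at this
    · simp [P, h02]
    · rw [key hp hq hpv hqv, hP]; simp [P]
    · rw [key hq hr hqv hrv, hP]; simp [P, h12]
    · rw [key hr hs hrv hsv, hadd, hP, hP]; simp [P, h12]
    · rw [key hp hr hpv hrv, hP]; simp [P]
    · rw [key hp hs hpv hsv, hP]; simp [P, h12]
    · rw [key hq hs hqv hsv, hP]; simp [P]
  obtain ⟨g', rfl⟩ := S.set.hD.class_eq b hb x hx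
  exact hchain.conj S.closed g'

/-- The unitary case. -/
theorem unit_case (S : Geom D) (h5 : ∀ x y, Adj D x y → (Ln D x y).ncard = 5) (F : Type) [Field F]
    [Fintype F] (hF : Fintype.card F = 4) :
    ∃ n, 4 ≤ n ∧ Classif.KindPSU D n ∧ (6 ≤ n → ∀ x ∈ D, Chain D x) := by
  classical
  obtain ⟨Φ⟩ := F4.exists_f4 hF
  obtain ⟨a, ha, -, -, -, -⟩ := S.set.pair
  obtain ⟨c, hc⟩ := S.exists_far ha
  obtain ⟨n, ⟨C⟩⟩ := S.exists_coord_unit h5 ha hc Φ
  obtain ⟨φ, hφ, hsurj, hinj, hcomm⟩ := C.exists_points S ha hc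
  obtain ⟨e0, he0⟩ := S.exists_adj ha
  obtain ⟨z, hz, hzc, -, haz, -⟩ := S.exists_Ln_commute he0 hc
  obtain ⟨g, hg⟩ := S.exists_plusAt haz hzc
  have hn : 2 ≤ n := by
    have hw := (C.plus_w hg).2.1
    have hiso := C.plus_isotropic hg
    rcases n with _ | _ | n
    · exact absurd (funext fun i => i.elim0) hw
    · refine absurd (funext fun i => ?_) hw
      obtain rfl : i = ⟨0, by omega⟩ := Fin.ext (by have := i.isLt; omega)
      rw [Cfsg.hermForm, Finset.sum_eq_single (⟨0, by omega⟩ : Fin (0 + 1))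
        (fun j _ hj => absurd (Fin.ext (by have := j.isLt; omega)) hj) (by simp)] at hiso
      rcases mul_eq_zero.1 hiso with h | h
      · exact h
      · exact pow_eq_zero_iff two_ne_zero |>.1 h
    · omega
  set θ := Φ.θ with hθ
  have hroot : θ * θ = θ + 1 := Φ.root
  have h2 := Φ.two_eq
  let toV : Pt F (Fin n) → (Fin (n + 2) → F) := fun X =>
    Fin.cons (X.e + θ * X.f) (Fin.cons (X.e + (θ + 1) * X.f) X.v)
  let ofV : (Fin (n + 2) → F) → Pt F (Fin n) := fun v =>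
    ⟨v 0 + θ * (v 0 + v 1), v 0 + v 1, fun i => v i.succ.succ⟩
  have hto : ∀ v, toV (ofV v) = v := fun v => by
    funext i
    refine Fin.cases ?_ (fun j => ?_) i
    · simp only [toV, ofV, Fin.cons_zero]
      linear_combination θ * (v 0 + v 1) * h2
    · refine Fin.cases ?_ (fun l => ?_) j
      · show (v 0 + θ * (v 0 + v 1)) + (θ + 1) * (v 0 + v 1) = v 1
        linear_combination (θ * (v 0 + v 1) + v 0) * h2
      · rfl
  have hof : ∀ X, ofV (toV X) = X := fun X => by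
    obtain ⟨e, f, v⟩ := X
    have e1 : toV ⟨e, f, v⟩ 1 = e + (θ + 1) * f := rfl
    simp only [ofV, e1]
    simp only [toV, Fin.cons_zero, Fin.cons_succ, Pt.mk.injEq]
    exact ⟨by linear_combination (θ * e + θ ^ 2 * f + θ * f) * h2,
      by linear_combination (e + θ * f) * h2, trivial⟩
  have hscale : ∀ ξ X, toV (Pt.scale ξ X) = ξ • toV X := fun ξ X => by
    funext i
    refine Fin.cases ?_ (fun j => ?_) i
    · simp [toV, Pt.scale]; ring
    · refine Fin.cases ?_ (fun l => ?_) j <;> simp [toV, Pt.scale]; ring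
  have hform : ∀ X Y, Cfsg.hermForm (n + 2) F 2 (toV X) (toV Y) =
      Pt.form Φ.σ (Cfsg.hermForm n F 2) X Y := by
    intro X Y
    simp only [Pt.form, Cfsg.hermForm, Fin.sum_univ_succ, toV, Fin.cons_zero, Fin.cons_succ, F4.σ_apply]
    linear_combination (X.f * Y.f ^ 2 * (2 * θ + 5)) * hroot +
      (X.e * Y.e ^ 2 + X.e * Y.e * Y.f * (2 * θ + 1) + X.e * Y.f ^ 2 * (θ ^ 2 + θ)
        + X.f * Y.e ^ 2 * θ + X.f * Y.e * Y.f * (2 * θ ^ 2 + 2 * θ + 1)
        + X.f * Y.f ^ 2 * (5 * θ + 3)) * h2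
  have h0V : toV ⟨0, 0, 0⟩ = 0 := by
    have := hscale 0 ⟨0, 0, 0⟩
    simpa [Pt.scale] using this
  have hne : ∀ X, toV X ≠ 0 ↔ (X.e ≠ 0 ∨ X.f ≠ 0 ∨ X.v ≠ 0) := by
    intro X
    constructor
    · intro h
      by_contra! h'
      obtain ⟨e, f, v⟩ := X
      obtain ⟨rfl, rfl, rfl⟩ := h'
      exact h h0V
    · intro h h0
      have hX : X = ⟨0, 0, 0⟩ := by rw [← hof X, h0, ← h0V, hof]
      subst hX
      simp at h
  have preimage : ∀ v, v ≠ 0 → Cfsg.hermForm (n + 2) F 2 v v = 0 →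
      ∃ x ∈ D, ∃ ξ : F, v = ξ • toV (φ x) := by
    intro v hv hiso
    obtain ⟨x, hx, ξ, hξ⟩ := hsurj (ofV v) (by rw [← hform, hto]; exact hiso) ((hne _).1 (by rwa [hto]))
    refine ⟨x, hx, ξ, ?_⟩
    rw [← hscale, ← hξ, hto]
  have hcomm' : ∀ x ∈ D, ∀ y ∈ D, Commute x y ↔
      Cfsg.hermForm (n + 2) F 2 (toV (φ x)) (toV (φ y)) = 0 := fun x hx y hy => by
    rw [hform]; exact hcomm x hx y hy
  obtain ⟨e, he⟩ := Models.psu_of_points (isThreeTranspositionGroup S.set) S.triv F hF (n := n + 2)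
    (by omega) (fun x => toV (φ x))
    (fun x hx => ⟨(hne _).2 (hφ x hx).2, (hform _ _).trans (hφ x hx).1⟩) preimage
    (fun x hx y hy ξ h => hinj x hx y hy ξ (by
      have h' : toV (φ y) = toV (Pt.scale ξ (φ x)) := h.trans (hscale ξ (φ x)).symm
      rw [← hof (φ y), h', hof]))
    hcomm'
  refine ⟨n + 2, by omega, ⟨F, inferInstance, inferInstance, hF, e, he⟩, fun hm x hx => ?_⟩
  let mkW : (Fin n → F) → (Fin (n + 2) → F) := fun w => toV ⟨0, 0, w⟩
  let j₀ : Fin n := ⟨0, by omega⟩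
  let j₁ : Fin n := ⟨1, by omega⟩
  let j₂ : Fin n := ⟨2, by omega⟩
  let j₃ : Fin n := ⟨3, by omega⟩
  let P : Fin n → (Fin n → F) := fun i => Pi.single i 1
  have hP : ∀ i v, Cfsg.hermForm n F 2 (P i) v = v i ^ 2 := fun i v => by
    rw [Cfsg.hermForm, Finset.sum_eq_single i (fun j _ hj => by simp [P, hj]) (by simp)]
    simp [P]
  have hadd : ∀ u v w : Fin n → F, Cfsg.hermForm n F 2 (u + v) w =
      Cfsg.hermForm n F 2 u w + Cfsg.hermForm n F 2 v w := fun u v w => by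
    simp only [Cfsg.hermForm, Pi.add_apply, add_mul, Finset.sum_add_distrib]
  have hsmul : ∀ (t : F) (u w : Fin n → F), Cfsg.hermForm n F 2 (t • u) w =
      t * Cfsg.hermForm n F 2 u w := fun t u w => by
    simp only [Cfsg.hermForm, Finset.mul_sum, Pi.smul_apply, smul_eq_mul, mul_assoc]
  have hne' : ∀ {i j : Fin n}, i.1 ≠ j.1 → i ≠ j := fun h k => h (congrArg Fin.val k)
  have d01 : j₀ ≠ j₁ := hne' (by simp [j₀, j₁])
  have d02 : j₀ ≠ j₂ := hne' (by simp [j₀, j₂])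
  have d03 : j₀ ≠ j₃ := hne' (by simp [j₀, j₃])
  have d12 : j₁ ≠ j₂ := hne' (by simp [j₁, j₂])
  have d13 : j₁ ≠ j₃ := hne' (by simp [j₁, j₃])
  have d23 : j₂ ≠ j₃ := hne' (by simp [j₂, j₃])
  have hθ0 : θ ≠ 0 := Φ.theta_ne_zero
  have hθ1 : θ + 1 ≠ 0 := fun h => Φ.theta_ne_one (by linear_combination h - h2)
  set wp := P j₀ + P j₁ with hwp
  set wq := P j₁ + P j₂ with hwq
  set wr := P j₂ + P j₃ with hwr
  set ws := P j₀ + P j₁ + P j₂ + θ • P j₃ with hws
  have vals : wp j₀ = 1 ∧ wp j₁ = 1 ∧ wp j₂ = 0 ∧ wp j₃ = 0 ∧ wq j₀ = 0 ∧ wq j₁ = 1 ∧ wq j₂ = 1 ∧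
      wq j₃ = 0 ∧ wr j₀ = 0 ∧ wr j₁ = 0 ∧ wr j₂ = 1 ∧ wr j₃ = 1 ∧ ws j₀ = 1 ∧ ws j₁ = 1 ∧ ws j₂ = 1 ∧
      ws j₃ = θ := by
    simp [hwp, hwq, hwr, hws, P, d01, d02, d03, d12, d13, d23, d01.symm, d02.symm, d03.symm, d12.symm,
      d13.symm, d23.symm]
  obtain ⟨p0, p1, p2, p3, q0, q1, q2, q3, r0, r1, r2, r3, s0, s1, s2, s3⟩ := vals
  have Hp : ∀ w, Cfsg.hermForm n F 2 wp w = w j₀ ^ 2 + w j₁ ^ 2 := fun w => by rw [hwp, hadd, hP, hP]
  have Hq : ∀ w, Cfsg.hermForm n F 2 wq w = w j₁ ^ 2 + w j₂ ^ 2 := fun w => by rw [hwq, hadd, hP, hP]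
  have Hr : ∀ w, Cfsg.hermForm n F 2 wr w = w j₂ ^ 2 + w j₃ ^ 2 := fun w => by rw [hwr, hadd, hP, hP]
  have Hs : ∀ w, Cfsg.hermForm n F 2 ws w = w j₀ ^ 2 + w j₁ ^ 2 + w j₂ ^ 2 + θ * w j₃ ^ 2 := fun w => by
    rw [hws, hadd, hadd, hadd, hsmul, hP, hP, hP, hP]
  have pre' : ∀ X : Pt F (Fin n), Pt.form Φ.σ (Cfsg.hermForm n F 2) X X = 0 →
      (X.e ≠ 0 ∨ X.f ≠ 0 ∨ X.v ≠ 0) → ∃ y ∈ D, ∃ ξ, X = Pt.scale ξ (φ y) := hsurj
  have member : ∀ w : Fin n → F, w ≠ 0 → Cfsg.hermForm n F 2 w w = 0 →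
      ∃ y ∈ D, ∃ ξ, (⟨0, 0, w⟩ : Pt F (Fin n)) = Pt.scale ξ (φ y) := fun w hw hiso =>
    pre' _ (by simp [Pt.form, hiso]) (Or.inr (Or.inr hw))
  have hz0 : ∀ w : Fin n → F, Cfsg.hermForm n F 2 0 w = 0 := fun w => by simp [Cfsg.hermForm]
  obtain ⟨b, hb, ξb, hbv⟩ := pre' ⟨1, 0, 0⟩ (by simp [Pt.form, hz0]) (Or.inl one_ne_zero)
  obtain ⟨p, hp, ξp, hpv⟩ := member wp (fun h => by simpa [h] using p0)
    (by rw [Hp, p0, p1]; linear_combination h2)
  obtain ⟨q, hq, ξq, hqv⟩ := member wq (fun h => by simpa [h] using q1)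
    (by rw [Hq, q1, q2]; linear_combination h2)
  obtain ⟨r, hr, ξr, hrv⟩ := member wr (fun h => by simpa [h] using r2)
    (by rw [Hr, r2, r3]; linear_combination h2)
  obtain ⟨s, hs, ξs, hsv⟩ := member ws (fun h => by simpa [h] using s0)
    (by rw [Hs, s0, s1, s2, s3]; linear_combination (θ + 1) * hroot + (θ + 2) * h2)
  have scaled : ∀ {y y' X X' ξ ξ'}, y ∈ D → y' ∈ D → X = Pt.scale ξ (φ y) → X' = Pt.scale ξ' (φ y') →
      (X.e ≠ 0 ∨ X.f ≠ 0 ∨ X.v ≠ 0) → (X'.e ≠ 0 ∨ X'.f ≠ 0 ∨ X'.v ≠ 0) →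
      (Commute y y' ↔ Pt.form Φ.σ (Cfsg.hermForm n F 2) X X' = 0) := by
    intro y y' X X' ξ ξ' hy hy' h h' hX hX'
    have hξ : ξ ≠ 0 := by rintro rfl; subst h; simp [Pt.scale] at hX
    have hξ' : ξ' ≠ 0 := by rintro rfl; subst h'; simp [Pt.scale] at hX'
    rw [hcomm y hy y' hy', h, h']
    have : Pt.form Φ.σ (Cfsg.hermForm n F 2) (Pt.scale ξ (φ y)) (Pt.scale ξ' (φ y')) =
        ξ * Φ.σ ξ' * Pt.form Φ.σ (Cfsg.hermForm n F 2) (φ y) (φ y') := by
      simp only [Pt.form, Pt.scale, C.form.smul, C.form.smul_right, map_mul]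
      ring
    rw [this, mul_eq_zero, or_iff_right (mul_ne_zero hξ ((map_ne_zero Φ.σ).2 hξ'))]
  have nb : ∀ {y w ξ}, y ∈ D → w ≠ 0 → (⟨0, 0, w⟩ : Pt F (Fin n)) = Pt.scale ξ (φ y) →
      y ∈ nbr D b := by
    intro y w ξ hy hw h
    refine ⟨hy, fun k => ?_, (scaled hb hy hbv h (Or.inl one_ne_zero) (Or.inr (Or.inr hw))).2 (by
      simp [Pt.form, hz0])⟩
    subst k
    have e1 := congrArg Pt.e hbv
    have e2 := congrArg Pt.e h
    simp only [Pt.scale] at e1 e2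
    rcases mul_eq_zero.1 e2.symm with k | k
    · have := congrArg Pt.v h
      simp only [Pt.scale, k, zero_smul] at this
      exact hw this
    · rw [k, mul_zero] at e1
      exact one_ne_zero e1
  have wne : wp ≠ 0 ∧ wq ≠ 0 ∧ wr ≠ 0 ∧ ws ≠ 0 :=
    ⟨fun h => by simpa [h] using p0, fun h => by simpa [h] using q1, fun h => by simpa [h] using r2,
      fun h => by simpa [h] using s0⟩
  obtain ⟨np, nq, nr, ns⟩ := wne
  have key : ∀ {y y' w w' ξ ξ'}, y ∈ D → y' ∈ D → w ≠ 0 → w' ≠ 0 →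
      (⟨0, 0, w⟩ : Pt F (Fin n)) = Pt.scale ξ (φ y) → (⟨0, 0, w'⟩ : Pt F (Fin n)) = Pt.scale ξ' (φ y') →
      (Commute y y' ↔ Cfsg.hermForm n F 2 w w' = 0) := by
    intro y y' w w' ξ ξ' hy hy' hw hw' h h'
    rw [scaled hy hy' h h' (Or.inr (Or.inr hw)) (Or.inr (Or.inr hw'))]
    simp [Pt.form]
  have hchain : Chain D b := by
    refine ⟨p, nb hp np hpv, q, nb hq nq hqv, r, nb hr nr hrv, s, nb hs ns hsv, ?_, ?_, ?_, ?_, ?_, ?_⟩
    · rw [key hp hq np nq hpv hqv, Hp, q0, q1]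
      simp
    · rw [key hq hr nq nr hqv hrv, Hq, r1, r2]
      simp
    · rw [key hr hs nr ns hrv hsv, Hr, s2, s3]
      exact fun k => hθ0 (by linear_combination k - hroot - h2)
    · rw [key hp hr np nr hpv hrv, Hp, r0, r1]
      simp
    · rw [key hp hs np ns hpv hsv, Hp, s0, s1]
      linear_combination h2
    · rw [key hq hs nq ns hqv hsv, Hq, s1, s2]
      linear_combination h2
  obtain ⟨g', rfl⟩ := S.set.hD.class_eq b hb x hx
  exact hchain.conj S.closed g'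

/-- A field with four elements in the lowest universe. -/
theorem exists_field_four : ∃ (F : Type) (_ : Field F) (_ : Fintype F), Fintype.card F = 4 := by
  haveI : Fact (Nat.Prime 2) := ⟨Nat.prime_two⟩
  haveI : Fintype (GaloisField 2 2) := Fintype.ofFinite _
  exact ⟨GaloisField 2 2, inferInstance, inferInstance, by
    rw [← Nat.card_eq_fintype_card, GaloisField.card 2 2 two_ne_zero]; rfl⟩

/-- The recognition from a geometry. -/
theorem Geom.recognition (S : Geom D) :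
    (∃ m, 2 ≤ m ∧ Classif.KindSp D m ∧ (3 ≤ m → ∀ x ∈ D, Chain D x)) ∨
    (∃ n, 4 ≤ n ∧ Classif.KindPSU D n ∧ (6 ≤ n → ∀ x ∈ D, Chain D x)) := by
  obtain ⟨a, ha, -, -, -, -⟩ := S.set.pair
  obtain ⟨e, he⟩ := S.exists_adj ha
  have h1 := S.three_le_ncard_Ln he
  have h2 := S.ncard_Ln_le he
  have h3 := S.even_ncard_diff he
  rw [Set.ncard_sdiff (Set.singleton_subset_iff.2 (left_mem_Ln ha)), Set.ncard_singleton] at h3
  obtain ⟨k, hk⟩ := h3
  have : (Ln D a e).ncard = 3 ∨ (Ln D a e).ncard = 5 := by omega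
  rcases this with h | h
  · exact Or.inl (symp_case S fun x y hxy => (S.ncard_Ln_eq hxy he).trans h)
  · obtain ⟨F, _, _, hF⟩ := exists_field_four
    exact Or.inr (unit_case S (fun x y hxy => (S.ncard_Ln_eq hxy he).trans h) F hF)

/-- A non-central two-core of the group generated by the members commuting with one of them makes the
class that of the transvections of a symplectic or unitary group over two, four elements. -/
theorem main (S : InnerTwins.Setting D) (hZ : Subgroup.center G = ⊥) {x : G} (hx : x ∈ D)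
    (h : ¬ Cfsg.pCore 2 ↥(Subgroup.closure (nbr D x)) ≤
      Subgroup.center ↥(Subgroup.closure (nbr D x))) :
    (∃ m, 2 ≤ m ∧ Classif.KindSp D m) ∨ ∃ n, 4 ≤ n ∧ Classif.KindPSU D n :=
  ((geom_of_core S hZ hx h).recognition).imp (fun ⟨m, h1, h2, _⟩ => ⟨m, h1, h2⟩)
    fun ⟨n, h1, h2, _⟩ => ⟨n, h1, h2⟩

end CfsgLib.ThreeTrans.PolarTwins
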