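import Mathlib
import Cfsg.Agent.Lib.ThreeTrans.InnerTwins

/-!
# Lines of a 3-transposition class with twins below a member

The line on two commuting members is the set of members commuting with everything which commutes with
both.  When lines have a third member they satisfy the one-or-all axiom of polar spaces: a member
commuting with no member of a line would make the line the disjoint union of quadruples through any two
of its members, but the line has an odd number of members.
-/

set_option autoImplicit false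
set_option linter.unusedSectionVars false

namespace CfsgLib.ThreeTrans.PolarTwins

open CfsgLib.ThreeTrans
open CfsgLib.ThreeTrans.ClassTwo (cD)
open CfsgLib.Sporadic

variable {G : Type*} [Group G] {D : Set G}

/-! ## Conjugation -/

/-- The image of `x` under `g`. -/
def cj (g x : G) : G := g * x * g⁻¹

@[simp] theorem cj_one_left (x : G) : cj 1 x = x := by simp [cj]

theorem cj_mul_left (g h x : G) : cj (g * h) x = cj g (cj h x) := by simp [cj, mul_assoc]

theorem cj_inj (g : G) : Function.Injective (cj g) := fun a b h =>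
  mul_left_cancel (mul_right_cancel h)

theorem cj_eq_self {g x : G} : cj g x = x ↔ Commute g x := mul_inv_eq_iff_eq_mul

theorem cj_commute_iff (g a b : G) : Commute (cj g a) (cj g b) ↔ Commute a b :=
  commute_conj_iff g a b

theorem cj_mem (hc : ConjClosed D) (g : G) {x : G} (hx : x ∈ D) : cj g x ∈ D := hc.conj g x hx

theorem cj_cj_inv (g x : G) : cj g⁻¹ (cj g x) = x := by simp [cj, mul_assoc]

theorem cj_inv_cj (g x : G) : cj g (cj g⁻¹ x) = x := by simp [cj, mul_assoc]

theorem cj_invol (hs : Cfsg.IsThreeTranspositionSet D) {d : G} (hd : d ∈ D) (x : G) :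
    cj d (cj d x) = x := by
  rw [← cj_mul_left, mul_self hs hd, cj_one_left]

theorem cj_braid (hs : Cfsg.IsThreeTranspositionSet D) {d e : G} (hd : d ∈ D) (he : e ∈ D)
    (h : ¬ Commute d e) : cj d e = cj e d := by
  rw [cj, cj, inv_eq hs hd, inv_eq hs he, braid hs hd he h]

/-- Equal images of `c` under two members which do not commute with `c` make the members equal. -/
theorem cj_left_cancel (hs : Cfsg.IsThreeTranspositionSet D) {a b c : G} (ha : a ∈ D) (hb : b ∈ D)
    (hc : c ∈ D) (hac : ¬ Commute a c) (hbc : ¬ Commute b c) (h : cj a c = cj b c) : a = b := by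
  rw [cj_braid hs ha hc hac, cj_braid hs hb hc hbc] at h
  exact cj_inj c h

/-- If `c` commutes with neither of the commuting members `a`, `b`, it commutes with its image under
`a * b`. -/
theorem commute_cj_pair (hs : Cfsg.IsThreeTranspositionSet D) {a b c : G} (ha : a ∈ D) (hb : b ∈ D)
    (hc : c ∈ D) (hac : ¬ Commute a c) (hbc : ¬ Commute b c) (hab : Commute a b) :
    Commute c (cj (a * b) c) := by
  have e1 := braid hs hc ha fun k => hac k.symm
  have e2 := braid hs hc hb fun k => hbc k.symm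
  have h1 : cj (a * b) c = b * (a * c * a) * b := by
    rw [cj, mul_inv_rev, inv_eq hs ha, inv_eq hs hb]
    calc a * b * c * (b * a) = (a * b) * c * (b * a) := by simp [mul_assoc]
      _ = (b * a) * c * (a * b) := by rw [hab.eq]
      _ = b * (a * c * a) * b := by simp [mul_assoc]
  rw [h1]
  calc c * (b * (a * c * a) * b) = c * (b * (c * a * c) * b) := by rw [e1]
    _ = (c * b * c) * a * (c * b) := by simp [mul_assoc]
    _ = b * c * (b * a) * (c * b) := by rw [e2]; simp [mul_assoc]
    _ = b * c * a * (b * c * b) := by rw [← hab.eq]; simp [mul_assoc]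
    _ = b * (c * a * c) * b * c := by rw [← e2]; simp [mul_assoc]
    _ = b * (a * c * a) * b * c := by rw [e1]

/-! ## Lines -/

/-- Two distinct commuting members. -/
def Adj (D : Set G) (x y : G) : Prop := x ∈ D ∧ y ∈ D ∧ Commute x y ∧ x ≠ y

theorem Adj.symm {x y : G} (h : Adj D x y) : Adj D y x := ⟨h.2.1, h.1, h.2.2.1.symm, h.2.2.2.symm⟩

theorem Adj.left {x y : G} (h : Adj D x y) : x ∈ D := h.1

theorem Adj.right {x y : G} (h : Adj D x y) : y ∈ D := h.2.1

theorem Adj.comm {x y : G} (h : Adj D x y) : Commute x y := h.2.2.1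

theorem Adj.ne {x y : G} (h : Adj D x y) : x ≠ y := h.2.2.2

/-- The line on `x` and `y`. -/
def Ln (D : Set G) (x y : G) : Set G :=
  {v | v ∈ D ∧ ∀ e ∈ D, Commute x e → Commute y e → Commute v e}

theorem Ln_comm (x y : G) : Ln D x y = Ln D y x := by
  ext v
  exact and_congr_right fun _ => ⟨fun h e he k l => h e he l k, fun h e he k l => h e he l k⟩

theorem left_mem_Ln {x y : G} (hx : x ∈ D) : x ∈ Ln D x y := ⟨hx, fun _ _ a _ => a⟩

theorem right_mem_Ln {x y : G} (hy : y ∈ D) : y ∈ Ln D x y := ⟨hy, fun _ _ _ b => b⟩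

theorem cj_mem_Ln (hc : ConjClosed D) (g : G) {x y v : G} (h : v ∈ Ln D x y) :
    cj g v ∈ Ln D (cj g x) (cj g y) := by
  refine ⟨cj_mem hc g h.1, fun e he hx hy => ?_⟩
  rw [← cj_inv_cj g e, cj_commute_iff] at hx hy ⊢
  exact h.2 _ (cj_mem hc _ he) hx hy

theorem commute_of_mem_Ln {x y u v : G} (hxy : Adj D x y) (hu : u ∈ Ln D x y) (hv : v ∈ Ln D x y) :
    Commute u v := by
  have hux : Commute u x := hu.2 x hxy.left (Commute.refl x) hxy.comm.symm
  have huy : Commute u y := hu.2 y hxy.right hxy.comm (Commute.refl y)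
  exact (hv.2 u hu.1 hux.symm huy.symm).symm

theorem adj_of_mem_Ln {x y u v : G} (hxy : Adj D x y) (hu : u ∈ Ln D x y) (hv : v ∈ Ln D x y)
    (hne : u ≠ v) : Adj D u v :=
  ⟨hu.1, hv.1, commute_of_mem_Ln hxy hu hv, hne⟩

/-- The standing hypotheses: a primitive class of 3-transpositions in which lines have a third
member. -/
structure Geom [Finite G] (D : Set G) : Prop where
  set : InnerTwins.Setting D
  triv : Subgroup.center G = ⊥
  third : ∀ x y : G, Adj D x y → ∃ v ∈ Ln D x y, v ≠ x ∧ v ≠ y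

variable [Finite G]

theorem Geom.closed (S : Geom D) : ConjClosed D := S.set.hD.closed

theorem Geom.tset (S : Geom D) : Cfsg.IsThreeTranspositionSet D := S.set.hD.closed.set

theorem Geom.mem (S : Geom D) (g : G) {x : G} (hx : x ∈ D) : cj g x ∈ D := cj_mem S.closed g hx

theorem Geom.adj_cj (S : Geom D) (g : G) {x y : G} (h : Adj D x y) : Adj D (cj g x) (cj g y) :=
  ⟨S.mem g h.left, S.mem g h.right, (cj_commute_iff g x y).2 h.comm, fun k => h.ne (cj_inj g k)⟩

theorem Geom.cj_image_Ln (S : Geom D) (g x y : G) : cj g '' Ln D x y = Ln D (cj g x) (cj g y) := by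
  refine Set.Subset.antisymm ?_ fun w hw => ?_
  · rintro _ ⟨v, hv, rfl⟩
    exact cj_mem_Ln S.closed g hv
  · refine ⟨cj g⁻¹ w, ?_, cj_inv_cj g w⟩
    have := cj_mem_Ln S.closed g⁻¹ hw
    rwa [cj_cj_inv, cj_cj_inv] at this

theorem Geom.exists_conj_pair (S : Geom D) {x y x' y' : G} (h : Adj D x y) (h' : Adj D x' y') :
    ∃ g : G, cj g x = x' ∧ cj g y = y' :=
  S.set.pairConj_perp h.left ⟨h.right, h.ne.symm, h.comm⟩ h'.left ⟨h'.right, h'.ne.symm, h'.comm⟩

theorem Geom.exists_conj_far (S : Geom D) {x y x' y' : G} (hx : x ∈ D) (hy : y ∈ D) (hx' : x' ∈ D)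
    (hy' : y' ∈ D) (h : ¬ Commute x y) (h' : ¬ Commute x' y') :
    ∃ g : G, cj g x = x' ∧ cj g y = y' :=
  S.set.pairConj_far hx hy hx' hy' h h'

theorem Geom.cj_image_perp (S : Geom D) (g x y : G) :
    cj g '' (cD D x ∩ cD D y) = cD D (cj g x) ∩ cD D (cj g y) := by
  refine Set.Subset.antisymm ?_ fun w hw => ?_
  · rintro _ ⟨v, hv, rfl⟩
    exact ⟨⟨S.mem g hv.1.1, (cj_commute_iff g x v).2 hv.1.2⟩,
      S.mem g hv.2.1, (cj_commute_iff g y v).2 hv.2.2⟩
  · refine ⟨cj g⁻¹ w, ⟨⟨S.mem _ hw.1.1, ?_⟩, S.mem _ hw.1.1, ?_⟩, cj_inv_cj g w⟩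
    · rw [← cj_commute_iff g, cj_inv_cj]; exact hw.1.2
    · rw [← cj_commute_iff g, cj_inv_cj]; exact hw.2.2

/-- Common perps of adjacent pairs which are nested are equal. -/
theorem Geom.perp_eq_of_adj (S : Geom D) {x y x' y' : G} (h : Adj D x y) (h' : Adj D x' y')
    (hsub : cD D x ∩ cD D y ⊆ cD D x' ∩ cD D y') : cD D x ∩ cD D y = cD D x' ∩ cD D y' := by
  refine Set.eq_of_subset_of_ncard_le hsub (le_of_eq ?_) (Set.toFinite _)
  obtain ⟨g, h1, h2⟩ := S.exists_conj_pair h h'
  rw [← h1, ← h2, ← S.cj_image_perp, Set.ncard_image_of_injective _ (cj_inj g)]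

/-- Common perps of far pairs which are nested are equal. -/
theorem Geom.perp_eq_of_far (S : Geom D) {x y x' y' : G} (hx : x ∈ D) (hy : y ∈ D) (hx' : x' ∈ D)
    (hy' : y' ∈ D) (h : ¬ Commute x y) (h' : ¬ Commute x' y')
    (hsub : cD D x ∩ cD D y ⊆ cD D x' ∩ cD D y') : cD D x ∩ cD D y = cD D x' ∩ cD D y' := by
  refine Set.eq_of_subset_of_ncard_le hsub (le_of_eq ?_) (Set.toFinite _)
  obtain ⟨g, h1, h2⟩ := S.exists_conj_far hx hy hx' hy' h h'
  rw [← h1, ← h2, ← S.cj_image_perp, Set.ncard_image_of_injective _ (cj_inj g)]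

/-- A line is determined by any two of its members. -/
theorem Geom.Ln_eq (S : Geom D) {x y u v : G} (hxy : Adj D x y) (hu : u ∈ Ln D x y)
    (hv : v ∈ Ln D x y) (hne : u ≠ v) : Ln D u v = Ln D x y := by
  have hp := S.perp_eq_of_adj hxy (adj_of_mem_Ln hxy hu hv hne) fun e he =>
    ⟨⟨he.1.1, hu.2 e he.1.1 he.1.2 he.2.2⟩, he.1.1, hv.2 e he.1.1 he.1.2 he.2.2⟩
  ext w
  refine and_congr_right fun _ => forall₂_congr fun e he => ?_
  have := Set.ext_iff.1 hp e
  simp only [cD, Set.mem_inter_iff, Set.mem_ofPred_eq, he, true_and] at this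
  exact ⟨fun h a b => h (this.1 ⟨a, b⟩).1 (this.1 ⟨a, b⟩).2,
    fun h a b => h (this.2 ⟨a, b⟩).1 (this.2 ⟨a, b⟩).2⟩

theorem Geom.ncard_Ln_eq (S : Geom D) {x y x' y' : G} (h : Adj D x y) (h' : Adj D x' y') :
    (Ln D x y).ncard = (Ln D x' y').ncard := by
  obtain ⟨g, h1, h2⟩ := S.exists_conj_pair h h'
  rw [← h1, ← h2, ← S.cj_image_Ln, Set.ncard_image_of_injective _ (cj_inj g)]

theorem Geom.three_le_ncard_Ln (S : Geom D) {x y : G} (h : Adj D x y) :
    3 ≤ (Ln D x y).ncard := by
  obtain ⟨v, hv, hvx, hvy⟩ := S.third x y h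
  have : ({x, y, v} : Set G) ⊆ Ln D x y := by
    rintro w (rfl | rfl | rfl)
    exacts [left_mem_Ln h.left, right_mem_Ln h.right, hv]
  refine le_trans (le_of_eq ?_) (Set.ncard_le_ncard this (Set.toFinite _))
  rw [Set.ncard_insert_of_notMem (by simp [h.ne, hvx.symm]), Set.ncard_pair (Ne.symm hvy)]

/-- Two members of a line commuting with `c` make all of them commute with `c`. -/
theorem Geom.all_of_two (S : Geom D) {x y u v w c : G} (hxy : Adj D x y) (hu : u ∈ Ln D x y)
    (hv : v ∈ Ln D x y) (hne : u ≠ v) (hw : w ∈ Ln D x y) (hc : c ∈ D) (hcu : Commute u c)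
    (hcv : Commute v c) : Commute w c := by
  rw [← S.Ln_eq hxy hu hv hne] at hw
  exact hw.2 c hc hcu hcv

/-- A member commuting with `x` but not with `y` commutes with `x` alone on their line. -/
theorem Geom.not_commute_of_sep (S : Geom D) {x y v e : G} (hxy : Adj D x y) (he : e ∈ D)
    (hxe : Commute x e) (hye : ¬ Commute y e) (hv : v ∈ Ln D x y) (hvx : v ≠ x) : ¬ Commute v e :=
  fun h => hye (S.all_of_two hxy (left_mem_Ln hxy.left) hv hvx.symm (right_mem_Ln hxy.right) he hxe h)

/-- Some member commutes with `x` and not with `y`. -/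
theorem Geom.exists_sep (S : Geom D) {x y : G} (hxy : Adj D x y) :
    ∃ e ∈ D, Commute x e ∧ ¬ Commute y e := by
  by_contra! hno
  obtain ⟨g, hg⟩ := S.set.hD.class_eq x hxy.left y hxy.right
  have hsub : cD D x ⊆ cD D y := fun e he => ⟨he.1, hno e he.1 he.2⟩
  have hcard : cD D y = (fun z => g * z * g⁻¹) '' cD D x := by
    rw [← hg]
    exact conj_set_eq S.closed g (fun a z => Commute a z) (fun a b => commute_conj_iff g a b) x
  have heq : cD D x = cD D y := Set.eq_of_subset_of_ncard_le hsub
    (by rw [hcard, Set.ncard_image_of_injective _ fun a b h => mul_left_cancel (mul_right_cancel h)])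
    (Set.toFinite _)
  refine hxy.ne (S.set.hD.vRel_eq_self (S.set.hD.cores_of_primitive S.set.prim S.set.pair).1
    ⟨hxy.left, hxy.right, fun e he => ?_⟩).symm
  have := Set.ext_iff.1 heq e
  simp only [cD, Set.mem_ofPred_eq, he, true_and] at this
  exact this.symm

/-- Translations: two members of a line move a member commuting with a third one along the line on
these two. -/
theorem Geom.transl (S : Geom D) {x y v e : G} (hxy : Adj D x y) (he : e ∈ D) (hxe : Commute x e)
    (hye : ¬ Commute y e) (hv : v ∈ Ln D x y) (hvx : v ≠ x) (hvy : v ≠ y) :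
    cj (y * v) e ∈ Ln D x e ∧ cj (y * v) e ≠ x ∧ cj (y * v) e ≠ e := by
  have hs := S.tset
  have hve := S.not_commute_of_sep hxy he hxe hye hv hvx
  have h1 : cj (y * e) y = e := by
    rw [cj_mul_left, cj_braid hs he hxy.right fun k => hye k.symm, cj_invol hs hxy.right]
  have h2 : cj (y * e) x = x := cj_eq_self.2 (hxy.comm.symm.mul_left hxe.symm)
  have h3 : cj (y * e) v = cj (y * v) e := by
    rw [cj_mul_left, cj_braid hs he hv.1 fun k => hve k.symm, cj_mul_left]
  rw [← h3]
  refine ⟨?_, fun k => hvx (cj_inj _ (k.trans h2.symm)), fun k => hvy (cj_inj _ (k.trans h1.symm))⟩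
  have := cj_mem_Ln S.closed (y * e) hv
  rwa [h1, h2] at this

/-- The number of members of a line other than one of them is even. -/
theorem Geom.even_ncard_diff (S : Geom D) {x y : G} (hxy : Adj D x y) :
    Even ((Ln D x y) \ {x}).ncard := by
  classical
  have hs := S.tset
  obtain ⟨e, he, hxe, hye⟩ := S.exists_sep hxy
  have hexe : Adj D x e := ⟨hxy.left, he, hxe, fun k => hye (k ▸ hxy.comm.symm)⟩
  obtain ⟨e', he', he'x, he'e⟩ := S.third x e hexe
  let f : G → G := cj (e * e')
  have hee : Commute e e' := commute_of_mem_Ln hexe (right_mem_Ln he) he'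
  have hf2 : ∀ v, f (f v) = v := fun v => by
    show cj (e * e') (cj (e * e') v) = v
    rw [← cj_mul_left, ← mul_assoc, mul_assoc e e' e, ← hee.eq, ← mul_assoc, mul_self hs he, one_mul,
      mul_self hs he'.1, cj_one_left]
  have hmem : ∀ v ∈ Ln D x y \ {x}, f v ∈ Ln D x y \ {x} ∧ f v ≠ v := by
    rintro v ⟨hv, hvx⟩
    have hvx' : v ≠ x := hvx
    have hxv : Commute x v := commute_of_mem_Ln hxy (left_mem_Ln hxy.left) hv
    have hev : ¬ Commute e v := fun k => S.not_commute_of_sep hxy he hxe hye hv hvx' k.symm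
    obtain ⟨t1, t2, t3⟩ := S.transl hexe hv.1 hxv hev he' he'x he'e
    rw [S.Ln_eq hxy (left_mem_Ln hxy.left) hv (Ne.symm hvx')] at t1
    exact ⟨⟨t1, t2⟩, t3⟩
  have hsum : ∑ _i ∈ (Set.toFinite (Ln D x y \ {x})).toFinset, (1 : ZMod 2) = 0 := by
    refine Finset.sum_involution (fun v _ => f v) (fun _ _ => by decide)
      (fun v hv _ => (hmem v ((Set.Finite.mem_toFinset _).1 hv)).2)
      (fun v hv => (Set.Finite.mem_toFinset _).2 (hmem v ((Set.Finite.mem_toFinset _).1 hv)).1)
      fun v _ => hf2 v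
  rw [Finset.sum_const, nsmul_eq_mul, mul_one, ZMod.natCast_eq_zero_iff_even] at hsum
  rwa [Set.ncard_eq_toFinset_card _ (Set.toFinite _)]

/-- The one-or-all axiom. -/
theorem Geom.exists_commute_mem (S : Geom D) {x y c : G} (hxy : Adj D x y) (hc : c ∈ D) :
    ∃ v ∈ Ln D x y, Commute v c := by
  classical
  by_contra! hno
  have hs := S.tset
  have hxc := hno x (left_mem_Ln hxy.left)
  have hyc := hno y (right_mem_Ln hxy.right)
  set c' := cj (x * y) c with hc'
  have hc'D : c' ∈ D := S.mem _ hc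
  have hcc : Commute c c' := commute_cj_pair hs hxy.left hxy.right hc hxc hyc hxy.comm
  have hxy2 : (x * y) * (x * y) = 1 := by
    rw [mul_assoc, ← mul_assoc y x y, ← hxy.comm.eq, mul_assoc x y y, mul_self hs hxy.right, mul_one,
      mul_self hs hxy.left]
  let s : G → G := cj (c * c')
  have hs2 : ∀ v, s (s v) = v := fun v => by
    show cj (c * c') (cj (c * c') v) = v
    rw [← cj_mul_left, ← mul_assoc, mul_assoc c c' c, ← hcc.eq, ← mul_assoc, mul_self hs hc, one_mul,
      mul_self hs hc'D, cj_one_left]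
  -- `c'` moves `x` as `y * x` does
  have hc'x : ∀ u, Commute (x * y) u → cj c' u = cj (x * y) (cj c u) := fun u hu => by
    have e1 : c' = (x * y) * c * (x * y)⁻¹ := rfl
    rw [e1, cj_mul_left, cj_mul_left, inv_eq_of_mul_eq_one_right hxy2, cj_eq_self.2 hu]
  have hsx : s x = y := by
    show cj (c * c') x = y
    rw [cj_mul_left, hc'x x ((Commute.refl x).mul_left hxy.comm.symm),
      cj_braid hs hc hxy.left fun k => hxc k.symm, cj_mul_left,
      ← cj_mul_left y x c, ← hxy.comm.eq, cj_mul_left, cj_invol hs hxy.left,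
      cj_braid hs hxy.right hc hyc, cj_invol hs hc]
  have hsy : s y = x := by rw [← hsx]; exact hs2 x
  have hline : ∀ v ∈ Ln D x y, s v ∈ Ln D x y := fun v hv => by
    have := cj_mem_Ln S.closed (c * c') hv
    rw [show cj (c * c') x = y from hsx, show cj (c * c') y = x from hsy, Ln_comm] at this
    exact this
  have hfix : ∀ v ∈ Ln D x y, s v ≠ v := by
    intro v hv k
    have hvc := hno v hv
    have hvxy : Commute (x * y) v := (commute_of_mem_Ln hxy (left_mem_Ln hxy.left) hv).mul_left
      (commute_of_mem_Ln hxy (right_mem_Ln hxy.right) hv)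
    have h1 : cj c' v = cj c v := by
      have := congrArg (cj c) k
      simp only [s, cj_mul_left, cj_invol hs hc] at this
      exact this
    rw [hc'x v hvxy, cj_braid hs hc hv.1 fun j => hvc j.symm, cj_eq_self] at h1
    have h4 : cj (x * y) c = c := by
      rw [cj_eq_self, ← cj_commute_iff v, cj_eq_self.2 hvxy.symm]
      exact h1
    rw [cj_mul_left] at h4
    have h5 : cj x c = cj y c := by
      have := congrArg (cj x) h4
      rw [cj_invol hs hxy.left] at this
      exact this.symm
    exact hxy.ne (cj_left_cancel hs hxy.left hxy.right hc hxc hyc h5)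
  have hsum : ∑ _i ∈ (Set.toFinite (Ln D x y)).toFinset, (1 : ZMod 2) = 0 := by
    refine Finset.sum_involution (fun v _ => s v) (fun _ _ => by decide)
      (fun v hv _ => hfix v ((Set.Finite.mem_toFinset _).1 hv))
      (fun v hv => (Set.Finite.mem_toFinset _).2 (hline v ((Set.Finite.mem_toFinset _).1 hv)))
      fun v _ => hs2 v
  rw [Finset.sum_const, nsmul_eq_mul, mul_one, ZMod.natCast_eq_zero_iff_even,
    ← Set.ncard_eq_toFinset_card _ (Set.toFinite _)] at hsum
  have he := S.even_ncard_diff hxy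
  rw [Set.ncard_sdiff_singleton_of_mem (left_mem_Ln hxy.left)] at he
  have := S.three_le_ncard_Ln hxy
  rw [Nat.even_sub (by omega)] at he
  exact Nat.not_even_one (he.1 hsum)

/-- Off the perp of a line, exactly one of its members commutes with a given one. -/
theorem Geom.existsUnique_commute (S : Geom D) {x y c : G} (hxy : Adj D x y) (hc : c ∈ D)
    (hnot : ¬ (Commute x c ∧ Commute y c)) :
    ∃ z ∈ Ln D x y, Commute z c ∧ ∀ w ∈ Ln D x y, Commute w c → w = z := by
  obtain ⟨z, hz, hzc⟩ := S.exists_commute_mem hxy hc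
  refine ⟨z, hz, hzc, fun w hw hwc => by_contra fun hne => hnot ?_⟩
  exact ⟨S.all_of_two hxy hw hz hne (left_mem_Ln hxy.left) hc hwc hzc,
    S.all_of_two hxy hw hz hne (right_mem_Ln hxy.right) hc hwc hzc⟩

end CfsgLib.ThreeTrans.PolarTwins
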