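import Cfsg.Agent.Lib.ThreeTrans.PolarTwins.Plus

/-!
# Points from coordinates of the group of translations

Coordinates `(lam g, w g)` of the elements of `QG D a`, with the product of a Heisenberg group for a form
`H`, give a map of the members to the isotropic points of `H` extended by a hyperbolic pair, matching
commuting with orthogonality.
-/

set_option autoImplicit false
set_option linter.unusedSectionVars false

namespace CfsgLib.ThreeTrans.PolarTwins

open CfsgLib.ThreeTrans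

variable {G : Type*} [Group G] {D : Set G} {K : Type*} [Field K] {ι : Type*}

/-- A form which is linear in the first and hermitian for `σ`, in characteristic two. -/
structure IsForm (σ : K →+* K) (H : (ι → K) → (ι → K) → K) : Prop where
  two : (2 : K) = 0
  invol : ∀ x, σ (σ x) = x
  add : ∀ u v w, H (u + v) w = H u w + H v w
  smul : ∀ (ξ : K) u v, H (ξ • u) v = ξ * H u v
  symm : ∀ u v, σ (H u v) = H v u

namespace IsForm

variable {σ : K →+* K} {H : (ι → K) → (ι → K) → K} (F : IsForm σ H)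
include F

theorem add_self (x : K) : x + x = 0 := by rw [← two_mul, F.two, zero_mul]

theorem neg_eq (x : K) : -x = x := neg_eq_of_add_eq_zero_right (F.add_self x)

theorem vec_add_self (v : ι → K) : v + v = 0 := funext fun i => F.add_self (v i)

theorem vec_neg (v : ι → K) : -v = v := funext fun i => F.neg_eq (v i)

theorem zero_left (v : ι → K) : H 0 v = 0 := by
  rw [← zero_smul K (0 : ι → K), F.smul, zero_mul]

theorem zero_right (v : ι → K) : H v 0 = 0 := by rw [← F.symm, F.zero_left, map_zero]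

theorem add_right (u v w : ι → K) : H u (v + w) = H u v + H u w := by
  rw [← F.symm, F.add, map_add, F.symm, F.symm]

theorem smul_right (ξ : K) (u v : ι → K) : H u (ξ • v) = σ ξ * H u v := by
  rw [← F.symm, F.smul, map_mul, F.symm]

theorem eq_zero_symm {u v : ι → K} (h : H u v = 0) : H v u = 0 := by rw [← F.symm, h, map_zero]

end IsForm

/-- Points of the extension of `H` by a hyperbolic pair. -/
structure Pt (K : Type*) (ι : Type*) where
  /-- first hyperbolic coordinate -/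
  e : K
  /-- second hyperbolic coordinate -/
  f : K
  /-- remaining coordinates -/
  v : ι → K

/-- The extended form. -/
def Pt.form (σ : K →+* K) (H : (ι → K) → (ι → K) → K) (X Y : Pt K ι) : K :=
  X.e * σ Y.f + X.f * σ Y.e + H X.v Y.v

/-- Scalar multiples of points. -/
def Pt.scale (ξ : K) (X : Pt K ι) : Pt K ι := ⟨ξ * X.e, ξ * X.f, ξ • X.v⟩

variable [Finite G]

/-- Coordinates of the group of translations. -/
structure Coord (D : Set G) (a c : G) (σ : K →+* K) (H : (ι → K) → (ι → K) → K) where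
  /-- vector part -/
  w : G → ι → K
  /-- central part -/
  lam : G → K
  form : IsForm σ H
  w_mul : ∀ g ∈ QG D a, ∀ h ∈ QG D a, w (g * h) = w g + w h
  lam_mul : ∀ g ∈ QG D a, ∀ h ∈ QG D a, lam (g * h) = lam g + lam h + H (w h) (w g)
  inj : ∀ g ∈ QG D a, ∀ h ∈ QG D a, w g = w h → lam g = lam h → g = h
  cone : ∀ g ∈ QG D a, lam g + σ (lam g) = H (w g) (w g)
  surj : ∀ v l, l + σ l = H v v → ∃ g ∈ QG D a, w g = v ∧ lam g = l
  plus_iff : ∀ g ∈ QG D a, Plus D a c g ↔ g ≠ 1 ∧ lam g = 0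
  span_line : ∀ z g h, PlusAt D a c z g → PlusAt D a c z h → ∃ ξ : K, ξ ≠ 0 ∧ w h = ξ • w g
  smul_line : ∀ z g (ξ : K), PlusAt D a c z g → ξ ≠ 0 → ∃ h, PlusAt D a c z h ∧ w h = ξ • w g
  move : ∀ z y, Adj D a z → Commute z c → y ∈ Ln D a z → y ≠ a → y ≠ z → ∀ h ∈ QG D a,
    (cj h z = y ↔ H (w (a * (z * y))) (w h) = 1)

namespace Coord

variable {a c : G} {σ : K →+* K} {H : (ι → K) → (ι → K) → K} (C : Coord D a c σ H)
  (S : Geom D)

theorem w_one : C.w 1 = 0 := by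
  have := C.w_mul 1 (one_mem _) 1 (one_mem _)
  rw [one_mul, C.form.vec_add_self] at this
  exact this

theorem lam_one : C.lam 1 = 0 := by
  have := C.lam_mul 1 (one_mem _) 1 (one_mem _)
  rwa [one_mul, C.w_one, C.form.zero_left, add_zero, C.form.add_self] at this

theorem w_inv {g : G} (hg : g ∈ QG D a) : C.w g⁻¹ = C.w g := by
  have := C.w_mul g hg g⁻¹ (inv_mem hg)
  rw [mul_inv_cancel, C.w_one] at this
  rw [eq_neg_of_add_eq_zero_right this.symm, C.form.vec_neg]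

theorem lam_inv {g : G} (hg : g ∈ QG D a) : C.lam g⁻¹ = σ (C.lam g) := by
  have := C.lam_mul g hg g⁻¹ (inv_mem hg)
  rw [mul_inv_cancel, C.lam_one, C.w_inv hg, ← C.cone g hg] at this
  have h2 := C.form.add_self (C.lam g)
  have h3 := C.form.add_self (σ (C.lam g))
  linear_combination -this - h2 - h3

theorem plus_w {z g : G} (hg : PlusAt D a c z g) : C.lam g = 0 ∧ C.w g ≠ 0 ∧ g ≠ 1 := by
  obtain ⟨h1, h2⟩ := (C.plus_iff g hg.mem).1 hg.plus
  refine ⟨h2, fun k => h1 ?_, h1⟩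
  exact C.inj g hg.mem 1 (one_mem _) (k.trans C.w_one.symm) (h2.trans C.lam_one.symm)

theorem plus_isotropic {z g : G} (hg : PlusAt D a c z g) : H (C.w g) (C.w g) = 0 := by
  rw [← C.cone g hg.mem, (C.plus_w hg).1, map_zero, add_zero]

include S in
/-- The line of a preferred lift is fixed exactly by the orthogonal elements. -/
theorem fix_iff (ha : a ∈ D) {z g h : G} (hg : PlusAt D a c z g) (hh : h ∈ QG D a) :
    cj h z = z ↔ H (C.w g) (C.w h) = 0 := by
  constructor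
  · intro k
    by_contra hne
    obtain ⟨g', hg', hw⟩ := C.smul_line z g (H (C.w g) (C.w h))⁻¹ hg (inv_ne_zero hne)
    obtain ⟨haz, hzc, y, hy, hya, hyz, rfl⟩ := hg'
    have := (C.move z y haz hzc hy hya hyz h hh).2 (by rw [hw, C.form.smul, inv_mul_cancel₀ hne])
    exact hyz (this.symm.trans k)
  · intro k
    by_contra hne
    obtain ⟨m1, m2⟩ := S.qg_mem_Ln ha hh hg.adj (right_mem_Ln hg.adj.right) hg.adj.ne.symm
    have := (C.move z (cj h z) hg.adj hg.comm m1 m2 hne h hh).1 rfl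
    obtain ⟨ξ, -, hξ⟩ := C.span_line z g _ hg ⟨hg.adj, hg.comm, cj h z, m1, m2, hne, rfl⟩
    rw [hξ, C.form.smul, k, mul_zero] at this
    exact zero_ne_one this

/-- The point of a member. -/
def Spec (x : G) (X : Pt K ι) : Prop :=
  (x = a ∧ X = ⟨1, 0, 0⟩) ∨
  (∃ g ∈ QG D a, cj g c = x ∧ X = ⟨C.lam g, 1, C.w g⟩) ∨
  (∃ g, PlusAt D a c x g ∧ X = ⟨0, 0, C.w g⟩) ∨
  (∃ z, Adj D a z ∧ Commute z c ∧ x ∈ Ln D a z ∧ x ≠ a ∧ x ≠ z ∧ X = ⟨1, 0, C.w (a * (z * x))⟩)

include S in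
theorem exists_spec (ha : a ∈ D) (hc : Far D a c) {x : G} (hx : x ∈ D) : ∃ X, C.Spec x X := by
  by_cases hxa : x = a
  · exact ⟨_, Or.inl ⟨hxa, rfl⟩⟩
  by_cases hax : Commute a x
  · have hA : Adj D a x := ⟨ha, hx, hax, Ne.symm hxa⟩
    obtain ⟨z, hz, hzc, hza, haz, hL⟩ := S.exists_Ln_commute hA hc
    by_cases hxz : x = z
    · subst hxz
      obtain ⟨g, hg⟩ := S.exists_plusAt haz hzc
      exact ⟨_, Or.inr (Or.inr (Or.inl ⟨g, hg, rfl⟩))⟩
    · exact ⟨_, Or.inr (Or.inr (Or.inr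
        ⟨z, haz, hzc, hL.symm ▸ right_mem_Ln hx, hxa, hxz, rfl⟩))⟩
  · obtain ⟨g, hg, hgx⟩ := S.exists_move ha hc ⟨hx, hax⟩
    exact ⟨_, Or.inr (Or.inl ⟨g, hg, hgx, rfl⟩)⟩

include S in
theorem spec_isotropic (ha : a ∈ D) (hc : Far D a c) {x : G} {X : Pt K ι} (h : C.Spec x X) :
    x ∈ D ∧ Pt.form σ H X X = 0 ∧ (X.e ≠ 0 ∨ X.f ≠ 0 ∨ X.v ≠ 0) := by
  rcases h with ⟨rfl, rfl⟩ | ⟨g, hg, rfl, rfl⟩ | ⟨g, hg, rfl⟩ | ⟨z, haz, hzc, hx, hxa, hxz, rfl⟩
  · exact ⟨ha, by simp [Pt.form, C.form.zero_left], Or.inl one_ne_zero⟩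
  · refine ⟨S.mem g hc.1, ?_, Or.inr (Or.inl one_ne_zero)⟩
    simp only [Pt.form, map_one, mul_one, one_mul]
    rw [C.cone g hg, C.form.add_self]
  · exact ⟨hg.adj.right, by simp [Pt.form, C.plus_isotropic hg], Or.inr (Or.inr (C.plus_w hg).2.1)⟩
  · exact ⟨hx.1, by simp [Pt.form, C.plus_isotropic (g := a * (z * x)) ⟨haz, hzc, x, hx, hxa, hxz, rfl⟩],
      Or.inl one_ne_zero⟩

include S in
/-- Points of members are distinct. -/
theorem spec_inj (ha : a ∈ D) (hc : Far D a c) {x x' : G} {X : Pt K ι} {ξ : K} (h : C.Spec x X)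
    (h' : C.Spec x' (Pt.scale ξ X)) : x = x' := by
  have key : ∀ {g g' : G}, g ∈ QG D a → g' ∈ QG D a → C.lam g = C.lam g' → C.w g' = C.w g → g = g' :=
    fun hg hg' h1 h2 => C.inj _ hg _ hg' h2.symm h1
  have hne : ∀ {z m : G}, Adj D a z → Commute z c → m ∈ Ln D a z → m ≠ a → m ≠ z →
      C.w (a * (z * m)) ≠ 0 := fun haz hzc hm hma hmz =>
    (C.plus_w (g := a * (_ * _)) ⟨haz, hzc, _, hm, hma, hmz, rfl⟩).2.1
  rcases h with ⟨rfl, rfl⟩ | ⟨g, hg, rfl, rfl⟩ | ⟨g, hg, rfl⟩ | ⟨z, haz, hzc, hx, hxa, hxz, rfl⟩ <;>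
    rcases h' with ⟨h1, h2⟩ | ⟨g', hg', h1, h2⟩ | ⟨g', hg', h2⟩ | ⟨z', haz', hzc', hx', hxa', hxz', h2⟩ <;>
    simp only [Pt.scale, Pt.mk.injEq, mul_zero, mul_one, smul_zero] at h2 <;>
    obtain ⟨he, hf, hv⟩ := h2
  -- the base point
  · exact h1.symm
  · exact absurd hf zero_ne_one
  · exact absurd hv.symm (C.plus_w hg').2.1
  · exact absurd hv.symm (hne haz' hzc' hx' hxa' hxz')
  -- far points
  · rw [hf, zero_mul] at he
    exact absurd he zero_ne_one
  · subst hf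
    rw [one_mul] at he
    rw [one_smul] at hv
    rw [← h1, key hg hg' he hv.symm]
  · rw [hf, zero_mul] at he
    rw [hf, zero_smul] at hv
    exact absurd hv.symm (C.plus_w hg').2.1
  · rw [hf, zero_smul] at hv
    exact absurd hv.symm (hne haz' hzc' hx' hxa' hxz')
  -- the base of a line
  · exact absurd he zero_ne_one
  · exact absurd hf zero_ne_one
  · by_cases hξ : ξ = 0
    · rw [hξ, zero_smul] at hv
      exact absurd hv.symm (C.plus_w hg').2.1
    obtain ⟨k, hk, hkw⟩ := C.smul_line _ g ξ hg hξ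
    have := key hk.mem hg'.mem ((C.plus_w hk).1.trans (C.plus_w hg').1.symm) (hv.symm.trans hkw.symm)
    subst this
    exact S.plusAt_unique ha hc hk hg'
  · exact absurd he zero_ne_one
  -- other members of a line
  · exact absurd hv (by rw [he, one_smul]; exact hne haz hzc hx hxa hxz)
  · exact absurd hf zero_ne_one
  · rw [he, zero_smul] at hv
    exact absurd hv.symm (C.plus_w hg').2.1
  · rw [he, one_smul] at hv
    have hp : PlusAt D a c z (a * (z * x)) := ⟨haz, hzc, x, hx, hxa, hxz, rfl⟩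
    have hp' : PlusAt D a c z' (a * (z' * x')) := ⟨haz', hzc', x', hx', hxa', hxz', rfl⟩
    have he' := key hp.mem hp'.mem ((C.plus_w hp).1.trans (C.plus_w hp').1.symm) hv.symm
    obtain rfl : z = z' := S.plusAt_unique ha hc hp (he'.symm ▸ hp')
    exact mul_left_cancel (mul_left_cancel he')

include S in
/-- Every isotropic point belongs to a member. -/
theorem exists_member (ha : a ∈ D) (hc : Far D a c) {X : Pt K ι} (hX : Pt.form σ H X X = 0)
    (hne : X.e ≠ 0 ∨ X.f ≠ 0 ∨ X.v ≠ 0) : ∃ x ∈ D, ∃ Y ξ, C.Spec x Y ∧ X = Pt.scale ξ Y := by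
  obtain ⟨e, f, v⟩ := X
  simp only [Pt.form] at hX hne
  by_cases hf : f = 0
  · subst hf
    rw [map_zero, mul_zero, zero_mul, zero_add, zero_add] at hX
    by_cases hv : v = 0
    · subst hv
      exact ⟨a, ha, _, e, Or.inl ⟨rfl, rfl⟩, by simp [Pt.scale]⟩
    have plus : ∀ u, u ≠ 0 → H u u = 0 → ∃ z g, PlusAt D a c z g ∧ C.w g = u := by
      intro u hu huu
      obtain ⟨g, hg, hgw, hgl⟩ := C.surj u 0 (by rw [map_zero, add_zero, huu])
      have h1 : g ≠ 1 := fun k => hu (by rw [← hgw, k, C.w_one])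
      obtain ⟨z, hz⟩ := (C.plus_iff g hg).2 ⟨h1, hgl⟩
      exact ⟨z, g, hz, hgw⟩
    by_cases he : e = 0
    · obtain ⟨z, g, hg, hgw⟩ := plus v hv hX
      exact ⟨z, hg.adj.right, _, 1, Or.inr (Or.inr (Or.inl ⟨g, hg, rfl⟩)),
        by simp [Pt.scale, he, hgw]⟩
    · obtain ⟨z, g, ⟨haz, hzc, y, hy, hya, hyz, rfl⟩, hgw⟩ := plus (e⁻¹ • v)
        (smul_ne_zero (inv_ne_zero he) hv) (by rw [C.form.smul, C.form.smul_right, hX, mul_zero, mul_zero])
      exact ⟨y, hy.1, _, e, Or.inr (Or.inr (Or.inr ⟨z, haz, hzc, hy, hya, hyz, rfl⟩)),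
        by simp [Pt.scale, hgw, he]⟩
  · obtain ⟨g, hg, hgw, hgl⟩ := C.surj (f⁻¹ • v) (f⁻¹ * e) (by
      have hσf : σ f ≠ 0 := (map_ne_zero σ).2 hf
      have : H v v = e * σ f + f * σ e := by
        rw [← C.form.neg_eq (H v v)]
        linear_combination -hX
      rw [C.form.smul, C.form.smul_right, this, map_mul, map_inv₀]
      field_simp)
    exact ⟨cj g c, S.mem g hc.1, _, f, Or.inr (Or.inl ⟨g, hg, rfl, rfl⟩),
      by simp [Pt.scale, hgw, hgl, hf]⟩

include S in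
theorem far_far (ha : a ∈ D) (hc : Far D a c) {g h : G} (hg : g ∈ QG D a) (hh : h ∈ QG D a) :
    Commute (cj g c) (cj h c) ↔ C.lam g + σ (C.lam h) + H (C.w g) (C.w h) = 0 := by
  have hk := mul_mem (inv_mem hh) hg
  have e : C.lam (h⁻¹ * g) = C.lam g + σ (C.lam h) + H (C.w g) (C.w h) := by
    rw [C.lam_mul _ (inv_mem hh) _ hg, C.lam_inv hh, C.w_inv hh]
    ring
  have e2 : Commute (cj g c) (cj h c) ↔ Commute c (cj (h⁻¹ * g) c) := by
    rw [← cj_commute_iff h⁻¹, cj_cj_inv, ← cj_mul_left]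
    exact ⟨fun k => k.symm, fun k => k.symm⟩
  rw [e2, ← e]
  by_cases h1 : h⁻¹ * g = 1
  · simp [h1, C.lam_one, Commute.refl]
  · exact ⟨fun k => ((C.plus_iff _ hk).1 (S.plus_of_commute ha hc hk h1 k)).2,
      fun k => S.plus_commute ha hc ((C.plus_iff _ hk).2 ⟨h1, k⟩)⟩

include S in
theorem far_line (ha : a ∈ D) (hc : Far D a c) {z g x : G} (hg : g ∈ QG D a) (haz : Adj D a z)
    (hzc : Commute z c) (hx : x ∈ Ln D a z) (hxa : x ≠ a) : Commute x (cj g c) ↔ cj g z = x := by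
  have hzL : z ∈ Ln D a z := right_mem_Ln haz.right
  obtain ⟨m1, m2⟩ := S.qg_mem_Ln ha hg haz hzL haz.ne.symm
  have hzg : Commute (cj g z) (cj g c) := (cj_commute_iff g z c).2 hzc
  exact ⟨fun k => (S.commute_unique haz (S.qg_far ha hg hc) hx m1 k hzg).symm, fun k => k ▸ hzg⟩

include S in
theorem line_line (ha : a ∈ D) (hc : Far D a c) {z m g g' x x' : G} (hg : PlusAt D a c z g)
    (hg' : PlusAt D a c m g') (hx : x ∈ Ln D a z) (hxa : x ≠ a) (hx' : x' ∈ Ln D a m)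
    (hx'a : x' ≠ a) : Commute x x' ↔ H (C.w g) (C.w g') = 0 := by
  have haz := hg.adj
  have ham := hg'.adj
  rw [← C.fix_iff S ha hg hg'.mem, cj_eq_self,
    S.wd_fix_iff ham hg'.wd (S.plus_not_zc ha hc hg'.plus) haz]
  constructor
  · intro k
    have h1 : Commute z x' := (S.all_of_two haz (left_mem_Ln ha) hx hxa.symm (right_mem_Ln haz.right)
      hx'.1 (commute_of_mem_Ln ham (left_mem_Ln ha) hx') k)
    exact (S.all_of_two ham (left_mem_Ln ha) hx' hx'a.symm (right_mem_Ln ham.right) haz.right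
      haz.comm h1.symm)
  · intro k
    exact hx.2 x' hx'.1 (commute_of_mem_Ln ham (left_mem_Ln ha) hx')
      (hx'.2 z haz.right haz.comm k).symm

include S in
theorem spec_commute (ha : a ∈ D) (hc : Far D a c) {x x' : G} {X X' : Pt K ι} (h : C.Spec x X)
    (h' : C.Spec x' X') : Commute x x' ↔ Pt.form σ H X X' = 0 := by
  have hfar : ∀ {g}, g ∈ QG D a → ¬ Commute a (cj g c) := fun hg => (S.qg_far ha hg hc).2
  have swap : Pt.form σ H X X' = 0 ↔ Pt.form σ H X' X = 0 := by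
    have : ∀ X Y : Pt K ι, σ (Pt.form σ H X Y) = Pt.form σ H Y X := fun X Y => by
      simp only [Pt.form, map_add, map_mul, C.form.invol, C.form.symm]
      ring
    rw [← this X X']
    exact (map_eq_zero σ).symm
  rcases h with ⟨rfl, rfl⟩ | ⟨g, hg, rfl, rfl⟩ | ⟨g, hg, rfl⟩ | ⟨z, haz, hzc, hx, hxa, hxz, rfl⟩ <;>
    rcases h' with ⟨rfl, rfl⟩ | ⟨g', hg', rfl, rfl⟩ | ⟨g', hg', rfl⟩ |
      ⟨z', haz', hzc', hx', hxa', hxz', rfl⟩
  -- the base point
  · simp [Pt.form, C.form.zero_left, Commute.refl]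
  · simp [Pt.form, C.form.zero_left, hfar hg']
  · simp [Pt.form, C.form.zero_left, hg'.adj.comm]
  · simp [Pt.form, C.form.zero_left, commute_of_mem_Ln haz' (left_mem_Ln ha) hx']
  -- far points
  · simp [Pt.form, C.form.zero_right]
    exact fun k => hfar hg k.symm
  · simp only [Pt.form, map_one, mul_one, one_mul]
    rw [C.far_far S ha hc hg hg']
  · rw [swap, (⟨Commute.symm, Commute.symm⟩ : Commute (cj g c) x' ↔ Commute x' (cj g c)), far_line S ha hc hg hg'.adj hg'.comm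
      (right_mem_Ln hg'.adj.right) hg'.adj.ne.symm, C.fix_iff S ha hg' hg]
    simp [Pt.form]
  · rw [swap, (⟨Commute.symm, Commute.symm⟩ : Commute (cj g c) x' ↔ Commute x' (cj g c)), far_line S ha hc hg haz' hzc' hx' hxa',
      C.move z' x' haz' hzc' hx' hxa' hxz' g hg]
    simp only [Pt.form, map_one, mul_one, zero_mul, add_zero]
    exact ⟨fun k => by rw [k, C.form.add_self], fun k => by
      rw [← C.form.neg_eq (H _ _)]; linear_combination -k⟩
  -- the base of a line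
  · simp [Pt.form, C.form.zero_right, hg.adj.comm.symm]
  · rw [far_line S ha hc hg' hg.adj hg.comm (right_mem_Ln hg.adj.right) hg.adj.ne.symm,
      C.fix_iff S ha hg hg']
    simp [Pt.form]
  · rw [C.line_line S ha hc hg hg' (right_mem_Ln hg.adj.right) hg.adj.ne.symm
      (right_mem_Ln hg'.adj.right) hg'.adj.ne.symm]
    simp [Pt.form]
  · rw [C.line_line S ha hc hg (g' := a * (z' * x')) ⟨haz', hzc', x', hx', hxa', hxz', rfl⟩
      (right_mem_Ln hg.adj.right) hg.adj.ne.symm hx' hxa']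
    simp [Pt.form]
  -- other members of a line
  · simp [Pt.form, C.form.zero_right, (commute_of_mem_Ln haz (left_mem_Ln ha) hx).symm]
  · rw [far_line S ha hc hg' haz hzc hx hxa, C.move z x haz hzc hx hxa hxz g' hg']
    simp only [Pt.form, map_one, mul_one, zero_mul, add_zero]
    exact ⟨fun k => by rw [k, C.form.add_self], fun k => by
      rw [← C.form.neg_eq (H _ _)]; linear_combination -k⟩
  · rw [C.line_line S ha hc (g := a * (z * x)) ⟨haz, hzc, x, hx, hxa, hxz, rfl⟩ hg' hx hxa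
      (right_mem_Ln hg'.adj.right) hg'.adj.ne.symm]
    simp [Pt.form]
  · rw [C.line_line S ha hc (g := a * (z * x)) (g' := a * (z' * x')) ⟨haz, hzc, x, hx, hxa, hxz, rfl⟩
      ⟨haz', hzc', x', hx', hxa', hxz', rfl⟩ hx hxa hx' hxa']
    simp [Pt.form]

include S in
theorem spec_scale (ha : a ∈ D) (hc : Far D a c) {x : G} {X Y : Pt K ι} (h : C.Spec x X)
    (h' : C.Spec x Y) : ∃ ξ, Y = Pt.scale ξ X := by
  obtain ⟨hx, hY, hne⟩ := C.spec_isotropic S ha hc h'
  rcases h with ⟨rfl, rfl⟩ | ⟨g, hg, rfl, rfl⟩ | ⟨g, hg, rfl⟩ | ⟨z, haz, hzc, hxm, hxa, hxz, rfl⟩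
  · rcases h' with ⟨-, rfl⟩ | ⟨g', hg', hh, rfl⟩ | ⟨g', hg', rfl⟩ | ⟨z', -, -, -, hxa', -, rfl⟩
    · exact ⟨1, by simp [Pt.scale]⟩
    · exact absurd (Commute.refl _) (hh ▸ (S.qg_far ha hg' hc).2)
    · exact absurd rfl hg'.adj.ne
    · exact absurd rfl hxa'
  · have hfar := (S.qg_far ha hg hc).2
    rcases h' with ⟨hh, -⟩ | ⟨g', hg', hh, rfl⟩ | ⟨g', hg', rfl⟩ | ⟨z', haz', -, hm', -, -, rfl⟩
    · exact absurd (Commute.refl _) (hh ▸ hfar)
    · obtain rfl : g' = g := S.cj_inj_far ha hc hg' hg hh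
      exact ⟨1, by simp [Pt.scale]⟩
    · exact absurd hg'.adj.comm hfar
    · exact absurd (commute_of_mem_Ln haz' (left_mem_Ln ha) hm') hfar
  · rcases h' with ⟨hh, -⟩ | ⟨g', hg', hh, rfl⟩ | ⟨g', hg', rfl⟩ | ⟨z', haz', hzc', hm', -, hxz', rfl⟩
    · exact absurd hh hg.adj.ne.symm
    · exact absurd hg.adj.comm (hh ▸ (S.qg_far ha hg' hc).2)
    · obtain ⟨ξ, -, hξ⟩ := C.span_line _ g g' hg hg'
      exact ⟨ξ, by simp [Pt.scale, hξ]⟩
    · exact absurd (S.commute_unique haz' hc hm' (right_mem_Ln haz'.right) hg.comm hzc') hxz'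
  · rcases h' with ⟨hh, -⟩ | ⟨g', hg', hh, rfl⟩ | ⟨g', hg', rfl⟩ | ⟨z', haz', hzc', hm', -, hxz', rfl⟩
    · exact absurd hh hxa
    · exact absurd (commute_of_mem_Ln haz (left_mem_Ln ha) hxm) (hh ▸ (S.qg_far ha hg' hc).2)
    · exact absurd (S.commute_unique haz hc hxm (right_mem_Ln haz.right) hg'.comm hzc) hxz
    · have hA : Adj D a x := adj_of_mem_Ln haz (left_mem_Ln ha) hxm hxa.symm
      have e1 := S.Ln_eq haz (left_mem_Ln ha) hxm hxa.symm
      have e2 := S.Ln_eq haz' (left_mem_Ln ha) hm' hxa.symm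
      obtain rfl : z = z' := S.commute_unique hA hc (e1.symm ▸ right_mem_Ln haz.right)
        (e2.symm ▸ right_mem_Ln haz'.right) hzc hzc'
      exact ⟨1, by simp [Pt.scale]⟩

include C S in
/-- The points of the members. -/
theorem exists_points (ha : a ∈ D) (hc : Far D a c) : ∃ φ : G → Pt K ι,
    (∀ x ∈ D, Pt.form σ H (φ x) (φ x) = 0 ∧ ((φ x).e ≠ 0 ∨ (φ x).f ≠ 0 ∨ (φ x).v ≠ 0)) ∧
    (∀ X, Pt.form σ H X X = 0 → (X.e ≠ 0 ∨ X.f ≠ 0 ∨ X.v ≠ 0) →
      ∃ x ∈ D, ∃ ξ, X = Pt.scale ξ (φ x)) ∧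
    (∀ x ∈ D, ∀ y ∈ D, ∀ ξ, φ y = Pt.scale ξ (φ x) → x = y) ∧
    (∀ x ∈ D, ∀ y ∈ D, Commute x y ↔ Pt.form σ H (φ x) (φ y) = 0) := by
  classical
  let φ : G → Pt K ι := fun x => if hx : x ∈ D then (C.exists_spec S ha hc hx).choose else ⟨0, 0, 0⟩
  have hφ : ∀ x ∈ D, C.Spec x (φ x) := fun x hx => by
    simp only [φ, dif_pos hx]
    exact (C.exists_spec S ha hc hx).choose_spec
  refine ⟨φ, fun x hx => (C.spec_isotropic S ha hc (hφ x hx)).2, fun X hX hne => ?_,
    fun x hx y hy ξ e => C.spec_inj S ha hc (hφ x hx) (e ▸ hφ y hy),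
    fun x hx y hy => C.spec_commute S ha hc (hφ x hx) (hφ y hy)⟩
  obtain ⟨x, hx, Y, ξ, hY, rfl⟩ := C.exists_member S ha hc hX hne
  obtain ⟨η, rfl⟩ := C.spec_scale S ha hc (hφ x hx) hY
  exact ⟨x, hx, ξ * η, by simp [Pt.scale, mul_assoc, smul_smul]⟩

end Coord

end CfsgLib.ThreeTrans.PolarTwins
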