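import Cfsg.Agent.Lib.ThreeTrans.PolarTwins.Lines
import Cfsg.Agent.Lib.ThreeTrans.SymFive

/-!
# Translations of a line, and lines have at most five members

For a line `L` on `p`, pairs of members of another line on `p` induce a regular elementary abelian group
on `L` less `p`.  Translations at two members agree away from them, as five members in braid position
generate a symmetric group of degree five; this leaves room for five members at most.
-/

set_option autoImplicit false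
set_option linter.unusedSectionVars false

namespace CfsgLib.ThreeTrans.PolarTwins

open CfsgLib.ThreeTrans
open CfsgLib.ThreeTrans.ClassTwo (cD)

variable {G : Type*} [Group G] {D : Set G}

/-- A product of two members, other than `p`, of the line on `p` and `e`. -/
def Shift (D : Set G) (p e g : G) : Prop :=
  ∃ c c', c ∈ Ln D p e ∧ c ≠ p ∧ c' ∈ Ln D p e ∧ c' ≠ p ∧ g = c * c'

theorem Shift.commute {p e g h : G} (hpe : Adj D p e) (hg : Shift D p e g) (hh : Shift D p e h) :
    Commute g h := by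
  obtain ⟨c, c', hc, -, hc', -, rfl⟩ := hg
  obtain ⟨d, d', hd, -, hd', -, rfl⟩ := hh
  have k := fun {u v : G} (hu : u ∈ Ln D p e) (hv : v ∈ Ln D p e) => commute_of_mem_Ln hpe hu hv
  exact ((k hc hd).mul_right (k hc hd')).mul_left ((k hc' hd).mul_right (k hc' hd'))

variable [Finite G]

/-- The line `L = Ln p r` and a line `Ln p e` outside its perp. -/
structure Cross (D : Set G) (p r e : G) : Prop where
  line : Adj D p r
  mem : e ∈ D
  comm : Commute p e
  sep : ¬ Commute r e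

theorem Cross.adj {p r e : G} (X : Cross D p r e) : Adj D p e :=
  ⟨X.line.left, X.mem, X.comm, fun k => X.sep (k ▸ X.line.comm.symm)⟩

namespace Geom

variable (S : Geom D)
include S

theorem shift_sq {p e g : G} (hpe : Adj D p e) (hg : Shift D p e g) : g * g = 1 := by
  obtain ⟨c, c', hc, -, hc', -, rfl⟩ := hg
  rw [mul_assoc, ← mul_assoc c' c c', ← (commute_of_mem_Ln hpe hc hc').eq, mul_assoc c c' c',
    mul_self S.tset hc'.1, mul_one, mul_self S.tset hc.1]

theorem shift_shift {p e g : G} (hpe : Adj D p e) (hg : Shift D p e g) (v : G) :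
    cj g (cj g v) = v := by
  rw [← cj_mul_left, S.shift_sq hpe hg, cj_one_left]

theorem exists_cross {p r : G} (hpr : Adj D p r) : ∃ e, Cross D p r e := by
  obtain ⟨e, he, h1, h2⟩ := S.exists_sep hpr
  exact ⟨e, hpr, he, h1, h2⟩

theorem not_commute_of_cross {p r e c v : G} (X : Cross D p r e) (hc : c ∈ Ln D p e) (hcp : c ≠ p)
    (hv : v ∈ Ln D p r) (hvp : v ≠ p) : ¬ Commute c v := by
  intro k
  refine S.not_commute_of_sep X.line hc.1 (commute_of_mem_Ln X.adj (left_mem_Ln X.adj.left) hc)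
    (fun j => X.sep ?_) hv hvp k.symm
  exact (S.all_of_two X.adj (left_mem_Ln X.adj.left) hc hcp.symm (right_mem_Ln X.mem) X.line.right
    X.line.comm j.symm).symm

/-- The members of `Ln p e` less `p` and `c` move `v` to every other member of `Ln p r` less `p`. -/
theorem pair_surj {p r e c v w : G} (X : Cross D p r e) (hc : c ∈ Ln D p e) (hcp : c ≠ p)
    (hv : v ∈ Ln D p r) (hvp : v ≠ p) (hw : w ∈ Ln D p r) (hwp : w ≠ p) (hwv : w ≠ v) :
    ∃ c' ∈ Ln D p e, c' ≠ p ∧ c' ≠ c ∧ cj (c * c') v = w := by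
  classical
  have hs := S.tset
  set A := Ln D p e \ {p, c} with hA
  set B := Ln D p r \ {p, v} with hB
  have hMc := S.Ln_eq X.adj (left_mem_Ln X.adj.left) hc hcp.symm
  have hLv := S.Ln_eq X.line (left_mem_Ln X.line.left) hv hvp.symm
  have hpv : Adj D p v := adj_of_mem_Ln X.line (left_mem_Ln X.line.left) hv hvp.symm
  have hpc : Adj D p c := adj_of_mem_Ln X.adj (left_mem_Ln X.adj.left) hc hcp.symm
  have hmaps : Set.MapsTo (fun c' => cj (c * c') v) A B := by
    rintro c' ⟨hc', hne⟩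
    simp only [Set.mem_insert_iff, Set.mem_singleton_iff, not_or] at hne
    obtain ⟨t1, t2, t3⟩ := S.transl hpc hv.1 hpv.comm (S.not_commute_of_cross X hc hcp hv hvp)
      (hMc.symm ▸ hc') hne.1 hne.2
    rw [hLv] at t1
    exact ⟨t1, by simp [t2, t3]⟩
  have hinj : Set.InjOn (fun c' => cj (c * c') v) A := by
    rintro a ⟨ha, ha'⟩ b ⟨hb, hb'⟩ h
    simp only [Set.mem_insert_iff, Set.mem_singleton_iff, not_or] at ha' hb'
    simp only [cj_mul_left] at h
    exact cj_left_cancel hs ha.1 hb.1 hv.1 (S.not_commute_of_cross X ha ha'.1 hv hvp)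
      (S.not_commute_of_cross X hb hb'.1 hv hvp) (cj_inj c h)
  have hcard : B.ncard ≤ A.ncard := by
    rw [hA, hB, Set.ncard_sdiff (Set.insert_subset (left_mem_Ln X.line.left) (by simpa using hv)),
      Set.ncard_sdiff (Set.insert_subset (left_mem_Ln X.adj.left) (by simpa using hc)),
      Set.ncard_pair hvp.symm, Set.ncard_pair hcp.symm, S.ncard_Ln_eq X.line X.adj]
  obtain ⟨c', hc', he⟩ : w ∈ (fun c' => cj (c * c') v) '' A := by
    rw [Set.eq_of_subset_of_ncard_le (Set.image_subset_iff.2 hmaps)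
      (by rwa [Set.ncard_image_of_injOn hinj]) (Set.toFinite _)]
    exact ⟨hw, by simp [hwp, hwv]⟩
  obtain ⟨h1, h2⟩ := hc'
  simp only [Set.mem_insert_iff, Set.mem_singleton_iff, not_or] at h2
  exact ⟨c', h1, h2.1, h2.2, he⟩

theorem shift_mem {p r e g v : G} (X : Cross D p r e) (hg : Shift D p e g) (hv : v ∈ Ln D p r)
    (hvp : v ≠ p) : cj g v ∈ Ln D p r ∧ cj g v ≠ p := by
  obtain ⟨c, c', hc, hcp, hc', hc'p, rfl⟩ := hg
  by_cases h : c' = c
  · subst h
    rw [mul_self S.tset hc.1, cj_one_left]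
    exact ⟨hv, hvp⟩
  obtain ⟨t1, t2, -⟩ := S.transl (adj_of_mem_Ln X.adj (left_mem_Ln X.adj.left) hc hcp.symm) hv.1
    (adj_of_mem_Ln X.line (left_mem_Ln X.line.left) hv hvp.symm).comm
    (S.not_commute_of_cross X hc hcp hv hvp)
    (by rw [S.Ln_eq X.adj (left_mem_Ln X.adj.left) hc hcp.symm]; exact hc') hc'p h
  rw [S.Ln_eq X.line (left_mem_Ln X.line.left) hv hvp.symm] at t1
  exact ⟨t1, t2⟩

theorem exists_shift {p r e v w : G} (X : Cross D p r e) (hv : v ∈ Ln D p r) (hvp : v ≠ p)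
    (hw : w ∈ Ln D p r) (hwp : w ≠ p) : ∃ g, Shift D p e g ∧ cj g v = w := by
  have hep : e ≠ p := X.adj.ne.symm
  by_cases h : w = v
  · exact ⟨e * e, ⟨e, e, right_mem_Ln X.mem, hep, right_mem_Ln X.mem, hep, rfl⟩,
      by rw [mul_self S.tset X.mem, cj_one_left, h]⟩
  · obtain ⟨c', h1, h2, -, h4⟩ := S.pair_surj X (right_mem_Ln X.mem) hep hv hvp hw hwp h
    exact ⟨e * c', ⟨e, c', right_mem_Ln X.mem, hep, h1, h2, rfl⟩, h4⟩

/-- An element commuting with the translations and fixing one member fixes all of them. -/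
theorem fix_of_fix {p r e h v w : G} (X : Cross D p r e)
    (hcomm : ∀ g, Shift D p e g → Commute h g) (hv : v ∈ Ln D p r) (hvp : v ≠ p) (hfix : cj h v = v)
    (hw : w ∈ Ln D p r) (hwp : w ≠ p) : cj h w = w := by
  obtain ⟨t, ht, rfl⟩ := S.exists_shift X hv hvp hw hwp
  rw [← cj_mul_left, (hcomm t ht).eq, cj_mul_left, hfix]

/-- A translation is determined by the image of one member. -/
theorem shift_eq {p r e g h v w : G} (X : Cross D p r e) (hg : Shift D p e g) (hh : Shift D p e h)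
    (hv : v ∈ Ln D p r) (hvp : v ≠ p) (heq : cj g v = cj h v) (hw : w ∈ Ln D p r) (hwp : w ≠ p) :
    cj g w = cj h w := by
  have h1 := S.fix_of_fix X (h := g * h)
    (fun t ht => ((hg.commute X.adj ht).mul_left (hh.commute X.adj ht))) hv hvp
    (by rw [cj_mul_left, ← heq, S.shift_shift X.adj hg]) hw hwp
  rw [cj_mul_left] at h1
  have := congrArg (cj g) h1
  rw [S.shift_shift X.adj hg] at this
  exact this.symm

/-- A translation agreeing with a product of two on one member agrees with it everywhere. -/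
theorem shift_eq_mul {p r e g h k v w : G} (X : Cross D p r e) (hg : Shift D p e g)
    (hh : Shift D p e h) (hk : Shift D p e k) (hv : v ∈ Ln D p r) (hvp : v ≠ p)
    (heq : cj g v = cj h (cj k v)) (hw : w ∈ Ln D p r) (hwp : w ≠ p) :
    cj g w = cj h (cj k w) := by
  have h1 := S.fix_of_fix X (h := g * (h * k))
    (fun t ht => (hg.commute X.adj ht).mul_left ((hh.commute X.adj ht).mul_left (hk.commute X.adj ht)))
    hv hvp (by rw [cj_mul_left, cj_mul_left, ← heq, S.shift_shift X.adj hg]) hw hwp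
  rw [cj_mul_left, cj_mul_left] at h1
  have := congrArg (cj g) h1
  rw [S.shift_shift X.adj hg] at this
  exact this.symm

theorem shift_free {p r e g v w : G} (X : Cross D p r e) (hg : Shift D p e g) (hv : v ∈ Ln D p r)
    (hvp : v ≠ p) (hfix : cj g v = v) (hw : w ∈ Ln D p r) (hwp : w ≠ p) : cj g w = w :=
  S.fix_of_fix X (fun _ ht => hg.commute X.adj ht) hv hvp hfix hw hwp

/-- Translations at two members of a line agree off them. -/
theorem law {p r eM eN g h u v : G} (X : Cross D p r eM) (Y : Cross D r p eN)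
    (hg : Shift D p eM g) (hh : Shift D r eN h) (hu : u ∈ Ln D p r) (hup : u ≠ p) (hur : u ≠ r)
    (hgr : cj g r = u) (hhp : cj h p = u) (hv : v ∈ Ln D p r) (hvp : v ≠ p) (hvr : v ≠ r)
    (hvu : v ≠ u) : cj g v = cj h v := by
  have hs := S.tset
  have hrL : r ∈ Ln D p r := right_mem_Ln X.line.right
  have hL : Ln D r p = Ln D p r := Ln_comm r p
  have hu' : u ∈ Ln D r p := hL ▸ hu
  have hv' : v ∈ Ln D r p := hL ▸ hv
  have hp' : p ∈ Ln D r p := right_mem_Ln Y.line.right
  have hMp : eM ≠ p := X.adj.ne.symm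
  obtain ⟨z, hz, hzc⟩ := S.exists_commute_mem Y.adj X.mem
  have hzr : z ≠ r := fun k => X.sep (k ▸ hzc)
  have hcM : eM ∈ Ln D p eM := right_mem_Ln X.mem
  obtain ⟨z', hz', hz'r, hz'z, hσp⟩ := S.pair_surj Y hz hzr hp' Y.line.ne.symm hu' hur hup
  obtain ⟨c', hc', hc'p, hc'c, hτu⟩ := S.pair_surj X hcM hMp hu hup hv hvp hvu
  set σ := z * z' with hσdef
  set τ := eM * c' with hτdef
  have hσ : Shift D r eN σ := ⟨z, z', hz, hzr, hz', hz'r, rfl⟩
  have hτ : Shift D p eM τ := ⟨eM, c', hcM, hMp, hc', hc'p, rfl⟩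
  have hnc'z : ¬ Commute c' z := fun k => S.not_commute_of_cross Y hz hzr hp' Y.line.ne.symm
    (S.all_of_two X.adj hc' hcM hc'c (left_mem_Ln X.line.left) hz.1 k hzc.symm).symm
  have hncz' : ¬ Commute eM z' := fun k => S.not_commute_of_cross X hcM hMp hrL X.line.ne.symm
    (S.all_of_two Y.adj hz' hz hz'z (left_mem_Ln Y.line.left) X.mem k.symm hzc).symm
  have hcc' : Commute eM c' := commute_of_mem_Ln X.adj hcM hc'
  have hzz' : Commute z z' := commute_of_mem_Ln Y.adj hz hz'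
  have hτ2 : ∀ x, cj τ (cj τ x) = x := S.shift_shift X.adj hτ
  have hσ2 : ∀ x, cj σ (cj σ x) = x := S.shift_shift Y.adj hσ
  have hττu : cj τ v = u := by rw [← hτu, hτ2]
  have hσu : cj σ u = p := by rw [← hσp, hσ2]
  have hσfix : ∀ x ∈ Ln D r p, x ≠ r → cj σ x ≠ x := fun x hx hxr k => hup (by
    rw [← hσp]; exact S.shift_free Y hσ hx hxr k hp' Y.line.ne.symm)
  have hfp : cj (τ * σ) p = v := by rw [cj_mul_left, hσp, hτu]
  have hgp : cj (σ * τ) v = p := by rw [cj_mul_left, hττu, hσu]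
  have hτp : cj τ p = p := cj_eq_self.2 ((commute_of_mem_Ln X.adj hcM (left_mem_Ln X.line.left)).mul_left
    (commute_of_mem_Ln X.adj hc' (left_mem_Ln X.line.left)))
  have hστp : cj (σ * τ) p = u := by rw [cj_mul_left, hτp, hσp]
  have hinv : (τ * σ) * (σ * τ) = 1 := by
    rw [mul_assoc, ← mul_assoc σ σ τ, S.shift_sq Y.adj hσ, one_mul, S.shift_sq X.adj hτ]
  have hgv : cj g v = cj τ r := by
    rw [← hτu, ← cj_mul_left, (hg.commute X.adj hτ).eq, cj_mul_left, ← hgr, S.shift_shift X.adj hg]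
  have hhv : cj h v = cj σ v :=
    S.shift_eq Y hh hσ hp' Y.line.ne.symm (hhp.trans hσp.symm) hv' hvr
  rw [hgv, hhv]
  by_cases hcz : Commute c' z'
  · exfalso
    have h3 : (τ * σ) ^ 3 = 1 := by
      have e1 : τ * σ = (eM * z') * (c' * z) := by
        rw [hτdef, hσdef]
        calc eM * c' * (z * z') = eM * (c' * (z' * z)) := by rw [hzz'.eq]; simp [mul_assoc]
          _ = eM * ((c' * z') * z) := by simp [mul_assoc]
          _ = eM * z' * (c' * z) := by rw [hcz.eq]; simp [mul_assoc]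
      have hc1 : Commute (eM * z') (c' * z) :=
        (hcc'.mul_left hcz.symm).mul_right (hzc.symm.mul_left hzz'.symm)
      rw [e1, hc1.mul_pow, pow_three_of_not_commute hs X.mem hz'.1 hncz',
        pow_three_of_not_commute hs hc'.1 hz.1 hnc'z, one_mul]
    have h2 : (τ * σ) * (τ * σ) = σ * τ := by
      refine mul_right_cancel (b := τ * σ) ?_
      rw [show (τ * σ) * (τ * σ) * (τ * σ) = (τ * σ) ^ 3 by simp [pow_succ, mul_assoc], h3]
      rw [mul_assoc, ← mul_assoc τ τ σ, S.shift_sq X.adj hτ, one_mul, S.shift_sq Y.adj hσ]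
    have h5 : cj (τ * σ) v = u := by
      rw [← hfp, ← cj_mul_left, h2, hστp]
    rw [cj_mul_left] at h5
    have h6 : cj σ v = v := by
      have := congrArg (cj τ) h5
      rwa [hτ2, hτu] at this
    exact hσfix v hv' hvr h6
  · obtain ⟨φ, hφ⟩ := SymFive.exists_hom (a := eM) (b := z') (c := c') (f := z)
      (mul_self hs X.mem) (mul_self hs hz'.1) (mul_self hs hc'.1) (mul_self hs hz.1)
      (braid hs X.mem hz'.1 hncz') (braid hs hz'.1 hc'.1 fun k => hcz k.symm)
      (braid hs hc'.1 hz.1 hnc'z) hcc' hzc.symm hzz'.symm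
    have e0 : φ (SymFive.genFive 0) = eM := hφ 0
    have e1 : φ (SymFive.genFive 1) = z' := hφ 1
    have e2 : φ (SymFive.genFive 2) = c' := hφ 2
    have e3 : φ (SymFive.genFive 3) = z := hφ 3
    have h5 : (τ * σ) ^ 5 = 1 := by
      rw [hτdef, hσdef, ← e0, ← e1, ← e2, ← e3, ← map_mul, ← map_mul, ← map_mul, ← map_pow,
        show (SymFive.genFive 0 * SymFive.genFive 2 * (SymFive.genFive 3 * SymFive.genFive 1)) ^ 5 = 1
          by decide +kernel, map_one]
    have h32 : (τ * σ) ^ 3 = (σ * τ) * (σ * τ) := by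
      have h1 : (σ * τ) = (τ * σ)⁻¹ := eq_inv_of_mul_eq_one_right hinv
      rw [h1, ← mul_inv_rev, eq_inv_iff_mul_eq_one, ← pow_two, ← pow_add]
      exact h5
    have h6 : cj τ (cj σ (cj τ (cj σ v))) = cj σ v := by
      have : cj ((τ * σ) ^ 3) p = cj ((σ * τ) * (σ * τ)) p := by rw [h32]
      rw [pow_succ, pow_two, cj_mul_left, hfp, cj_mul_left (σ * τ) (σ * τ), hστp] at this
      simp only [cj_mul_left, hτu] at this
      exact this
    set w := cj τ (cj σ v) with hw
    have hfw : cj σ w = w := by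
      have := congrArg (cj τ) h6
      rw [hτ2] at this
      exact this
    obtain ⟨m1, m2⟩ := S.shift_mem Y hσ hv' hvr
    have m3 : cj σ v ≠ p := fun k => hvu (by
      have := congrArg (cj σ) k; rw [hσ2, hσp] at this; exact this)
    obtain ⟨m4, -⟩ := S.shift_mem X hτ (hL ▸ m1) m3
    have hwr : w = r := by_contra fun k => hσfix w (hL.symm ▸ m4) k hfw
    rw [← hwr, hw, hτ2]

/-- A line has at most five members. -/
theorem ncard_Ln_le {x y : G} (hxy : Adj D x y) : (Ln D x y).ncard ≤ 5 := by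
  classical
  by_contra! hbig
  obtain ⟨i, hi, hix, hiy⟩ := S.third x y hxy
  have hxL : x ∈ Ln D x y := left_mem_Ln hxy.left
  have hyL : y ∈ Ln D x y := right_mem_Ln hxy.right
  have hnex : ∀ k : Finset G, k.card ≤ 5 → ∃ v ∈ Ln D x y, v ∉ k := by
    intro k hk
    by_contra! hno
    have := Set.ncard_le_ncard (s := Ln D x y) (t := (k : Set G)) hno (Finset.finite_toSet k)
    rw [Set.ncard_coe_finset] at this
    omega
  -- the three lines
  obtain ⟨eP, XP⟩ := S.exists_cross hxy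
  obtain ⟨eO, XO⟩ := S.exists_cross hxy.symm
  have hix' : Adj D i x := adj_of_mem_Ln hxy hi hxL hix
  obtain ⟨eI, XI⟩ := S.exists_cross hix'
  have hLyx : Ln D y x = Ln D x y := Ln_comm y x
  have hLix : Ln D i x = Ln D x y := S.Ln_eq hxy hi hxL hix
  have hLiy : Ln D i y = Ln D x y := S.Ln_eq hxy hi hyL hiy
  have hLxi : Ln D x i = Ln D x y := S.Ln_eq hxy hxL hi hix.symm
  have hLyi : Ln D y i = Ln D x y := S.Ln_eq hxy hyL hi hiy.symm
  have XI' : Cross D i y eI := ⟨adj_of_mem_Ln hxy hi hyL hiy, XI.mem, XI.comm,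
    S.not_commute_of_sep hix' XI.mem XI.comm XI.sep (hLix.symm ▸ hyL) hiy.symm⟩
  have XP' : Cross D x i eP := ⟨hix'.symm, XP.mem, XP.comm,
    S.not_commute_of_sep hxy XP.mem XP.comm XP.sep hi hix⟩
  have XO' : Cross D y i eO := ⟨adj_of_mem_Ln hxy hyL hi hiy.symm, XO.mem, XO.comm,
    S.not_commute_of_sep hxy.symm XO.mem XO.comm XO.sep (hLyx.symm ▸ hi) hiy⟩
  obtain ⟨w, hw, hw'⟩ := hnex {x, y, i} (Finset.card_le_three.trans (by norm_num))
  simp only [Finset.mem_insert, Finset.mem_singleton, not_or] at hw'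
  obtain ⟨hwx, hwy, hwi⟩ := hw'
  obtain ⟨a, ha, hay⟩ := S.exists_shift XP hyL hxy.ne.symm hi hix
  obtain ⟨b, hb, hby⟩ := S.exists_shift XP hyL hxy.ne.symm hw hwx
  obtain ⟨v, hv, hv'⟩ := hnex {x, y, i, w, cj a w} (Finset.card_le_five)
  simp only [Finset.mem_insert, Finset.mem_singleton, not_or] at hv'
  obtain ⟨hvx, hvy, hvi, hvw, hvaw⟩ := hv'
  have hab : ∀ z, cj a (cj b z) = cj b (cj a z) := fun z => by
    rw [← cj_mul_left, ← cj_mul_left, (ha.commute XP.adj hb).eq]
  obtain ⟨hbv, hbvx⟩ := S.shift_mem XP hb hv hvx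
  have hbvy : cj b v ≠ y := fun k => hvw (by
    have := congrArg (cj b) k; rw [S.shift_shift XP.adj hb, hby] at this; exact this)
  have hbvi : cj b v ≠ i := fun k => hvaw (by
    have := congrArg (cj b) k
    rw [S.shift_shift XP.adj hb] at this
    rw [this, ← hay, ← hab, hby])
  -- the translation at `i` moving `y` to `w`
  obtain ⟨gI, hgI, hgIy⟩ := S.exists_shift XI' (hLiy.symm ▸ hyL) hiy.symm (hLiy.symm ▸ hw) hwi
  -- first evaluation, through `y`
  obtain ⟨hO, hhO, hhOi⟩ := S.exists_shift XO' (hLyi.symm ▸ hi) hiy (hLyi.symm ▸ hw) hwy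
  obtain ⟨h1, hh1, h1x⟩ := S.exists_shift XO (hLyx.symm ▸ hxL) hxy.ne (hLyx.symm ▸ hw) hwy
  obtain ⟨h2, hh2, h2x⟩ := S.exists_shift XO (hLyx.symm ▸ hxL) hxy.ne (hLyx.symm ▸ hi) hiy
  have v1 : cj gI v = cj hO v := S.law XI' XO' hgI hhO (hLiy.symm ▸ hw) hwi hwy hgIy hhOi
    (hLiy.symm ▸ hv) hvi hvy hvw
  have v2 : cj hO v = cj h2 (cj h1 v) := by
    refine S.shift_eq_mul XO hhO hh2 hh1 (hLyx.symm ▸ hi) hiy ?_ (hLyx.symm ▸ hv) hvy
    have e : cj h2 (cj h1 i) = cj h1 (cj h2 i) := by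
      rw [← cj_mul_left, ← cj_mul_left, (hh2.commute XO.adj hh1).eq]
    have : cj h2 i = x := by rw [← h2x, S.shift_shift XO.adj hh2]
    rw [e, this, h1x, hhOi]
  have v3 : cj h1 v = cj b v := (S.law XP XO hb hh1 hw hwx hwy hby h1x hv hvx hvy hvw).symm
  have v4 : cj h2 (cj b v) = cj a (cj b v) :=
    (S.law XP XO ha hh2 hi hix hiy hay h2x hbv hbvx hbvy hbvi).symm
  -- second evaluation, through `x`
  obtain ⟨g1, hg1, g1x⟩ := S.exists_shift XI (hLix.symm ▸ hxL) hix.symm (hLix.symm ▸ hyL) hiy.symm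
  obtain ⟨g2, hg2, g2x⟩ := S.exists_shift XI (hLix.symm ▸ hxL) hix.symm (hLix.symm ▸ hw) hwi
  obtain ⟨k, hk, hki⟩ := S.exists_shift XP' (hLxi.symm ▸ hi) hix (hLxi.symm ▸ hw) hwx
  have v5 : cj gI v = cj g1 (cj g2 v) := by
    refine S.shift_eq_mul XI' hgI hg1 hg2 (hLiy.symm ▸ hyL) hiy.symm ?_ (hLiy.symm ▸ hv) hvi
    have e : cj g1 (cj g2 y) = cj g2 (cj g1 y) := by
      rw [← cj_mul_left, ← cj_mul_left, (hg1.commute XI.adj hg2).eq]
    have : cj g1 y = x := by rw [← g1x, S.shift_shift XI.adj hg1]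
    rw [e, this, g2x, hgIy]
  have hka : cj k v = cj a (cj b v) := by
    refine S.shift_eq_mul XP hk ha hb hi hix ?_ hv hvx
    rw [hab, ← hay, S.shift_shift XP.adj ha, hby, hay, hki]
  have v6 : cj g2 v = cj k v :=
    S.law XI XP' hg2 hk (hLix.symm ▸ hw) hwi hwx g2x hki (hLix.symm ▸ hv) hvi hvx hvw
  obtain ⟨hz, hzx⟩ := S.shift_mem XP ha hbv hbvx
  have hzy : cj a (cj b v) ≠ y := fun k => hbvi (by
    have := congrArg (cj a) k; rw [S.shift_shift XP.adj ha, hay] at this; exact this)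
  have hzi : cj a (cj b v) ≠ i := fun k => hbvy (by
    have := congrArg (cj a) k
    rw [S.shift_shift XP.adj ha] at this
    rw [this, ← hay, S.shift_shift XP.adj ha])
  have hai : cj a i = y := by rw [← hay, S.shift_shift XP.adj ha]
  have v7 : cj g1 (cj a (cj b v)) = cj a (cj a (cj b v)) :=
    S.law XI XP' hg1 ha (hLix.symm ▸ hyL) hiy.symm hxy.ne.symm g1x hai (hLix.symm ▸ hz) hzi hzx hzy
  rw [S.shift_shift XP.adj ha] at v7
  rw [v2, v3, v4] at v1
  rw [v6, hka, v7, v1] at v5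
  exact hiy (by
    rw [← hay]
    exact S.shift_free XP ha hbv hbvx v5 hyL hxy.ne.symm)

end Geom

end CfsgLib.ThreeTrans.PolarTwins
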