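import Cfsg.Agent.Lib.ThreeTrans.PolarTwins.Radical

/-!
# Preferred lifts

Fix `a` and a member `c` far from it.  Every involution of `QG D a` other than `a` has, up to the factor
`a`, the form `a * (z * y)` with `z`, `y` on a line through `a` and `z` commuting with `c`; these are
exactly the elements moving `c` to another member commuting with it.
-/

set_option autoImplicit false
set_option linter.unusedSectionVars false

namespace CfsgLib.ThreeTrans.PolarTwins

open CfsgLib.ThreeTrans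

variable {G : Type*} [Group G] {D : Set G} {a c : G}

/-- The preferred lift of a translation of the line on `a` and `z`. -/
def PlusAt (D : Set G) (a c z g : G) : Prop :=
  Adj D a z ∧ Commute z c ∧ ∃ y ∈ Ln D a z, y ≠ a ∧ y ≠ z ∧ g = a * (z * y)

/-- A preferred lift. -/
def Plus (D : Set G) (a c g : G) : Prop := ∃ z, PlusAt D a c z g

theorem PlusAt.adj {z g : G} (h : PlusAt D a c z g) : Adj D a z := h.1

theorem PlusAt.comm {z g : G} (h : PlusAt D a c z g) : Commute z c := h.2.1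

theorem PlusAt.plus {z g : G} (h : PlusAt D a c z g) : Plus D a c g := ⟨z, h⟩

theorem PlusAt.wd {z g : G} (h : PlusAt D a c z g) : Wd D a z g := by
  obtain ⟨haz, -, y, hy, hya, -, rfl⟩ := h
  exact ⟨_, ⟨z, y, right_mem_Ln haz.right, haz.ne.symm, hy, hya, rfl⟩, Or.inr rfl⟩

theorem PlusAt.mem {z g : G} (h : PlusAt D a c z g) : g ∈ QG D a := h.wd.mem h.adj

theorem Plus.mem {g : G} (h : Plus D a c g) : g ∈ QG D a := by
  obtain ⟨z, hz⟩ := h
  exact hz.mem

variable [Finite G]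

namespace Geom

variable (S : Geom D)
include S

theorem plus_sq {g : G} (h : Plus D a c g) : g * g = 1 := by
  obtain ⟨z, hz⟩ := h
  exact Wd.mul_self_eq S hz.adj hz.wd

theorem plus_cj_far {z y : G} (ha : a ∈ D) (haz : Adj D a z) (hzc : Commute z c)
    (hy : y ∈ Ln D a z) : cj (a * (z * y)) c = cj (a * y) c := by
  rw [(commute_of_mem_Ln haz (right_mem_Ln haz.right) hy).eq, cj_mul_left, cj_mul_left,
    cj_eq_self.2 hzc, ← cj_mul_left]

theorem plus_commute (ha : a ∈ D) (hc : Far D a c) {g : G} (h : Plus D a c g) :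
    Commute c (cj g c) := by
  obtain ⟨z, haz, hzc, y, hy, hya, hyz, rfl⟩ := h
  rw [S.plus_cj_far ha haz hzc hy]
  exact commute_cj_pair S.tset ha hy.1 hc.1 hc.2
    (fun k => hyz (S.commute_unique haz hc hy (right_mem_Ln haz.right) k hzc))
    (commute_of_mem_Ln haz (left_mem_Ln ha) hy)

theorem not_commute_cj (ha : a ∈ D) (hc : Far D a c) {x : G} (hx : x ∈ D) (hxc : ¬ Commute x c) :
    ¬ Commute c (cj x c) := by
  intro k
  rw [cj_braid S.tset hx hc.1 hxc] at k
  conv at k => arg 1; rw [← cj_eq_self.2 (Commute.refl c)]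
  exact hxc ((cj_commute_iff c c x).1 k).symm

theorem not_plus_mul_a (ha : a ∈ D) (hc : Far D a c) {g : G} (h : Plus D a c g) :
    ¬ Commute c (cj (a * g) c) := by
  obtain ⟨z, haz, hzc, y, hy, -, hyz, rfl⟩ := h
  rw [← mul_assoc, S.sq_self ha, one_mul, (commute_of_mem_Ln haz (right_mem_Ln haz.right) hy).eq,
    cj_mul_left, cj_eq_self.2 hzc]
  exact S.not_commute_cj ha hc hy.1
    fun k => hyz (S.commute_unique haz hc hy (right_mem_Ln haz.right) k hzc)

theorem plus_not_zc (ha : a ∈ D) (hc : Far D a c) {g : G} (h : Plus D a c g) : ¬ Zc a g := by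
  rintro (rfl | rfl)
  · refine S.not_plus_mul_a ha hc h ?_ |>.elim
    exfalso
    obtain ⟨z, haz, hzc, y, hy, hya, hyz, h1⟩ := h
    have := S.plus_cj_far ha haz hzc hy
    rw [← h1, cj_one_left, cj_mul_left] at this
    have h2 : cj a c = cj y c := by
      conv_lhs => rw [this, cj_invol S.tset ha]
    exact hya (cj_left_cancel S.tset hy.1 ha hc.1
      (fun k => hyz (S.commute_unique haz hc hy (right_mem_Ln haz.right) k hzc)) hc.2 h2.symm)
  · exact S.not_commute_cj ha hc ha hc.2 (S.plus_commute ha hc h)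

/-- The product of the four members of a line other than `a`. -/
theorem prod_four {e y₁ y₂ y₃ y₄ : G} (hae : Adj D a e) (h₁ : y₁ ∈ Ln D a e) (h₂ : y₂ ∈ Ln D a e)
    (h₃ : y₃ ∈ Ln D a e) (h₄ : y₄ ∈ Ln D a e) (n₁ : y₁ ≠ a) (n₂ : y₂ ≠ a) (n₃ : y₃ ≠ a) (n₄ : y₄ ≠ a)
    (h12 : y₁ ≠ y₂) (h13 : y₁ ≠ y₃) (h14 : y₁ ≠ y₄) (h23 : y₂ ≠ y₃) (h24 : y₂ ≠ y₄) (h34 : y₃ ≠ y₄) :
    y₁ * y₂ * (y₃ * y₄) = a := by
  classical
  have hs := S.tset
  have key : ∀ {a e y₁ y₂ y₃ y₄ : G}, Adj D a e → y₁ ∈ Ln D a e → y₂ ∈ Ln D a e → y₃ ∈ Ln D a e →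
      y₄ ∈ Ln D a e → y₁ ≠ a → y₂ ≠ a → y₃ ≠ a → y₄ ≠ a → y₁ ≠ y₂ → y₁ ≠ y₃ → y₁ ≠ y₄ → y₂ ≠ y₃ →
      y₂ ≠ y₄ → y₃ ≠ y₄ → Zc a (y₁ * y₂ * (y₃ * y₄)) := by
    intro a e y₁ y₂ y₃ y₄ hae h₁ h₂ h₃ h₄ n₁ n₂ n₃ n₄ h12 h13 h14 h23 h24 h34
    have ha := hae.left
    have cc := fun {u v : G} (hu : u ∈ Ln D a e) (hv : v ∈ Ln D a e) => commute_of_mem_Ln hae hu hv
    have ht : Shift D a e (y₁ * y₂) := ⟨_, _, h₁, n₁, h₂, n₂, rfl⟩
    have ht' : Shift D a e (y₃ * y₄) := ⟨_, _, h₃, n₃, h₄, n₄, rfl⟩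
    refine S.zc_of_fix ha ?_ fun x hx hax => ?_
    · rw [(ht'.commute hae ht).mul_mul_mul_comm, S.shift_sq hae ht, S.shift_sq hae ht', one_mul]
    by_cases hxe : Commute e x
    · exact ((h₁.2 x hx hax hxe).mul_left (h₂.2 x hx hax hxe)).mul_left
        ((h₃.2 x hx hax hxe).mul_left (h₄.2 x hx hax hxe))
    have hA : Adj D a x := ⟨ha, hx, hax, fun k => hxe (k ▸ hae.comm.symm)⟩
    have X : Cross D a x e := ⟨hA, hae.right, hae.comm, fun k => hxe k.symm⟩
    have hxL : x ∈ Ln D a x := right_mem_Ln hx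
    have hxa : x ≠ a := hA.ne.symm
    have hn := fun {y} (hy : y ∈ Ln D a e) (hya : y ≠ a) => S.not_commute_of_cross X hy hya hxL hxa
    -- the images of `x` under `y₁ * y`
    have mv : ∀ {y}, y ∈ Ln D a e → y ≠ a → y ≠ y₁ →
        cj (y₁ * y) x ∈ Ln D a x ∧ cj (y₁ * y) x ≠ a ∧ cj (y₁ * y) x ≠ x := by
      intro y hy hya hy1
      exact S.transl (adj_of_mem_Ln hae (left_mem_Ln ha) h₁ n₁.symm) hx hax (hn h₁ n₁)
        (by rw [S.Ln_eq hae (left_mem_Ln ha) h₁ n₁.symm]; exact hy) hya hy1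
    have inj : ∀ {y y'}, y ∈ Ln D a e → y ≠ a → y' ∈ Ln D a e → y' ≠ a →
        cj (y₁ * y) x = cj (y₁ * y') x → y = y' := by
      intro y y' hy hya hy' hya' h
      simp only [cj_mul_left] at h
      exact cj_left_cancel hs hy.1 hy'.1 hx (hn hy hya) (hn hy' hya') (cj_inj _ h)
    obtain ⟨a2, b2, c2⟩ := mv h₂ n₂ h12.symm
    obtain ⟨a3, b3, c3⟩ := mv h₃ n₃ h13.symm
    obtain ⟨a4, b4, c4⟩ := mv h₄ n₄ h14.symm
    have d23 := fun h => h23 (inj h₂ n₂ h₃ n₃ h)
    have d24 := fun h => h24 (inj h₂ n₂ h₄ n₄ h)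
    have d34 := fun h => h34 (inj h₃ n₃ h₄ n₄ h)
    have hall : Ln D a x =
        ↑({a, x, cj (y₁ * y₂) x, cj (y₁ * y₃) x, cj (y₁ * y₄) x} : Finset G) := by
      refine (Set.eq_of_subset_of_ncard_le ?_ ?_ (Set.toFinite _)).symm
      · simp [Set.insert_subset_iff, left_mem_Ln ha, hxL, a2, a3, a4]
      · rw [Set.ncard_coe_finset, Finset.card_insert_of_notMem, Finset.card_insert_of_notMem,
          Finset.card_insert_of_notMem, Finset.card_insert_of_notMem, Finset.card_singleton]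
        · exact S.ncard_Ln_le hA
        · simpa using d34
        · simp only [Finset.mem_insert, Finset.mem_singleton, not_or]
          exact ⟨d23, d24⟩
        · simp [c2.symm, c3.symm, c4.symm]
        · simp [hA.ne, b2.symm, b3.symm, b4.symm]
    obtain ⟨m1, m2, m3⟩ := S.transl (adj_of_mem_Ln hae (left_mem_Ln ha) h₃ n₃.symm) hx hax (hn h₃ n₃)
      (by rw [S.Ln_eq hae (left_mem_Ln ha) h₃ n₃.symm]; exact h₄) n₄ h34.symm
    rw [hall] at m1
    simp only [Finset.coe_insert, Finset.coe_singleton, Set.mem_insert_iff,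
      Set.mem_singleton_iff] at m1
    rw [← cj_eq_self, cj_mul_left]
    rcases m1 with k | k | k | k | k
    · exact absurd k m2
    · exact absurd k m3
    · rw [k, S.shift_shift hae ht]
    · exfalso
      rw [(cc h₁ h₃).eq, cj_mul_left, cj_mul_left] at k
      exact h14 (cj_left_cancel hs h₄.1 h₁.1 hx (hn h₄ n₄) (hn h₁ n₁) (cj_inj _ k)).symm
    · exfalso
      rw [(cc h₁ h₄).eq, (cc h₃ h₄).eq, cj_mul_left, cj_mul_left] at k
      exact h13 (cj_left_cancel hs h₃.1 h₁.1 hx (hn h₃ n₃) (hn h₁ n₁) (cj_inj _ k)).symm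
  refine (key hae h₁ h₂ h₃ h₄ n₁ n₂ n₃ n₄ h12 h13 h14 h23 h24 h34).resolve_left fun h1 => ?_
  have hA : Adj D y₁ a := adj_of_mem_Ln hae h₁ (left_mem_Ln hae.left) n₁
  have hL : Ln D y₁ a = Ln D a e := S.Ln_eq hae h₁ (left_mem_Ln hae.left) n₁
  have h := key hA (y₁ := a) (y₂ := y₂) (y₃ := y₃) (y₄ := y₄) (hL.symm ▸ left_mem_Ln hae.left)
    (hL.symm ▸ h₂) (hL.symm ▸ h₃) (hL.symm ▸ h₄) n₁.symm h12.symm h13.symm h14.symm n₂.symm n₃.symm
    n₄.symm h23 h24 h34
  have e1 : y₂ * (y₃ * y₄) = y₁ := by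
    calc y₂ * (y₃ * y₄) = y₁ * (y₁ * y₂ * (y₃ * y₄)) := by
          simp only [← mul_assoc]; rw [S.sq_self h₁.1, one_mul]
      _ = y₁ := by rw [h1, mul_one]
  rw [mul_assoc a, e1] at h
  rcases h with h | h
  · exact n₁ (inv_eq_of_mul_eq_one_right h ▸ inv_eq S.tset hae.left)
  · exact S.ne_one hae.left (mul_eq_right.1 h)

/-- Translations of a line are `1`, `a` or of the preferred form up to the factor `a`. -/
theorem wd_form (ha : a ∈ D) {z g : G} (haz : Adj D a z) (hzc : Commute z c) (hg : Wd D a z g)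
    (hnz : ¬ Zc a g) : PlusAt D a c z g ∨ PlusAt D a c z (a * g) := by
  classical
  obtain ⟨_, ⟨p, p', hp, hpa, hp', hp'a, rfl⟩, hgs⟩ := hg
  suffices ∃ y ∈ Ln D a z, y ≠ a ∧ y ≠ z ∧ (p * p' = z * y ∨ p * p' = a * (z * y)) by
    obtain ⟨y, hy, hya, hyz, h | h⟩ := this <;> rcases hgs with rfl | rfl
    · exact Or.inr ⟨haz, hzc, y, hy, hya, hyz, by rw [h]⟩
    · exact Or.inl ⟨haz, hzc, y, hy, hya, hyz, by rw [h]⟩
    · exact Or.inl ⟨haz, hzc, y, hy, hya, hyz, h⟩
    · exact Or.inr ⟨haz, hzc, y, hy, hya, hyz, by rw [h, ← mul_assoc a a (a * (z * y)),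
        S.sq_self ha, one_mul]⟩
  have hne : p ≠ p' := by
    rintro rfl
    rw [S.sq_self hp.1, mul_one] at hgs
    exact hnz hgs
  have hzL : z ∈ Ln D a z := right_mem_Ln haz.right
  by_cases h1 : p = z
  · subst h1
    exact ⟨p', hp', hp'a, hne.symm, Or.inl rfl⟩
  by_cases h2 : p' = z
  · subst h2
    exact ⟨p, hp, hpa, hne, Or.inl (commute_of_mem_Ln haz hp hp').eq⟩
  obtain ⟨w, ⟨hw, hwa⟩, hw'⟩ : ∃ w ∈ Ln D a z \ {a}, w ∉ ({z, p, p'} : Set G) := by
    by_contra! hno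
    have he := S.even_ncard_diff haz
    have heq : Ln D a z \ {a} = {z, p, p'} := by
      refine Set.Subset.antisymm (fun w hw => hno w hw) ?_
      rintro w (rfl | rfl | rfl)
      exacts [⟨hzL, haz.ne.symm⟩, ⟨hp, hpa⟩, ⟨hp', hp'a⟩]
    rw [heq, Set.ncard_insert_of_notMem (by simp [Ne.symm h1, Ne.symm h2]), Set.ncard_pair hne] at he
    exact absurd he (by decide)
  simp only [Set.mem_insert_iff, Set.mem_singleton_iff, not_or] at hw'
  obtain ⟨hwz, hwp, hwp'⟩ := hw'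
  refine ⟨w, hw, hwa, hwz, Or.inr ?_⟩
  have hk := S.prod_four haz hzL hw hp hp' haz.ne.symm hwa hpa hp'a (Ne.symm hwz) (Ne.symm h1) (Ne.symm h2)
    hwp hwp' hne
  have ht : Shift D a z (z * w) := ⟨z, w, hzL, haz.ne.symm, hw, hwa, rfl⟩
  calc p * p' = z * w * (z * w * (p * p')) := by rw [← mul_assoc, S.shift_sq haz ht, one_mul]
    _ = a * (z * w) := by
      rw [hk, ((commute_of_mem_Ln haz (left_mem_Ln ha) hzL).mul_right
        (commute_of_mem_Ln haz (left_mem_Ln ha) hw)).eq]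

/-- Elements moving `c` to a member commuting with it are preferred lifts. -/
theorem plus_of_commute (ha : a ∈ D) (hc : Far D a c) {g : G} (hg : g ∈ QG D a) (hne : g ≠ 1)
    (hcg : Commute c (cj g c)) : Plus D a c g := by
  have hnz : ¬ Zc a g := by
    rintro (rfl | rfl)
    exacts [hne rfl, S.not_commute_cj ha hc ha hc.2 hcg]
  obtain ⟨z, h, haz, hzc, -, hh, hhd⟩ := S.exists_move_comm ha hc (S.qg_far ha hg hc) hcg
    fun k => hne (S.regular ha hc hg k.symm)
  obtain rfl : h = g := S.cj_inj_far ha hc (hh.mem haz) hg hhd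
  rcases S.wd_form ha haz hzc hh hnz with k | k
  · exact k.plus
  · refine absurd hcg ?_
    have := S.not_plus_mul_a ha hc k.plus
    rwa [← mul_assoc, S.sq_self ha, one_mul] at this

theorem plus_iff (ha : a ∈ D) (hc : Far D a c) {g : G} (hg : g ∈ QG D a) :
    Plus D a c g ↔ g ≠ 1 ∧ Commute c (cj g c) :=
  ⟨fun h => ⟨fun k => S.plus_not_zc ha hc h (Or.inl k), S.plus_commute ha hc h⟩,
    fun h => S.plus_of_commute ha hc hg h.1 h.2⟩

theorem plus_or (ha : a ∈ D) (hc : Far D a c) {g : G} (hg : g ∈ QG D a) (hsq : g * g = 1)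
    (hnz : ¬ Zc a g) : Plus D a c g ∨ Plus D a c (a * g) := by
  obtain ⟨z, haz, hzc, hw⟩ := S.exists_wd ha hc hg hsq hnz
  exact (S.wd_form ha haz hzc hw hnz).imp PlusAt.plus PlusAt.plus

theorem plusAt_unique (ha : a ∈ D) (hc : Far D a c) {z m g : G} (h : PlusAt D a c z g)
    (h' : PlusAt D a c m g) : z = m :=
  S.commute_unique h.adj hc (right_mem_Ln h.adj.right)
    (S.wd_unique h.adj h'.adj h.wd h'.wd (S.plus_not_zc ha hc h.plus)) h.comm h'.comm

/-- The line of a preferred lift passes through `c` and its image. -/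
theorem plusAt_line (ha : a ∈ D) (hc : Far D a c) {z g : G} (h : PlusAt D a c z g) :
    z ∈ Ln D c (cj g c) := by
  have hcg := S.plus_commute ha hc h.plus
  obtain ⟨w, k, haw, hwc, hwL, hk, hkd⟩ := S.exists_move_comm ha hc (S.qg_far ha h.mem hc) hcg
    fun j => S.plus_not_zc ha hc h.plus (Or.inl (S.regular ha hc h.mem j.symm))
  obtain rfl : k = g := S.cj_inj_far ha hc (hk.mem haw) h.mem hkd
  rwa [S.commute_unique h.adj hc (right_mem_Ln h.adj.right)
    (S.wd_unique h.adj haw h.wd hk (S.plus_not_zc ha hc h.plus)) h.comm hwc]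

/-- Preferred lifts of commuting lines multiply to preferred lifts. -/
theorem plus_mul (ha : a ∈ D) (hc : Far D a c) {z m g h : G} (hg : PlusAt D a c z g)
    (hh : PlusAt D a c m h) (hzm : Commute z m) : g * h = 1 ∨ Plus D a c (g * h) := by
  by_cases h1 : g * h = 1
  · exact Or.inl h1
  refine Or.inr (S.plus_of_commute ha hc (mul_mem hg.mem hh.mem) h1 ?_)
  have hfix : cj h z = z := by
    obtain ⟨ham, -, y, hy, -, -, rfl⟩ := hh
    exact cj_eq_self.2 (Commute.mul_left hg.adj.comm (hzm.symm.mul_left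
      (hy.2 z hg.adj.right hg.adj.comm hzm.symm)))
  have hcg := S.plus_commute ha hc hg.plus
  have hne : cj g c ≠ c := fun j => S.plus_not_zc ha hc hg.plus (Or.inl (S.regular ha hc hg.mem j))
  have hA : Adj D c (cj g c) := ⟨hc.1, S.mem g hc.1, hcg, hne.symm⟩
  have hzL := S.plusAt_line ha hc hg
  have hzc : z ≠ c := fun k => hc.2 (k ▸ hg.adj.comm)
  have hL := S.Ln_eq hA hzL (left_mem_Ln hc.1) hzc
  have h2 : Commute (cj g c) (cj h c) := by
    have hm : cj g c ∈ Ln D z c := hL.symm ▸ right_mem_Ln (S.mem g hc.1)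
    refine hm.2 _ (S.mem h hc.1) ?_ (S.plus_commute ha hc hh.plus)
    rw [← hfix, cj_commute_iff]
    exact hg.comm
  rw [← cj_commute_iff g, cj_mul_left, ← cj_mul_left g g, S.plus_sq hg.plus, cj_one_left]
  exact h2

theorem line_fix (ha : a ∈ D) {z h : G} (haz : Adj D a z) (hh : h ∈ QG D a) {v w : G}
    (hv : v ∈ Ln D a z) (hva : v ≠ a) (hfix : cj h v = v) (hw : w ∈ Ln D a z) (hwa : w ≠ a) :
    cj h w = w := by
  obtain ⟨f, X⟩ := S.exists_cross haz
  obtain ⟨t, ht, et⟩ := S.qg_law ha hh X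
  rw [et w hw hwa]
  rw [et v hv hva] at hfix
  exact S.shift_free X ht hv hva hfix hw hwa

theorem line_invol (ha : a ∈ D) {z h : G} (haz : Adj D a z) (hh : h ∈ QG D a) {v : G}
    (hv : v ∈ Ln D a z) (hva : v ≠ a) : cj h (cj h v) = v := by
  obtain ⟨f, X⟩ := S.exists_cross haz
  obtain ⟨t, ht, et⟩ := S.qg_law ha hh X
  obtain ⟨m1, m2⟩ := S.shift_mem X ht hv hva
  rw [et v hv hva, et _ m1 m2, S.shift_shift X.adj ht]

/-- An element commutes with a preferred lift exactly if it fixes or exchanges its two members. -/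
theorem move_iff (ha : a ∈ D) {z y h : G} (haz : Adj D a z) (hy : y ∈ Ln D a z) (hya : y ≠ a)
    (hyz : y ≠ z) (hh : h ∈ QG D a) :
    Commute h (a * (z * y)) ↔ cj h z = z ∨ cj h z = y := by
  have hzL : z ∈ Ln D a z := right_mem_Ln haz.right
  have hza := haz.ne.symm
  obtain ⟨m1, m2⟩ := S.qg_mem_Ln ha hh haz hzL hza
  obtain ⟨m3, m4⟩ := S.qg_mem_Ln ha hh haz hy hya
  have e1 : cj h (a * (z * y)) = a * (cj h z * cj h y) := by
    calc cj h (a * (z * y)) = cj h a * (cj h z * cj h y) := by simp [cj, mul_assoc]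
      _ = a * (cj h z * cj h y) := by rw [cj_eq_self.2 (S.commute_a ha hh).symm]
  rw [← cj_eq_self, e1, mul_left_cancel_iff]
  constructor
  · intro k
    by_contra! hne
    obtain ⟨hnz, hny⟩ := hne
    have h1 : cj h y ≠ y := fun j => hnz (S.line_fix ha haz hh hy hya j hzL hza)
    have h2 : cj h y ≠ z := fun j => hny (by rw [← j, S.line_invol ha haz hh hy hya])
    have h3 : cj h z ≠ cj h y := fun j => hyz (cj_inj _ j).symm
    have hk := S.prod_four haz hzL hy m1 m3 hza hya m2 m4 hyz.symm hnz.symm h2.symm hny.symm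
      h1.symm h3
    rw [k, S.shift_sq haz ⟨z, y, hzL, hza, hy, hya, rfl⟩] at hk
    exact S.ne_one ha hk.symm
  · rintro (k | k)
    · rw [k, S.line_fix ha haz hh hzL hza k hy hya]
    · rw [k, show cj h y = z by rw [← k, S.line_invol ha haz hh hzL hza],
        (commute_of_mem_Ln haz hy hzL).eq]

/-- Commuting preferred lifts of two lines which do not commute. -/
theorem plus_cj (ha : a ∈ D) (hc : Far D a c) {z m g h : G} (hg : PlusAt D a c z g)
    (hh : PlusAt D a c m h) (hzm : ¬ Commute z m) (hcomm : Commute h g) :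
    PlusAt D a c (cj z m) (a * (g * h)) := by
  have hhm := hh.mem
  obtain ⟨haz, hzc, y, hy, hya, hyz, rfl⟩ := hg
  have hmove : cj h z = y := by
    refine ((S.move_iff ha haz hy hya hyz hhm).1 hcomm).resolve_left fun k => hzm ?_
    exact ((S.wd_fix_iff hh.adj hh.wd (S.plus_not_zc ha hc hh.plus) haz).1 (cj_eq_self.1 k)).symm
  have e : a * (a * (z * y) * h) = z * h * z⁻¹ := by
    rw [inv_eq S.tset haz.right, ← hmove, cj, ← mul_assoc, ← mul_assoc a a, S.sq_self ha, one_mul]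
    group
  rw [e]
  obtain ⟨ham, hmc, y', hy', hy'a, hy'm, rfl⟩ := hh
  have hza : cj z a = a := cj_eq_self.2 haz.comm.symm
  have hzc' : cj z c = c := cj_eq_self.2 hzc
  refine ⟨hza ▸ S.adj_cj z ham, ?_, cj z y', ?_, ?_, fun k => hy'm (cj_inj z k), ?_⟩
  · rw [← hzc', cj_commute_iff]; exact hmc
  · have := cj_mem_Ln S.closed z hy'
    rwa [hza] at this
  · exact fun k => hy'a (cj_inj z (k.trans hza.symm))
  · calc z * (a * (m * y')) * z⁻¹ = cj z a * (cj z m * cj z y') := by simp [cj, mul_assoc]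
      _ = _ := by rw [hza]

/-- The preferred lifts of a line move any line not commuting with it to each of its members. -/
theorem exists_plus_move (ha : a ∈ D) (hc : Far D a c) {z m w : G} (haz : Adj D a z)
    (ham : Adj D a m) (hmc : Commute m c) (hzm : ¬ Commute z m) (hw : w ∈ Ln D a z) (hwa : w ≠ a)
    (hwz : w ≠ z) : ∃ h, PlusAt D a c m h ∧ cj h z = w := by
  have hzL : z ∈ Ln D a z := right_mem_Ln haz.right
  obtain ⟨t, ht, htw⟩ := S.exists_shift ⟨haz, ham.right, ham.comm, hzm⟩ hzL haz.ne.symm hw hwa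
  have hnz : ¬ Zc a t := by
    rintro (rfl | rfl)
    · exact hwz (by rwa [cj_one_left, eq_comm] at htw)
    · exact hwz (by rwa [cj_eq_self.2 haz.comm, eq_comm] at htw)
  rcases S.wd_form ha ham hmc ⟨t, ht, Or.inl rfl⟩ hnz with k | k
  · exact ⟨t, k, htw⟩
  · exact ⟨a * t, k, by rw [cj_mul_left, htw, cj_eq_self.2 (commute_of_mem_Ln haz (left_mem_Ln ha) hw)]⟩

theorem exists_plusAt {z : G} (haz : Adj D a z) (hzc : Commute z c) : ∃ g, PlusAt D a c z g := by
  obtain ⟨y, hy, hya, hyz⟩ := S.third a z haz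
  exact ⟨_, haz, hzc, y, hy, hya, hyz, rfl⟩

end Geom

end CfsgLib.ThreeTrans.PolarTwins
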