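import Cfsg.Agent.Lib.ThreeTrans.PolarTwins.Law

/-!
# The group of translations at a member

For a member `a`, the translations of the lines through `a`, together with `a`, generate a group `QG D a`
which is of class two, has all squares and commutators in `{1, a}` and acts regularly on the members which
do not commute with `a`.
-/

set_option autoImplicit false
set_option linter.unusedSectionVars false

namespace CfsgLib.ThreeTrans.PolarTwins

open CfsgLib.ThreeTrans
open CfsgLib.ThreeTrans.ClassTwo (cD)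

variable {G : Type*} [Group G] {D : Set G}

/-- `c` is a member which does not commute with `a`. -/
def Far (D : Set G) (a c : G) : Prop := c ∈ D ∧ ¬ Commute a c

/-- The translations at `a`, with `a` itself. -/
def trGen (D : Set G) (a : G) : Set G := insert a {g | ∃ e, Adj D a e ∧ Shift D a e g}

/-- The group of translations at `a`. -/
def QG (D : Set G) (a : G) : Subgroup G := Subgroup.closure (trGen D a)

/-- `g` is `1` or `a`. -/
def Zc (a g : G) : Prop := g = 1 ∨ g = a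

/-- `g` is a translation of the line on `a` and `z`, possibly times `a`. -/
def Wd (D : Set G) (a z g : G) : Prop := ∃ s, Shift D a z s ∧ (g = s ∨ g = a * s)

theorem shift_one (hs : Cfsg.IsThreeTranspositionSet D) {p e : G} (h : Adj D p e) : Shift D p e 1 :=
  ⟨e, e, right_mem_Ln h.right, h.ne.symm, right_mem_Ln h.right, h.ne.symm, (mul_self hs h.right).symm⟩

theorem shift_mem_QG {a e s : G} (hae : Adj D a e) (hs : Shift D a e s) : s ∈ QG D a :=
  Subgroup.subset_closure (Or.inr ⟨e, hae, hs⟩)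

theorem self_mem_QG (a : G) : a ∈ QG D a := Subgroup.subset_closure (Or.inl rfl)

theorem Zc.mem {a g : G} (h : Zc a g) : g ∈ QG D a := by
  rcases h with rfl | rfl
  exacts [one_mem _, self_mem_QG _]

theorem Wd.mem {a z g : G} (haz : Adj D a z) (h : Wd D a z g) : g ∈ QG D a := by
  obtain ⟨s, hs, rfl | rfl⟩ := h
  exacts [shift_mem_QG haz hs, mul_mem (self_mem_QG a) (shift_mem_QG haz hs)]

variable [Finite G]

namespace Geom

variable (S : Geom D)
include S

theorem sq_self {a : G} (ha : a ∈ D) : a * a = 1 := mul_self S.tset ha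

theorem ne_one {a : G} (ha : a ∈ D) : a ≠ 1 := fun k => by
  have := S.tset.1 a ha
  rw [k, orderOf_one] at this
  omega

theorem Wd.mul_self_eq {a z g : G} (haz : Adj D a z) (h : Wd D a z g) : g * g = 1 := by
  obtain ⟨s, hs, rfl | rfl⟩ := h
  · exact S.shift_sq haz hs
  · obtain ⟨c, c', hc, -, hc', -, rfl⟩ := id hs
    have ha : Commute a (c * c') := (commute_of_mem_Ln haz (left_mem_Ln haz.left) hc).mul_right
      (commute_of_mem_Ln haz (left_mem_Ln haz.left) hc')
    rw [ha.symm.mul_mul_mul_comm, S.sq_self haz.left, S.shift_sq haz hs, one_mul]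

theorem exists_adj {a : G} (ha : a ∈ D) : ∃ e, Adj D a e := by
  obtain ⟨x, hx, y, hy, hne, hxy⟩ := S.set.pair
  obtain ⟨g, rfl⟩ := S.set.hD.class_eq x hx a ha
  exact ⟨cj g y, S.adj_cj g ⟨hx, hy, hxy, hne⟩⟩

theorem exists_far {a : G} (ha : a ∈ D) : ∃ c, Far D a c := by
  by_contra! hall
  simp only [Far, not_and, not_not] at hall
  have := mem_center_of_commute S.set.hD.gen (x := a) hall
  rw [S.triv, Subgroup.mem_bot] at this
  exact S.ne_one ha this

/-- The member of a line through `a` which commutes with a member far from `a`. -/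
theorem exists_Ln_commute {a e c : G} (hae : Adj D a e) (hc : Far D a c) :
    ∃ z ∈ Ln D a e, Commute z c ∧ z ≠ a ∧ Adj D a z ∧ Ln D a z = Ln D a e := by
  obtain ⟨z, hz, hzc⟩ := S.exists_commute_mem hae hc.1
  have hza : z ≠ a := fun k => hc.2 (k ▸ hzc)
  exact ⟨z, hz, hzc, hza, adj_of_mem_Ln hae (left_mem_Ln hae.left) hz hza.symm,
    S.Ln_eq hae (left_mem_Ln hae.left) hz hza.symm⟩

theorem commute_unique {a e c z z' : G} (hae : Adj D a e) (hc : Far D a c) (hz : z ∈ Ln D a e)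
    (hz' : z' ∈ Ln D a e) (h : Commute z c) (h' : Commute z' c) : z = z' :=
  by_contra fun hne => hc.2 (S.all_of_two hae hz hz' hne (left_mem_Ln hae.left) hc.1 h h')

/-- Another member commuting with `a` does not commute with all members commuting with `a` and with a
member far from `a`. -/
theorem no_center {a c z : G} (hc : Far D a c) (haz : Adj D a z) :
    ∃ e ∈ D, Commute a e ∧ Commute c e ∧ ¬ Commute z e := by
  by_contra! hno
  have main : ∀ z, Adj D a z → Commute z c →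
      (∀ e ∈ D, Commute a e → Commute c e → Commute z e) → False := by
    intro z haz hzc hz
    obtain ⟨e, he, hae, hze⟩ := S.exists_sep haz
    have hA : Adj D a e := ⟨haz.left, he, hae, fun k => hze (k ▸ haz.comm.symm)⟩
    obtain ⟨w, hw, hwc, hwa, haw, -⟩ := S.exists_Ln_commute hA hc
    exact hze (S.all_of_two hA (left_mem_Ln haz.left) hw hwa.symm (right_mem_Ln he) haz.right haz.comm
      (hz w hw.1 haw.comm hwc.symm).symm).symm
  obtain ⟨z0, hz0, hz0c, hz0a, haz0, -⟩ := S.exists_Ln_commute haz hc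
  exact main z0 haz0 hz0c fun e he h1 h2 => hz0.2 e he h1 (hno e he h1 h2)

theorem exists_sep_far {a c e : G} (hae : Adj D a e) (hc : Far D a c) :
    ∃ y ∈ Ln D a e, y ≠ a ∧ ¬ Commute y c := by
  obtain ⟨z, hz, hzc, hza, haz, hL⟩ := S.exists_Ln_commute hae hc
  obtain ⟨y, hy, hya, hyz⟩ := S.third a z haz
  rw [hL] at hy
  exact ⟨y, hy, hya, fun k => hyz (S.commute_unique hae hc hy hz k hzc)⟩

/-- An element commuting with everything at `a` and with one member far from `a` is trivial. -/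
theorem eq_one_of_fix {a c g : G} (ha : a ∈ D) (hc : Far D a c)
    (hE : ∀ x ∈ D, Commute a x → Commute g x) (hgc : Commute g c) : g = 1 := by
  have hD := S.set.hD
  set Z := Subgroup.centralizer ({g} : Set G) with hZ
  have hmem : ∀ x, x ∈ Z ↔ Commute g x := fun x => by
    rw [hZ, Subgroup.mem_centralizer_singleton_iff]
    exact ⟨fun h => h.symm, fun h => h.symm⟩
  suffices htop : Z = ⊤ by
    have := mem_center_of_commute hD.gen (x := g) fun d _ => (hmem d).1 (htop ▸ Subgroup.mem_top d)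
    rwa [S.triv, Subgroup.mem_bot] at this
  by_contra hne
  have hsub := hD.maximal_dSubgroup S.set.prim S.set.pair ha (X := {x | x ∈ D ∧ x ∈ Z})
    (fun x hx => hx.1)
    (fun k => hne (top_unique (k ▸ (Subgroup.closure_le _).2 fun x hx => hx.2)))
    (fun x hx hx' => ⟨hx, (Subgroup.closure_le _).2 (fun y hy => hy.2) hx'⟩)
    (fun x hx => ⟨hx.1, (hmem x).2 (hE x hx.1 hx.2)⟩)
  exact hc.2 (hsub ⟨hc.1, (hmem c).2 hgc⟩).2

/-- An element with trivial square commuting with everything at `a` is `1` or `a`. -/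
theorem zc_of_fix {a k : G} (ha : a ∈ D) (hk : k * k = 1)
    (hE : ∀ x ∈ D, Commute a x → Commute k x) : Zc a k := by
  have hs := S.tset
  have hka : Commute k a := hE a ha (Commute.refl a)
  obtain ⟨c, hc⟩ := S.exists_far ha
  set d := cj k c with hd
  have hdD : d ∈ D := S.mem k hc.1
  have hdc : cj k d = c := by rw [hd, ← cj_mul_left, hk, cj_one_left]
  by_cases hdc' : d = c
  · exact Or.inl (S.eq_one_of_fix ha hc hE (cj_eq_self.1 hdc'))
  have hdfar : Far D a d := ⟨hdD, fun h => hc.2 (by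
    rwa [hd, ← cj_eq_self.2 hka, cj_commute_iff] at h)⟩
  have hP : ∀ e ∈ D, Commute a e → Commute c e → Commute d e := fun e he h1 h2 => by
    rwa [hd, ← cj_eq_self.2 (hE e he h1), cj_commute_iff]
  by_cases hcd : Commute c d
  · exfalso
    have hA : Adj D c d := ⟨hc.1, hdD, hcd, Ne.symm hdc'⟩
    obtain ⟨z, hz, hza⟩ := S.exists_commute_mem hA ha
    have hne : a ≠ z := fun j => hc.2 (j ▸ commute_of_mem_Ln hA hz (left_mem_Ln hc.1))
    obtain ⟨e, he, h1, h2, h3⟩ := S.no_center hc (z := z) ⟨ha, hz.1, hza.symm, hne⟩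
    exact h3 (hz.2 e he h2 (hP e he h1 h2))
  set m := cj c d with hm
  have hmD : m ∈ D := S.mem c hdD
  have hmP : ∀ e ∈ D, Commute a e → Commute c e → Commute m e := fun e he h1 h2 => by
    rw [hm, ← cj_eq_self.2 h2, cj_commute_iff]
    exact hP e he h1 h2
  have hkm : Commute k m := by
    rw [← cj_eq_self, hm, ← cj_mul_left, show k * c = d * k by simp [hd, cj], cj_mul_left, hdc]
    exact cj_braid hs hdD hc.1 fun j => hcd j.symm
  by_cases hma : m = a
  · refine Or.inr ?_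
    have hda : cj a c = d := by
      rw [cj_braid hs ha hc.1 hc.2, ← hma, hm, cj_invol hs hc.1]
    have h1 : a * k = 1 := S.eq_one_of_fix ha hc
      (fun x hx hax => hax.mul_left (hE x hx hax))
      (cj_eq_self.1 (by rw [cj_mul_left, ← hd, ← hda, cj_invol hs ha]))
    calc k = a * (a * k) := by rw [← mul_assoc, S.sq_self ha, one_mul]
      _ = a := by rw [h1, mul_one]
  by_cases ham : Commute a m
  · exfalso
    obtain ⟨e, he, h1, h2, h3⟩ := S.no_center hc (z := m) ⟨ha, hmD, ham, Ne.symm hma⟩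
    exact h3 (hmP e he h1 h2)
  · exact Or.inl (S.eq_one_of_fix ha ⟨hmD, ham⟩ hE hkm)

theorem Zc.mul {a g h : G} (ha : a ∈ D) (hg : Zc a g) (hh : Zc a h) : Zc a (g * h) := by
  rcases hg with rfl | rfl
  · rwa [one_mul]
  · rcases hh with rfl | rfl
    · exact Or.inr (mul_one _)
    · exact Or.inl (S.sq_self ha)

section Q

variable {a : G}

theorem trGen_mul_self (ha : a ∈ D) {s : G} (hs : s ∈ trGen D a) : s * s = 1 := by
  rcases hs with rfl | ⟨e, he, hs⟩
  exacts [S.sq_self ha, S.shift_sq he hs]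

/-- Induction along generators. -/
theorem qg_induction (ha : a ∈ D) {P : G → Prop} (h1 : P 1)
    (hmul : ∀ g ∈ QG D a, ∀ s ∈ trGen D a, P g → P (g * s)) {g : G} (hg : g ∈ QG D a) : P g := by
  induction hg using Subgroup.closure_induction_right with
  | one => exact h1
  | mul_right x hx y hy h => exact hmul x hx y hy h
  | mul_inv_cancel x hx y hy h =>
    rw [inv_eq_of_mul_eq_one_right (S.trGen_mul_self ha hy)]
    exact hmul x hx y hy h

theorem commute_a (ha : a ∈ D) {g : G} (hg : g ∈ QG D a) : Commute a g := by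
  refine S.qg_induction ha (P := fun g => Commute a g) ?h1 ?hmul hg
  case h1 => exact Commute.one_right a
  case hmul =>
    intro g _ s hs h
    refine h.mul_right ?_
    rcases hs with rfl | ⟨e, he, c, c', hc, -, hc', -, rfl⟩
    · exact Commute.refl _
    · exact (commute_of_mem_Ln he (left_mem_Ln ha) hc).mul_right
        (commute_of_mem_Ln he (left_mem_Ln ha) hc')

theorem zc_commute (ha : a ∈ D) {k g : G} (hk : Zc a k) (hg : g ∈ QG D a) : Commute k g := by
  rcases hk with rfl | rfl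
  exacts [Commute.one_left g, S.commute_a ha hg]

/-- A translation moves a member as a translation on the same line or fixes the line. -/
theorem gen_line (ha : a ∈ D) {s v : G} (hs : s ∈ trGen D a) (hav : Adj D a v) :
    cj s v ∈ Ln D a v ∧ cj s v ≠ a := by
  rcases hs with rfl | ⟨m, hm, hs⟩
  · rw [cj_eq_self.2 hav.comm]
    exact ⟨right_mem_Ln hav.right, hav.ne.symm⟩
  by_cases hvm : Commute v m
  · obtain ⟨c, c', hc, -, hc', -, rfl⟩ := hs
    rw [cj_eq_self.2 ((hc.2 v hav.right hav.comm hvm.symm).mul_left (hc'.2 v hav.right hav.comm hvm.symm))]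
    exact ⟨right_mem_Ln hav.right, hav.ne.symm⟩
  · exact S.shift_mem ⟨hav, hm.right, hm.comm, hvm⟩ hs (right_mem_Ln hav.right) hav.ne.symm

theorem qg_line (ha : a ∈ D) {g : G} (hg : g ∈ QG D a) {v : G} (hav : Adj D a v) :
    cj g v ∈ Ln D a v ∧ cj g v ≠ a := by
  revert v
  refine S.qg_induction ha (P := fun g => ∀ {v : G}, Adj D a v → cj g v ∈ Ln D a v ∧ cj g v ≠ a)
    ?h1 ?hmul hg
  case h1 => exact fun {v} hav => by rw [cj_one_left]; exact ⟨right_mem_Ln hav.right, hav.ne.symm⟩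
  case hmul =>
    intro g _ s hs h v hav
    obtain ⟨h1, h2⟩ := S.gen_line ha hs hav
    have hA : Adj D a (cj s v) := adj_of_mem_Ln hav (left_mem_Ln ha) h1 h2.symm
    obtain ⟨h3, h4⟩ := h hA
    rw [S.Ln_eq hav (left_mem_Ln ha) h1 h2.symm] at h3
    rw [cj_mul_left]
    exact ⟨h3, h4⟩

theorem qg_mem_Ln (ha : a ∈ D) {g : G} (hg : g ∈ QG D a) {r v : G} (har : Adj D a r)
    (hv : v ∈ Ln D a r) (hva : v ≠ a) : cj g v ∈ Ln D a r ∧ cj g v ≠ a := by
  obtain ⟨h1, h2⟩ := S.qg_line ha hg (adj_of_mem_Ln har (left_mem_Ln ha) hv hva.symm)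
  rw [S.Ln_eq har (left_mem_Ln ha) hv hva.symm] at h1
  exact ⟨h1, h2⟩

/-- Every element of the group acts on a line as a translation of any line crossing it. -/
theorem qg_law (ha : a ∈ D) {g : G} (hg : g ∈ QG D a) {r f : G} (X : Cross D a r f) :
    ∃ t, Shift D a f t ∧ ∀ v ∈ Ln D a r, v ≠ a → cj g v = cj t v := by
  have hs := S.tset
  have hr : r ∈ Ln D a r := right_mem_Ln X.line.right
  have hra : r ≠ a := X.line.ne.symm
  have gen : ∀ s ∈ trGen D a, ∃ t, Shift D a f t ∧ ∀ v ∈ Ln D a r, v ≠ a → cj s v = cj t v := by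
    rintro s (rfl | ⟨m, hm, hsm⟩)
    · exact ⟨1, shift_one hs X.adj, fun v hv _ => by
        rw [cj_one_left, cj_eq_self.2 (commute_of_mem_Ln X.line (left_mem_Ln ha) hv)]⟩
    by_cases hrm : Commute r m
    · refine ⟨1, shift_one hs X.adj, fun v hv _ => ?_⟩
      have hvm : Commute v m := hv.2 m hm.right hm.comm hrm
      have hav : Commute a v := commute_of_mem_Ln X.line (left_mem_Ln ha) hv
      obtain ⟨c, c', hc, -, hc', -, rfl⟩ := hsm
      rw [cj_one_left, cj_eq_self.2 ((hc.2 v hv.1 hav hvm.symm).mul_left (hc'.2 v hv.1 hav hvm.symm))]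
    have X' : Cross D a r m := ⟨X.line, hm.right, hm.comm, hrm⟩
    obtain ⟨hu, hua⟩ := S.shift_mem X' hsm hr hra
    by_cases hur : cj s r = r
    · exact ⟨1, shift_one hs X.adj, fun v hv hva => by
        rw [cj_one_left, S.shift_free X' hsm hr hra hur hv hva]⟩
    obtain ⟨t, ht, htr⟩ := S.exists_shift X hr hra hu hua
    obtain ⟨eN, Y⟩ := S.exists_cross X.line.symm
    obtain ⟨h, hh, hha⟩ := S.exists_shift Y (right_mem_Ln ha) X.line.ne (Ln_comm r a ▸ hu) hur
    refine ⟨t, ht, fun v hv hva => ?_⟩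
    by_cases hvr : v = r
    · rw [hvr, htr]
    by_cases hvu : v = cj s r
    · subst hvu
      rw [S.shift_shift hm hsm]
      conv_rhs => rw [← htr, S.shift_shift X.adj ht]
    rw [S.law X' Y hsm hh hu hua hur rfl hha hv hva hvr hvu,
      S.law X Y ht hh hu hua hur htr hha hv hva hvr hvu]
  refine S.qg_induction ha
    (P := fun g => ∃ t, Shift D a f t ∧ ∀ v ∈ Ln D a r, v ≠ a → cj g v = cj t v) ?h1 ?hmul hg
  case h1 => exact ⟨1, shift_one hs X.adj, fun v _ _ => rfl⟩
  case hmul =>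
    intro g hg s hs' h
    obtain ⟨t₁, ht₁, e₁⟩ := h
    obtain ⟨t₂, ht₂, e₂⟩ := gen s hs'
    obtain ⟨m1, m2⟩ := S.shift_mem X ht₂ hr hra
    obtain ⟨m3, m4⟩ := S.shift_mem X ht₁ m1 m2
    obtain ⟨t, ht, htr⟩ := S.exists_shift X hr hra m3 m4
    refine ⟨t, ht, fun v hv hva => ?_⟩
    obtain ⟨n1, n2⟩ := S.shift_mem X ht₂ hv hva
    rw [cj_mul_left, e₂ v hv hva, e₁ _ n1 n2, S.shift_eq_mul X ht ht₁ ht₂ hr hra htr hv hva]

theorem comm_act (ha : a ∈ D) {g h : G} (hg : g ∈ QG D a) (hh : h ∈ QG D a) {v : G}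
    (hav : Adj D a v) : cj (g * h) v = cj (h * g) v := by
  obtain ⟨f, X⟩ := S.exists_cross hav
  obtain ⟨t₁, ht₁, e₁⟩ := S.qg_law ha hg X
  obtain ⟨t₂, ht₂, e₂⟩ := S.qg_law ha hh X
  have hv := right_mem_Ln (D := D) (x := a) hav.right
  obtain ⟨m1, m2⟩ := S.shift_mem X ht₂ hv hav.ne.symm
  obtain ⟨n1, n2⟩ := S.shift_mem X ht₁ hv hav.ne.symm
  rw [cj_mul_left, cj_mul_left, e₂ v hv hav.ne.symm, e₁ _ m1 m2, e₁ v hv hav.ne.symm, e₂ _ n1 n2,
    ← cj_mul_left, ← cj_mul_left, (ht₁.commute X.adj ht₂).eq]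

theorem commutator_fix (ha : a ∈ D) {g h : G} (hg : g ∈ QG D a) (hh : h ∈ QG D a) {x : G}
    (hx : x ∈ D) (hax : Commute a x) : Commute (g * h * g⁻¹ * h⁻¹) x := by
  by_cases hxa : x = a
  · subst hxa
    exact (S.commute_a hx (mul_mem (mul_mem (mul_mem hg hh) (inv_mem hg)) (inv_mem hh))).symm
  have hA : Adj D a x := ⟨ha, hx, hax, Ne.symm hxa⟩
  obtain ⟨h1, h2⟩ := S.qg_line ha (mul_mem (inv_mem hg) (inv_mem hh)) hA
  rw [← cj_eq_self, show g * h * g⁻¹ * h⁻¹ = (g * h) * (g⁻¹ * h⁻¹) by group, cj_mul_left,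
    S.comm_act ha hg hh (adj_of_mem_Ln hA (left_mem_Ln ha) h1 h2.symm), ← cj_mul_left,
    show h * g * (g⁻¹ * h⁻¹) = 1 by group, cj_one_left]

theorem zc_comm_gen (ha : a ∈ D) {g s : G} (hg : g ∈ QG D a) (hs : s ∈ trGen D a) :
    Zc a (g * s * g⁻¹ * s⁻¹) := by
  refine S.zc_of_fix ha ?_ fun x hx hax => S.commutator_fix ha hg (Subgroup.subset_closure hs) hx hax
  rcases hs with rfl | ⟨e, he, hse⟩
  · simp [(S.commute_a ha hg).symm.eq]
  obtain ⟨c, c', hc, hca, hc', hc'a, rfl⟩ := id hse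
  obtain ⟨h1, h2⟩ := S.qg_mem_Ln ha hg he hc hca
  obtain ⟨h3, h4⟩ := S.qg_mem_Ln ha hg he hc' hc'a
  have ht : Shift D a e (cj g c * cj g c') := ⟨_, _, h1, h2, h3, h4, rfl⟩
  rw [show g * (c * c') * g⁻¹ = cj g c * cj g c' by simp [cj, mul_assoc],
    inv_eq_of_mul_eq_one_right (S.shift_sq he hse), (hse.commute he ht).mul_mul_mul_comm,
    S.shift_sq he ht, S.shift_sq he hse, one_mul]

theorem zc_comm (ha : a ∈ D) {g h : G} (hg : g ∈ QG D a) (hh : h ∈ QG D a) :
    Zc a (g * h * g⁻¹ * h⁻¹) := by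
  refine S.qg_induction ha (P := fun h => Zc a (g * h * g⁻¹ * h⁻¹)) ?h1 ?hmul hh
  case h1 => exact Or.inl (by group)
  case hmul =>
    intro h hh s hs hi
    have hk := S.zc_comm_gen ha hg hs
    rw [show g * (h * s) * g⁻¹ * (h * s)⁻¹ = (g * h * g⁻¹ * h⁻¹) * (h * (g * s * g⁻¹ * s⁻¹) * h⁻¹)
      by group, ← (S.zc_commute ha hk hh).eq, mul_inv_cancel_right]
    exact Zc.mul S ha hi hk

theorem zc_sq (ha : a ∈ D) {g : G} (hg : g ∈ QG D a) : Zc a (g * g) := by
  refine S.qg_induction ha (P := fun g => Zc a (g * g)) ?h1 ?hmul hg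
  case h1 => exact Or.inl (one_mul 1)
  case hmul =>
    intro g hg s hs hi
    have hk := S.zc_comm_gen ha (inv_mem hg) hs
    rw [inv_inv, inv_eq_of_mul_eq_one_right (S.trGen_mul_self ha hs)] at hk
    rw [show g * s * (g * s) = g * g * (g⁻¹ * s * g * s) by group]
    exact Zc.mul S ha hi hk

theorem qg_far (ha : a ∈ D) {g c : G} (hg : g ∈ QG D a) (hc : Far D a c) : Far D a (cj g c) :=
  ⟨S.mem g hc.1, fun h => hc.2 (by rwa [← cj_eq_self.2 (S.commute_a ha hg).symm, cj_commute_iff] at h)⟩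

/-- Commuting members far from `a` differ by a translation. -/
theorem exists_move_comm (ha : a ∈ D) {c d : G} (hc : Far D a c) (hd : Far D a d) (hcd : Commute c d)
    (hne : c ≠ d) : ∃ z g, Adj D a z ∧ Commute z c ∧ z ∈ Ln D c d ∧ Wd D a z g ∧ cj g c = d := by
  have hs := S.tset
  have hA : Adj D c d := ⟨hc.1, hd.1, hcd, hne⟩
  obtain ⟨z, hz, hza⟩ := S.exists_commute_mem hA ha
  have hzc : z ≠ c := fun k => hc.2 (k ▸ hza.symm)
  have hzd : z ≠ d := fun k => hd.2 (k ▸ hza.symm)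
  have hzcc : Commute z c := commute_of_mem_Ln hA hz (left_mem_Ln hc.1)
  have haz : Adj D a z := ⟨ha, hz.1, hza.symm, fun k => hc.2 (k ▸ hzcc)⟩
  have hL : Ln D z c = Ln D c d := S.Ln_eq hA hz (left_mem_Ln hc.1) hzc
  have X : Cross D z c a :=
    ⟨⟨hz.1, hc.1, hzcc, hzc⟩, ha, haz.comm.symm, fun k => hc.2 k.symm⟩
  obtain ⟨g, ⟨y, y', hy, hyz, hy', hy'z, rfl⟩, hgd⟩ := S.exists_shift X (right_mem_Ln hc.1) hzc.symm
    (hL.symm ▸ right_mem_Ln hd.1) hzd.symm
  rw [Ln_comm] at hy hy'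
  have hzl : z ∈ Ln D a z := right_mem_Ln hz.1
  have hza' : z ≠ a := haz.ne.symm
  by_cases h1 : y = a <;> by_cases h2 : y' = a
  · rw [h1, h2, S.sq_self ha, cj_one_left] at hgd
    exact absurd hgd hne
  · refine ⟨z, a * (y' * z), haz, hzcc, hz, ⟨_, ⟨y', z, hy', h2, hzl, hza', rfl⟩, Or.inr rfl⟩, ?_⟩
    rw [cj_mul_left, cj_mul_left, cj_eq_self.2 hzcc]
    rwa [h1, cj_mul_left] at hgd
  · refine ⟨z, a * (y * z), haz, hzcc, hz, ⟨_, ⟨y, z, hy, h1, hzl, hza', rfl⟩, Or.inr rfl⟩, ?_⟩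
    rw [cj_mul_left, cj_mul_left, cj_eq_self.2 hzcc]
    rwa [h2, (commute_of_mem_Ln haz hy (left_mem_Ln ha)).eq, cj_mul_left] at hgd
  · exact ⟨z, y * y', haz, hzcc, hz, ⟨_, ⟨y, y', hy, h1, hy', h2, rfl⟩, Or.inl rfl⟩, hgd⟩

/-- The translations act transitively on the members far from `a`. -/
theorem exists_move (ha : a ∈ D) {c d : G} (hc : Far D a c) (hd : Far D a d) :
    ∃ g ∈ QG D a, cj g c = d := by
  have comm : ∀ {c d}, Far D a c → Far D a d → Commute c d → ∃ g ∈ QG D a, cj g c = d := by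
    intro c d hc hd hcd
    by_cases hne : c = d
    · exact ⟨1, one_mem _, by rw [hne, cj_one_left]⟩
    obtain ⟨z, g, haz, -, -, hg, hgd⟩ := S.exists_move_comm ha hc hd hcd hne
    exact ⟨g, hg.mem haz, hgd⟩
  have near : ∀ {c d}, Far D a c → Far D a d →
      (∃ e ∈ D, Commute a e ∧ Commute c e ∧ ¬ Commute d e) → ∃ g ∈ QG D a, cj g c = d := by
    intro c d hc hd ⟨e, he, hae, hce, hde⟩
    by_cases hcd : Commute c d
    · exact comm hc hd hcd
    have hA : Adj D c e := ⟨hc.1, he, hce, fun k => hc.2 (k ▸ hae)⟩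
    obtain ⟨w, hw, hwd⟩ := S.exists_commute_mem hA hd.1
    have hwe : w ≠ e := fun k => hde (k ▸ hwd.symm)
    have hwfar : Far D a w := ⟨hw.1, fun k => hc.2
      (S.all_of_two hA hw (right_mem_Ln he) hwe (left_mem_Ln hc.1) ha k.symm hae.symm).symm⟩
    obtain ⟨g, hg, hgw⟩ := comm hc hwfar (commute_of_mem_Ln hA (left_mem_Ln hc.1) hw)
    obtain ⟨h, hh, hhd⟩ := comm hwfar hd hwd
    exact ⟨h * g, mul_mem hh hg, by rw [cj_mul_left, hgw, hhd]⟩
  by_cases hex : ∃ e ∈ D, Commute a e ∧ Commute c e ∧ ¬ Commute d e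
  · exact near hc hd hex
  push Not at hex
  have hPd := S.perp_eq_of_far ha hc.1 ha hd.1 hc.2 hd.2
    fun e he => ⟨he.1, he.1.1, hex e he.1.1 he.1.2 he.2.2⟩
  obtain ⟨e0, he0⟩ := S.exists_adj ha
  obtain ⟨y, hy, hya, hyc⟩ := S.exists_sep_far he0 hc
  have hay : Adj D a y := adj_of_mem_Ln he0 (left_mem_Ln ha) hy hya.symm
  set c' := cj y c with hc'
  have hc'far : Far D a c' := ⟨S.mem y hc.1, fun h => hc.2 (by
    rwa [hc', ← cj_eq_self.2 hay.comm.symm, cj_commute_iff] at h)⟩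
  obtain ⟨z, hz, hzc, hza, haz, hLz⟩ := S.exists_Ln_commute hay hc
  obtain ⟨g, hg, hgd⟩ : ∃ g ∈ QG D a, cj g c' = d := by
    refine near hc'far hd ?_
    by_contra! hno
    have hPc' := S.perp_eq_of_far ha hc'far.1 ha hd.1 hc'far.2 hd.2
      fun e he => ⟨he.1, he.1.1, hno e he.1.1 he.1.2 he.2.2⟩
    obtain ⟨e, he, h1, h2, h3⟩ := S.no_center hc hay
    have : e ∈ cD D a ∩ cD D c' := by rw [hPc', ← hPd]; exact ⟨⟨he, h1⟩, he, h2⟩
    have h4 : Commute c' e := this.2.2
    refine h3 ?_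
    rw [hc', cj_braid S.tset hay.right hc.1 hyc, ← cj_eq_self.2 h2, cj_commute_iff] at h4
    exact h4
  refine ⟨g * (y * z), mul_mem hg (shift_mem_QG hay
    ⟨y, z, right_mem_Ln hay.right, hya, hz, hza, rfl⟩), ?_⟩
  rw [cj_mul_left, cj_mul_left, cj_eq_self.2 hzc, ← hc', hgd]

/-- An element keeping the common perp of `a` and `c` fixes everything at `a`. -/
theorem fix_of_trace (ha : a ∈ D) {c g : G} (hc : Far D a c) (hg : g ∈ QG D a)
    (h : ∀ e ∈ D, Commute a e → Commute c e → Commute (cj g c) e) :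
    ∀ x ∈ D, Commute a x → Commute g x := by
  intro x hx hax
  by_cases hxa : x = a
  · subst hxa
    exact (S.commute_a hx hg).symm
  have hA : Adj D a x := ⟨ha, hx, hax, Ne.symm hxa⟩
  obtain ⟨z, hz, hzc, hza, haz, hL⟩ := S.exists_Ln_commute hA hc
  obtain ⟨h1, h2⟩ := S.qg_mem_Ln ha hg hA hz hza
  have hgz : cj g z = z := S.commute_unique hA (S.qg_far ha hg hc) h1 hz
    ((cj_commute_iff g z c).2 hzc) (h z hz.1 haz.comm hzc.symm).symm
  obtain ⟨f, X⟩ := S.exists_cross hA
  obtain ⟨t, ht, et⟩ := S.qg_law ha hg X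
  rw [← cj_eq_self, et x (right_mem_Ln hx) hA.ne.symm]
  rw [et z hz hza] at hgz
  exact S.shift_free X ht hz hza hgz (right_mem_Ln hx) hA.ne.symm

theorem regular (ha : a ∈ D) {c g : G} (hc : Far D a c) (hg : g ∈ QG D a) (h : cj g c = c) :
    g = 1 :=
  S.eq_one_of_fix ha hc (S.fix_of_trace ha hc hg fun e _ _ h2 => by rwa [h]) (cj_eq_self.1 h)

theorem cj_inj_far (ha : a ∈ D) {c g h : G} (hc : Far D a c) (hg : g ∈ QG D a) (hh : h ∈ QG D a)
    (e : cj g c = cj h c) : g = h := by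
  have := S.regular ha hc (mul_mem (inv_mem hh) hg) (by rw [cj_mul_left, e, cj_cj_inv])
  exact (inv_mul_eq_one.1 this).symm

omit S in
theorem commute_qg_of_fix {g h : G} (hfix : ∀ x ∈ D, Commute a x → Commute g x) (ha : a ∈ D)
    (hh : h ∈ QG D a) : Commute g h := by
  have : QG D a ≤ Subgroup.centralizer ({g} : Set G) := by
    refine (Subgroup.closure_le _).2 ?_
    rintro s (rfl | ⟨e, he, c, c', hc, -, hc', -, rfl⟩)
    · exact Subgroup.mem_centralizer_singleton_iff.2 (hfix _ ha (Commute.refl _)).eq.symm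
    · exact Subgroup.mem_centralizer_singleton_iff.2
        ((hfix c hc.1 (commute_of_mem_Ln he (left_mem_Ln ha) hc)).mul_right
          (hfix c' hc'.1 (commute_of_mem_Ln he (left_mem_Ln ha) hc'))).eq.symm
  exact (Subgroup.mem_centralizer_singleton_iff.1 (this hh) : h * g = g * h).symm

/-- Only `1` and `a` keep the common perp of `a` and `c`. -/
theorem zc_of_trace (ha : a ∈ D) {c g : G} (hc : Far D a c) (hg : g ∈ QG D a)
    (h : ∀ e ∈ D, Commute a e → Commute c e → Commute (cj g c) e) : Zc a g := by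
  have hs := S.tset
  have hfix := S.fix_of_trace ha hc hg h
  rcases S.zc_sq ha hg with hsq | hsq
  · exact S.zc_of_fix ha hsq hfix
  exfalso
  set d := cj g c with hd
  have hdfar : Far D a d := S.qg_far ha hg hc
  have ha1 : a ≠ 1 := S.ne_one ha
  have hdc : d ≠ c := fun k => ha1 (by
    have : g = 1 := S.regular ha hc hg k
    rw [← hsq, this, one_mul])
  have hnc : ¬ Commute c d := by
    intro hcd
    have hA : Adj D c d := ⟨hc.1, hdfar.1, hcd, hdc.symm⟩
    obtain ⟨z, hz, hza⟩ := S.exists_commute_mem hA ha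
    have hne : a ≠ z := fun j => hc.2 (j ▸ commute_of_mem_Ln hA hz (left_mem_Ln hc.1))
    obtain ⟨e, he, h1, h2, h3⟩ := S.no_center hc (z := z) ⟨ha, hz.1, hza.symm, hne⟩
    exact h3 (hz.2 e he h2 (h e he h1 h2))
  set m := cj c d with hm
  have hmD : m ∈ D := S.mem c hdfar.1
  have hmP : ∀ e ∈ D, Commute a e → Commute c e → Commute m e := fun e he h1 h2 => by
    rw [hm, ← cj_eq_self.2 h2, cj_commute_iff]
    exact h e he h1 h2
  have hma : m ≠ a := by
    intro k
    have : cj a c = d := by rw [cj_braid hs ha hc.1 hc.2, ← k, hm, cj_invol hs hc.1]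
    have hga : g = a := S.cj_inj_far ha hc hg (self_mem_QG a) this.symm
    rw [hga, S.sq_self ha] at hsq
    exact ha1 hsq.symm
  have hmfar : Far D a m := ⟨hmD, fun ham => by
    obtain ⟨e, he, h1, h2, h3⟩ := S.no_center hc (z := m) ⟨ha, hmD, ham, hma.symm⟩
    exact h3 (hmP e he h1 h2)⟩
  obtain ⟨k, hk, hkm⟩ := S.exists_move ha hc hmfar
  have hkfix := S.fix_of_trace ha hc hk fun e he h1 h2 => hkm ▸ hmP e he h1 h2
  have hmd : m ≠ d := fun j => hnc (cj_eq_self.1 (hm ▸ j))
  have hkne : ∀ x, Zc a x → k ≠ x * g := by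
    rintro x (rfl | rfl) rfl
    · rw [one_mul, ← hd] at hkm
      exact hmd hkm.symm
    · rw [cj_mul_left, ← hd, cj_braid hs ha hdfar.1 hdfar.2, hm,
        cj_braid hs hc.1 hdfar.1 hnc] at hkm
      exact hc.2 (by rw [cj_inj d hkm])
  rcases S.zc_sq ha hk with hk2 | hk2
  · obtain rfl | hka := S.zc_of_fix ha hk2 hkfix
    · rw [cj_one_left, hm] at hkm
      exact hdc (cj_inj c ((cj_eq_self.2 (Commute.refl c)).trans hkm)).symm
    · refine hc.2 ?_
      rw [hka, cj_braid hs ha hc.1 hc.2, hm] at hkm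
      exact absurd (Commute.refl a) ((cj_inj c hkm).symm ▸ hdfar.2)
  · have hgk : Commute g k := commute_qg_of_fix hfix ha hk
    have hx2 : (k * g⁻¹) * (k * g⁻¹) = 1 := by
      rw [hgk.inv_left.mul_mul_mul_comm, hk2, ← mul_inv_rev, hsq, mul_inv_cancel]
    have hxz : Zc a (k * g⁻¹) := S.zc_of_fix ha hx2
      fun x hx hax => (hkfix x hx hax).mul_left (hfix x hx hax).inv_left
    exact hkne _ hxz (by group)

/-- An involution in the group of translations is a translation of a line. -/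
theorem exists_wd (ha : a ∈ D) {c g : G} (hc : Far D a c) (hg : g ∈ QG D a) (hsq : g * g = 1)
    (hnz : ¬ Zc a g) : ∃ z, Adj D a z ∧ Commute z c ∧ Wd D a z g := by
  have hs := S.tset
  simp only [Zc, not_or] at hnz
  set d := cj g c with hd
  have hdfar : Far D a d := S.qg_far ha hg hc
  have hdc : d ≠ c := fun k => hnz.1 (S.regular ha hc hg k)
  by_cases hcd : Commute c d
  · obtain ⟨z, h, haz, hzc, -, hh, hhd⟩ := S.exists_move_comm ha hc hdfar hcd hdc.symm
    exact ⟨z, haz, hzc, (S.cj_inj_far ha hc hg (hh.mem haz) hhd.symm) ▸ hh⟩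
  by_cases hcd' : Commute c (cj a d)
  · have hne : c ≠ cj a d := fun k => hnz.2 <| S.cj_inj_far ha hc hg (self_mem_QG a) (by
      rw [← hd]; conv_rhs => rw [k, cj_invol hs ha])
    obtain ⟨z, h, haz, hzc, -, ⟨s, hs', hh'⟩, hhd⟩ :=
      S.exists_move_comm ha hc (S.qg_far ha (self_mem_QG a) hdfar) hcd' hne
    have hag : a * g = h := S.cj_inj_far ha hc (mul_mem (self_mem_QG a) hg)
      (Wd.mem haz ⟨s, hs', hh'⟩) (by rw [cj_mul_left, ← hd, hhd])
    refine ⟨z, haz, hzc, s, hs', ?_⟩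
    rcases hh' with rfl | rfl
    · exact Or.inr (by rw [← hag, ← mul_assoc, S.sq_self ha, one_mul])
    · exact Or.inl (mul_left_cancel hag)
  set e := cj c d with he
  have heD : e ∈ D := S.mem c hdfar.1
  have hged : cj g d = c := by rw [hd, ← cj_mul_left, hsq, cj_one_left]
  have hgfix : Commute g e := by
    rw [← cj_eq_self, he, ← cj_mul_left, show g * c = d * g by simp [hd, cj], cj_mul_left, hged]
    exact cj_braid hs hdfar.1 hc.1 fun j => hcd j.symm
  have hde : cj c e = d := by rw [he, cj_invol hs hc.1]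
  by_cases hea : e = a
  · exact absurd (S.cj_inj_far ha hc hg (self_mem_QG a)
      (by rw [← hd, cj_braid hs ha hc.1 hc.2, ← hea, hde])) hnz.2
  by_cases hae : Commute a e
  swap
  · exact absurd (S.regular ha ⟨heD, hae⟩ hg (cj_eq_self.2 hgfix)) hnz.1
  have hA : Adj D a e := ⟨ha, heD, hae, Ne.symm hea⟩
  have hec : ¬ Commute e c := fun k => hdfar.2 (by
    rw [← hde, cj_eq_self.2 k.symm]; exact hae)
  obtain ⟨z, hz, hzc, hza, haz, hL⟩ := S.exists_Ln_commute hA hc
  have hsh : Shift D a z (e * z) :=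
    ⟨e, z, hL.symm ▸ right_mem_Ln heD, hea, hL.symm ▸ hz, hza, rfl⟩
  refine ⟨z, haz, hzc, _, hsh, Or.inl (S.cj_inj_far ha hc hg (shift_mem_QG haz hsh) ?_)⟩
  rw [← hd, cj_mul_left, cj_eq_self.2 hzc, cj_braid hs heD hc.1 hec, hde]

/-- A translation of a line moves exactly the members not commuting with the line. -/
theorem wd_fix_iff {z x g : G} (haz : Adj D a z) (hg : Wd D a z g) (hnz : ¬ Zc a g)
    (hax : Adj D a x) : Commute g x ↔ Commute z x := by
  obtain ⟨s, hs, hgs⟩ := hg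
  have key : Commute g x ↔ Commute s x := by
    rcases hgs with rfl | rfl
    · rfl
    · rw [← cj_eq_self, ← cj_eq_self, cj_mul_left]
      conv_lhs => rhs; rw [← cj_eq_self.2 hax.comm]
      exact ⟨fun h => cj_inj a h, fun h => by rw [h]⟩
  rw [key]
  obtain ⟨y, y', hy, hya, hy', hy'a, rfl⟩ := hs
  have hyy : y' ≠ y := by
    rintro rfl
    rw [S.sq_self hy.1, mul_one] at hgs
    exact hnz hgs
  constructor
  · intro h
    by_contra hzx
    have hay : Adj D a y := adj_of_mem_Ln haz (left_mem_Ln haz.left) hy hya.symm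
    have hL := S.Ln_eq haz (left_mem_Ln haz.left) hy hya.symm
    have hyx : ¬ Commute y x := fun k => hzx <|
      (S.all_of_two haz (left_mem_Ln haz.left) hy hya.symm (right_mem_Ln haz.right) hax.right hax.comm k)
    obtain ⟨-, -, h3⟩ := S.transl hay hax.right hax.comm hyx (hL.symm ▸ hy') hy'a hyy
    exact h3 (cj_eq_self.2 h)
  · intro h
    exact (hy.2 x hax.right hax.comm h).mul_left (hy'.2 x hax.right hax.comm h)

/-- The translations of distinct lines are distinct modulo `a`. -/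
theorem wd_unique {z m g : G} (haz : Adj D a z) (ham : Adj D a m) (hg : Wd D a z g)
    (hg' : Wd D a m g) (hnz : ¬ Zc a g) : m ∈ Ln D a z := by
  refine ⟨ham.right, fun x hx hax hzx => ?_⟩
  by_cases hxa : x = a
  · exact hxa ▸ ham.comm.symm
  have hA : Adj D a x := ⟨haz.left, hx, hax, Ne.symm hxa⟩
  exact (S.wd_fix_iff ham hg' hnz hA).1 ((S.wd_fix_iff haz hg hnz hA).2 hzx)

end Q

end Geom

end CfsgLib.ThreeTrans.PolarTwins
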