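import Cfsg.Agent.Lib.ThreeTrans.PolarTwins.Coord
import Cfsg.Agent.Lib.ThreeTrans.PolarTwins.Quot
import Cfsg.Agent.Lib.Sp.Group
import Cfsg.Agent.Lib.Sp.Decomp

/-!
# Coordinates when lines have three members

The group of translations is elementary abelian and carries a non-degenerate alternating form over two
elements, the value at two lines recording whether they commute.
-/

set_option autoImplicit false
set_option linter.unusedSectionVars false

namespace CfsgLib.ThreeTrans.PolarTwins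

open CfsgLib.ThreeTrans
open LinearMap (BilinForm)

universe u

variable {G : Type u} [Group G] [Finite G] {D : Set G} {a c : G}

namespace Geom

variable (S : Geom D)
include S

theorem line_three (h3 : ∀ x y, Adj D x y → (Ln D x y).ncard = 3) {z y w : G} (haz : Adj D a z)
    (hy : y ∈ Ln D a z) (hya : y ≠ a) (hyz : y ≠ z) (hw : w ∈ Ln D a z) (hwa : w ≠ a) (hwz : w ≠ z) :
    y = w := by
  by_contra hne
  have hsub : ({a, z, y, w} : Set G) ⊆ Ln D a z := by
    rintro x (rfl | rfl | rfl | rfl)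
    exacts [left_mem_Ln haz.left, right_mem_Ln haz.right, hy, hw]
  have := Set.ncard_le_ncard hsub (Set.toFinite _)
  rw [h3 a z haz, Set.ncard_insert_of_notMem (by simp [haz.ne, hya.symm, hwa.symm]),
    Set.ncard_insert_of_notMem (by simp [hyz.symm, hwz.symm]), Set.ncard_pair hne] at this
  omega

theorem gen_central (h3 : ∀ x y, Adj D x y → (Ln D x y).ncard = 3) (ha : a ∈ D) {g s : G}
    (hg : g ∈ QG D a) (hs : s ∈ trGen D a) : Commute g s := by
  rcases hs with rfl | ⟨e, he, p, p', hp, hpa, hp', hp'a, rfl⟩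
  · exact (S.commute_a ha hg).symm
  by_cases hpp : p = p'
  · rw [hpp, S.sq_self hp'.1]
    exact Commute.one_right g
  have hA : Adj D a p := adj_of_mem_Ln he (left_mem_Ln ha) hp hpa.symm
  have hL := S.Ln_eq he (left_mem_Ln ha) hp hpa.symm
  have hA' : Adj D a p' := adj_of_mem_Ln he (left_mem_Ln ha) hp' hp'a.symm
  have hL' := S.Ln_eq he (left_mem_Ln ha) hp' hp'a.symm
  obtain ⟨m1, m2⟩ := S.qg_mem_Ln ha hg he hp hpa
  obtain ⟨m3, m4⟩ := S.qg_mem_Ln ha hg he hp' hp'a
  have hne : cj g p ≠ cj g p' := fun k => hpp (cj_inj g k)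
  rw [← cj_eq_self, show cj g (p * p') = cj g p * cj g p' by simp [cj, mul_assoc]]
  by_cases h1 : cj g p = p
  · rw [h1, S.line_three h3 hA (hL.symm ▸ m3) m4 (fun k => hne (h1.trans k.symm))
      (hL.symm ▸ hp') hp'a (Ne.symm hpp)]
  · have e1 := S.line_three h3 hA (hL.symm ▸ m1) m2 h1 (hL.symm ▸ hp') hp'a (Ne.symm hpp)
    rw [e1, S.line_three h3 hA' (hL'.symm ▸ m3) m4 (fun k => hne (e1.trans k.symm))
      (hL'.symm ▸ hp) hpa hpp, (commute_of_mem_Ln he hp' hp).eq]

theorem qg_abelian (h3 : ∀ x y, Adj D x y → (Ln D x y).ncard = 3) (ha : a ∈ D) {g h : G}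
    (hg : g ∈ QG D a) (hh : h ∈ QG D a) : Commute g h := by
  refine S.qg_induction ha (P := fun h => Commute g h) (Commute.one_right g) ?_ hh
  exact fun h _ s hs k => k.mul_right (S.gen_central h3 ha hg hs)

theorem qg_sq (h3 : ∀ x y, Adj D x y → (Ln D x y).ncard = 3) (ha : a ∈ D) {g : G}
    (hg : g ∈ QG D a) : g * g = 1 := by
  refine S.qg_induction ha (P := fun g => g * g = 1) (one_mul 1) ?_ hg
  intro g hg s hs k
  rw [(S.gen_central h3 ha hg hs).symm.mul_mul_mul_comm, k, S.trGen_mul_self ha hs, one_mul]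

/-- Coordinates when lines have three members. -/
theorem exists_coord_symp (h3 : ∀ x y, Adj D x y → (Ln D x y).ncard = 3) (ha : a ∈ D)
    (hc : Far D a c) :
    ∃ k, Nonempty (Coord (ι := Fin k ⊕ Fin k) D a c (RingHom.id (ZMod 2))
      (Cfsg.sympForm k (ZMod 2))) := by
  classical
  obtain ⟨V, _, _, _, ⟨M⟩⟩ := S.exists_modA ha
  have two : ∀ t : ZMod 2, t + t = 0 := by decide
  have hac : Commute a a := Commute.refl a
  have amem := self_mem_QG (D := D) a
  have hsq := fun {g : G} (hg : g ∈ QG D a) => S.qg_sq h3 ha hg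
  -- the central coordinate
  let lam : G → ZMod 2 := fun g => if g = 1 ∨ Plus D a c g then 0 else 1
  have lam0 : ∀ g, lam g = 0 ↔ g = 1 ∨ Plus D a c g := fun g => by
    simp only [lam]
    split_ifs with h <;> simp [h]
  have lam1 : lam 1 = 0 := (lam0 1).2 (Or.inl rfl)
  have lam_flip : ∀ g ∈ QG D a, lam (a * g) = lam g + 1 := by
    intro g hg
    have hna : ¬ (a = 1 ∨ Plus D a c a) := by
      rintro (k | k)
      exacts [S.ne_one ha k, S.plus_not_zc ha hc k (Or.inr rfl)]
    by_cases hz : Zc a g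
    · rcases hz with rfl | rfl
      · rw [mul_one, lam1, zero_add]
        simp only [lam, if_neg hna]
      · rw [S.sq_self ha, lam1]
        simp only [lam, if_neg hna]
        rfl
    have hne : g ≠ 1 := fun k => hz (Or.inl k)
    have hne' : a * g ≠ 1 := fun k => hz (Or.inr (by
      rw [← inv_eq_of_mul_eq_one_right k, inv_eq S.tset ha]))
    by_cases hp : Plus D a c g
    · have : ¬ (a * g = 1 ∨ Plus D a c (a * g)) := by
        rintro (k | k)
        exacts [hne' k, S.not_plus_mul_a ha hc hp (S.plus_commute ha hc k)]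
      simp only [lam, if_neg this, if_pos (Or.inr hp : g = 1 ∨ Plus D a c g), zero_add]
    · have hp' := (S.plus_or ha hc hg (hsq hg) hz).resolve_left hp
      simp only [lam, if_pos (Or.inr hp' : a * g = 1 ∨ Plus D a c (a * g)),
        if_neg (not_or.2 ⟨hne, hp⟩)]
      rfl
  have normal : ∀ g ∈ QG D a, ∃ g₀ ∈ QG D a, lam g₀ = 0 ∧ (g = g₀ ∨ g = a * g₀) := by
    intro g hg
    rcases (show ∀ t : ZMod 2, t = 0 ∨ t = 1 by decide) (lam g) with k | k
    · exact ⟨g, hg, k, Or.inl rfl⟩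
    · exact ⟨a * g, mul_mem amem hg, by rw [lam_flip g hg, k]; rfl,
        Or.inr (by rw [← mul_assoc, S.sq_self ha, one_mul])⟩
  have inj : ∀ g ∈ QG D a, ∀ h ∈ QG D a, M.π g = M.π h → lam g = lam h → g = h := by
    intro g hg h hh e1 e2
    refine ((M.eq_iff g hg h hh).1 e1).resolve_right fun k => ?_
    rw [k, lam_flip h hh] at e2
    simp at e2
  -- the lines
  have exz : ∀ v : V, ∃ z, (v = 0 ∧ z = a) ∨ (v ≠ 0 ∧ ∃ g, PlusAt D a c z g ∧ M.π g = v) := by
    intro v
    by_cases hv : v = 0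
    · exact ⟨a, Or.inl ⟨hv, rfl⟩⟩
    obtain ⟨g, hg, hgv⟩ := M.surj v
    obtain ⟨g₀, hg₀, hl, hgg⟩ := normal g hg
    have hv₀ : M.π g₀ = v := by
      rcases hgg with rfl | rfl
      exacts [hgv, (M.π_mul_a hg₀).symm.trans hgv]
    obtain ⟨z, hz⟩ := ((lam0 g₀).1 hl).resolve_left fun k => hv (by rw [← hv₀, k, M.π_one])
    exact ⟨z, Or.inr ⟨hv, g₀, hz, hv₀⟩⟩
  choose zz hzz using exz
  have plus_lam : ∀ {z g}, PlusAt D a c z g → lam g = 0 := fun hg => (lam0 _).2 (Or.inr hg.plus)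
  have zz_eq : ∀ {z g}, PlusAt D a c z g → zz (M.π g) = z := by
    intro z g hg
    rcases hzz (M.π g) with ⟨k, -⟩ | ⟨-, g', hg', hgg⟩
    · exact absurd ((M.π_zero_iff hg.mem).1 k) (S.plus_not_zc ha hc hg.plus)
    · rw [inj g' hg'.mem g hg.mem hgg ((plus_lam hg').trans (plus_lam hg).symm)] at hg'
      exact S.plusAt_unique ha hc hg' hg
  have zz_mem : ∀ v, zz v ∈ D ∧ Commute a (zz v) := by
    intro v
    rcases hzz v with ⟨-, k⟩ | ⟨-, g, hg, -⟩
    · rw [k]
      exact ⟨ha, hac⟩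
    · exact ⟨hg.adj.right, hg.adj.comm⟩
  -- the form
  let T : V → G → ZMod 2 := fun v h => if cj h (zz v) = zz v then 0 else 1
  have T_mul : ∀ v, ∀ g ∈ QG D a, ∀ h ∈ QG D a, T v (g * h) = T v g + T v h := by
    intro v g hg h hh
    rcases hzz v with ⟨-, k⟩ | ⟨-, s, hs, -⟩
    · have : ∀ x ∈ QG D a, T v x = 0 := fun x hx =>
        if_pos (by rw [k, cj_eq_self.2 (S.commute_a ha hx).symm])
      rw [this _ (mul_mem hg hh), this g hg, this h hh]
      rfl
    set z := zz v
    have haz := hs.adj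
    have hzL : z ∈ Ln D a z := right_mem_Ln haz.right
    have hza := haz.ne.symm
    simp only [T]
    by_cases h1 : cj h z = z
    · rw [cj_mul_left, h1]
      simp [h1, z]
    · obtain ⟨m1, m2⟩ := S.qg_mem_Ln ha hh haz hzL hza
      by_cases h2 : cj g z = z
      · rw [cj_mul_left, S.line_fix ha haz hg hzL hza h2 m1 m2, if_neg h1, if_pos h2, zero_add]
      · obtain ⟨n1, n2⟩ := S.qg_mem_Ln ha hg haz hzL hza
        rw [cj_mul_left, S.line_three h3 haz m1 m2 h1 n1 n2 h2, S.line_invol ha haz hg hzL hza,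
          if_pos rfl, if_neg h2]
        rfl
  have T_a : ∀ v, ∀ h ∈ QG D a, T v (a * h) = T v h := by
    intro v h hh
    have : cj a (zz v) = zz v := cj_eq_self.2 (zz_mem v).2
    rw [T_mul v a amem h hh]
    simp only [T, if_pos this, zero_add]
  choose lift hlift hliftπ using M.surj
  let B₀ : V → V → ZMod 2 := fun u v => T u (lift v)
  have B_π : ∀ u, ∀ h ∈ QG D a, B₀ u (M.π h) = T u h := by
    intro u h hh
    rcases (M.eq_iff _ (hlift _) h hh).1 (hliftπ (M.π h)) with k | k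
    · exact congrArg (T u) k
    · exact (congrArg (T u) k).trans (T_a u h hh)
  have T_fix : ∀ {z m g h}, PlusAt D a c z g → PlusAt D a c m h →
      (T (M.π g) h = 0 ↔ Commute z m) := by
    intro z m g h hg hh
    simp only [T, zz_eq hg]
    rw [ite_eq_left_iff, cj_eq_self, S.wd_fix_iff hh.adj hh.wd (S.plus_not_zc ha hc hh.plus) hg.adj]
    exact ⟨fun k => by_contra fun j => one_ne_zero (k fun i => j i.symm), fun k i => absurd k.symm i⟩
  have B_zero : ∀ v, B₀ 0 v = 0 := by
    intro v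
    rcases hzz (0 : V) with ⟨-, k⟩ | ⟨k, -⟩
    · exact if_pos (by rw [k, cj_eq_self.2 (S.commute_a ha (hlift v)).symm])
    · exact absurd rfl k
  have B_right : ∀ u v w, B₀ u (v + w) = B₀ u v + B₀ u w := by
    intro u v w
    rw [← hliftπ v, ← hliftπ w, ← M.mul _ (hlift v) _ (hlift w), B_π _ _ (mul_mem (hlift v) (hlift w)),
      T_mul _ _ (hlift v) _ (hlift w), B_π _ _ (hlift v), B_π _ _ (hlift w)]
  have B_symm : ∀ u v, B₀ u v = B₀ v u := by
    intro u v
    rcases hzz u with ⟨rfl, -⟩ | ⟨-, g, hg, rfl⟩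
    · rw [B_zero]
      have := B_right v 0 0
      rw [add_zero, two] at this
      exact this.symm
    rcases hzz v with ⟨rfl, -⟩ | ⟨-, h, hh, rfl⟩
    · have := B_right (M.π g) 0 0
      rw [add_zero, two] at this
      rw [this, B_zero]
    rw [B_π _ _ hh.mem, B_π _ _ hg.mem]
    have e1 := T_fix hg hh
    have e2 := T_fix hh hg
    have e3 : Commute (zz (M.π g)) (zz (M.π h)) ↔ Commute (zz (M.π h)) (zz (M.π g)) :=
      ⟨Commute.symm, Commute.symm⟩
    revert e1 e2
    generalize T (M.π g) h = p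
    generalize T (M.π h) g = q
    intro e1 e2
    have : p = 0 ↔ q = 0 := e1.trans (e3.trans e2.symm)
    exact (show ∀ x y : ZMod 2, (x = 0 ↔ y = 0) → x = y by decide) p q this
  let B : BilinForm (ZMod 2) V := LinearMap.mk₂ (ZMod 2) B₀
    (fun u u' v => by rw [B_symm, B_right, B_symm v, B_symm v])
    (fun t u v => by
      rcases (show ∀ t : ZMod 2, t = 0 ∨ t = 1 by decide) t with rfl | rfl
      · rw [zero_smul, zero_smul, B_zero]
      · rw [one_smul, one_smul])
    B_right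
    (fun t u v => by
      rcases (show ∀ t : ZMod 2, t = 0 ∨ t = 1 by decide) t with rfl | rfl
      · rw [zero_smul, zero_smul, B_symm, B_zero]
      · rw [one_smul, one_smul])
  have hAlt : B.IsAlt := by
    intro u
    show B₀ u u = 0
    rcases hzz u with ⟨rfl, -⟩ | ⟨-, g, hg, rfl⟩
    · exact B_zero 0
    · rw [B_π _ _ hg.mem, T_fix hg hg]
  have hSep : LinearMap.SeparatingLeft B := by
    intro u hu
    by_contra hne
    obtain ⟨g, hg, rfl⟩ := ((hzz u).resolve_left fun k => hne k.1).2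
    obtain ⟨x, hx, hax, hzx⟩ := S.exists_sep hg.adj
    have hA : Adj D a x := ⟨ha, hx, hax, fun k => hzx (k ▸ hg.adj.comm.symm)⟩
    obtain ⟨m, hm, hmc, -, ham, hL⟩ := S.exists_Ln_commute hA hc
    obtain ⟨h, hh⟩ := S.exists_plusAt ham hmc
    have : T (M.π g) h = 0 := by rw [← B_π _ _ hh.mem]; exact hu (M.π h)
    have hzm := (T_fix hg hh).1 this
    exact hzx ((hL.symm ▸ right_mem_Ln hx : x ∈ Ln D a m).2 _ (zz_mem _).1 (zz_mem _).2 hzm.symm).symm
  obtain ⟨k, hk⟩ : ∃ k, Module.finrank (ZMod 2) V = 2 * k := by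
    obtain ⟨m', r, b, -, -, -, h4⟩ := Cfsg.Agent.S0752.result B hAlt
    rcases Nat.eq_zero_or_pos r with hr | hr
    · subst hr
      refine ⟨m', ?_⟩
      rw [Module.finrank_eq_card_basis b]
      simp
      omega
    · exact absurd (hSep _ (h4 ⟨0, hr⟩)) (b.ne_zero _)
  obtain ⟨e, he⟩ := CfsgLib.Sp.exists_std_equiv B hAlt hSep hk
  have hH : ∀ g ∈ QG D a, ∀ h ∈ QG D a,
      Cfsg.sympForm k (ZMod 2) (e.symm (M.π g)) (e.symm (M.π h)) = T (M.π g) h := by
    intro g _ h hh
    rw [← he, e.apply_symm_apply, e.apply_symm_apply]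
    exact B_π _ h hh
  have hself : ∀ v, Cfsg.sympForm k (ZMod 2) v v = 0 := CfsgLib.Sp.sympForm_self
  refine ⟨k, ⟨{
    w := fun g => e.symm (M.π g)
    lam := lam
    form :=
      { two := by decide
        invol := fun _ => rfl
        add := fun u v w => by simp [← CfsgLib.Sp.sympBilin_apply]
        smul := fun t u v => by simp [← CfsgLib.Sp.sympBilin_apply]
        symm := fun u v => by
          rw [RingHom.id_apply, CfsgLib.Sp.sympForm_flip v u]
          exact ZModModule.neg_eq_self _ }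
    w_mul := fun g hg h hh => by rw [M.mul g hg h hh, map_add]
    lam_mul := ?_
    inj := fun g hg h hh e1 e2 => inj g hg h hh (e.symm.injective e1) e2
    cone := fun g _ => by rw [hself]; exact two _
    surj := ?_
    plus_iff := fun g hg => ⟨fun h => ⟨((S.plus_iff ha hc hg).1 h).1, (lam0 g).2 (Or.inr h)⟩,
      fun h => ((lam0 g).1 h.2).resolve_left h.1⟩
    span_line := ?_
    smul_line := ?_
    move := ?_ }⟩⟩
  · intro g hg h hh
    rw [hH h hh g hg]
    obtain ⟨g₀, hg₀, hlg, hgg⟩ := normal g hg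
    obtain ⟨h₀, hh₀, hlh, hhh⟩ := normal h hh
    have key : lam (g₀ * h₀) = T (M.π h₀) g₀ := by
      rcases (lam0 g₀).1 hlg with rfl | ⟨z, hz⟩
      · rw [one_mul, hlh]
        exact (if_pos (cj_one_left _)).symm
      rcases (lam0 h₀).1 hlh with rfl | ⟨m, hm⟩
      · rw [mul_one, hlg, M.π_one, ← B_π _ g₀ hg₀, B_zero]
      by_cases hmz : Commute m z
      · rw [(T_fix hm hz).2 hmz, lam0]
        exact S.plus_mul ha hc hz hm hmz.symm
      · have hT : T (M.π h₀) g₀ = 1 :=
          ((show ∀ t : ZMod 2, t = 0 ∨ t = 1 by decide) _).resolve_left fun j => hmz ((T_fix hm hz).1 j)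
        have := (S.plus_cj ha hc hz hm (fun j => hmz j.symm) (S.qg_abelian h3 ha hh₀ hg₀)).plus
        have hl := (lam0 _).2 (Or.inr this)
        rw [lam_flip _ (mul_mem hg₀ hh₀)] at hl
        rw [hT]
        revert hl
        generalize lam (g₀ * h₀) = t
        revert t
        decide
    have fl : ∀ x ∈ QG D a, lam (a * x) = lam x + 1 := lam_flip
    have hagh : a * g₀ * h₀ = a * (g₀ * h₀) := mul_assoc _ _ _
    rcases hgg with rfl | rfl <;> rcases hhh with rfl | rfl
    · rw [key, hlg, hlh, zero_add, zero_add]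
    · rw [M.π_mul_a hh₀, fl h₀ hh₀, ← mul_assoc, ← (S.commute_a ha hg).eq, mul_assoc,
        fl _ (mul_mem hg hh₀), key, hlg, hlh]
      ring
    · rw [T_a _ _ hg₀, fl g₀ hg₀, hagh, fl _ (mul_mem hg₀ hh), key, hlg, hlh]
      ring
    · rw [M.π_mul_a hh₀, T_a _ _ hg₀, fl g₀ hg₀, fl h₀ hh₀,
        ((S.commute_a ha hg₀).symm).mul_mul_mul_comm, S.sq_self ha, one_mul, key, hlg, hlh]
      simp [two]
  · intro v l _
    obtain ⟨g₀, hg₀, hlg, hgg⟩ := normal (lift (e v)) (hlift _)
    have hπ : M.π g₀ = e v := by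
      rcases hgg with k | k
      · rw [← k, hliftπ]
      · rw [← M.π_mul_a hg₀, ← k, hliftπ]
    rcases (show ∀ t : ZMod 2, t = 0 ∨ t = 1 by decide) l with rfl | rfl
    · exact ⟨g₀, hg₀, by rw [hπ, e.symm_apply_apply], hlg⟩
    · exact ⟨a * g₀, mul_mem amem hg₀, by rw [M.π_mul_a hg₀, hπ, e.symm_apply_apply],
        by rw [lam_flip g₀ hg₀, hlg, zero_add]⟩
  · intro z g h hg hh
    obtain ⟨haz, -, y, hy, hya, hyz, rfl⟩ := hg
    obtain ⟨-, -, y', hy', hy'a, hy'z, rfl⟩ := hh
    exact ⟨1, one_ne_zero, by rw [S.line_three h3 haz hy hya hyz hy' hy'a hy'z, one_smul]⟩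
  · intro z g t hg ht
    exact ⟨g, hg, by rw [((show ∀ t : ZMod 2, t = 0 ∨ t = 1 by decide) t).resolve_left ht, one_smul]⟩
  · intro z y haz hzc hy hya hyz h hh
    have hg : PlusAt D a c z (a * (z * y)) := ⟨haz, hzc, y, hy, hya, hyz, rfl⟩
    rw [hH _ hg.mem h hh]
    simp only [T, zz_eq hg]
    obtain ⟨m1, m2⟩ := S.qg_mem_Ln ha hh haz (right_mem_Ln haz.right) haz.ne.symm
    by_cases k : cj h z = z
    · rw [if_pos k, k]
      exact iff_of_false hyz.symm zero_ne_one
    · rw [if_neg k]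
      exact iff_of_true (S.line_three h3 haz m1 m2 k hy hya hyz) rfl

end Geom

end CfsgLib.ThreeTrans.PolarTwins
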